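import Cfsg.Agent.S3304
import Cfsg.Agent.S3742
import Cfsg.Agent.Lib.Fus.OrderEight

/-!
# A group of order 48 with a self-centralising quaternion normal subgroup and an outside involution
-/

set_option autoImplicit false
set_option linter.style.haveILetI false

namespace Cfsg.Agent.Invol.CentSix

open Subgroup

theorem quatHom_normal : (S3370.quatHom.range).Normal := by
  refine ⟨?_⟩
  rintro _ ⟨q, rfl⟩ y
  have hall : ∀ (y : GL (Fin 2) (ZMod 3)) (q : QuaternionGroup 2),
      ∃ r, S3370.quatMap r = y * S3370.quatMap q * y⁻¹ := by decide +kernel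
  obtain ⟨r, hr⟩ := hall y q
  exact ⟨r, hr⟩

theorem quatHom_cent : centralizer (S3370.quatHom.range : Set (GL (Fin 2) (ZMod 3))) ≤ S3370.quatHom.range := by
  intro y hy
  have hall : ∀ y : GL (Fin 2) (ZMod 3), (∀ q, S3370.quatMap q * y = y * S3370.quatMap q) →
      ∃ r, S3370.quatMap r = y := by decide +kernel
  exact hall y fun q => mem_centralizer_iff.mp hy _ ⟨q, rfl⟩

theorem quatMap_ne_mB : ∀ q, S3370.quatMap q ≠ S3370.mB := by decide +kernel

theorem mB_sq : S3370.mB * S3370.mB = 1 := by decide +kernel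

theorem card_gl_two_three : Nat.card (GL (Fin 2) (ZMod 3)) = 48 := by
  rw [Nat.card_eq_fintype_card]; decide +kernel

/-- Such a group is `GL(2,3)`. -/
theorem iso_gl_two_three {X : Type*} [Group X] [Finite X] (hX : Nat.card X = 48) (Q : Subgroup X) [Q.Normal]
    (hQ : Nat.card Q = 8) (huniq : ∃ z ∈ Q, ∀ q ∈ Q, q * q = 1 → q = 1 ∨ q = z)
    (hna : ¬ ∀ a b : Q, a * b = b * a)
    (hC : centralizer (Q : Set X) ≤ Q) (t : X) (ht : t * t = 1) (htQ : t ∉ Q) :
    Nonempty (X ≃* GL (Fin 2) (ZMod 3)) := by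
  obtain ⟨e0⟩ : Nonempty (Q ≃* QuaternionGroup 2) := by
    rcases Fus.dihedral_or_quaternion_of_card_eight hQ hna with he | he
    · exfalso
      obtain e := Classical.choice he
      obtain ⟨z, -, hz⟩ := huniq
      have key : ∀ g : DihedralGroup 4, g * g = 1 → g ≠ 1 → ((e.symm g : Q) : X) = z := fun g hg hg1 => by
        refine (hz _ (e.symm g).2 ?_).resolve_left fun h => hg1 ?_
        · rw [← coe_mul, ← map_mul, hg, map_one, OneMemClass.coe_one]
        · exact (map_eq_one_iff _ e.symm.injective).mp (Subtype.ext h)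
      have h1 := key (DihedralGroup.sr 0) (by decide) (by decide)
      have h2 := key (DihedralGroup.r 2) (by decide) (by decide)
      exact absurd (e.symm.injective (Subtype.ext (h1.trans h2.symm))) (by decide)
    · exact he
  obtain ⟨E⟩ := S3742.result
  obtain ⟨m1⟩ := S3304.exists_iso E hX Q e0 hC t ht htQ
  haveI := quatHom_normal
  obtain ⟨m2⟩ := S3304.exists_iso E card_gl_two_three S3370.quatHom.range
    (MonoidHom.ofInjective (f := S3370.quatHom) S3370.quatMap_injective).symm quatHom_cent S3370.mB mB_sq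
    (fun ⟨q, hq⟩ => quatMap_ne_mB q hq)
  exact ⟨m1.symm.trans m2⟩

end Cfsg.Agent.Invol.CentSix
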