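import Cfsg.Agent.Lib.Invol.CentSix.SolvU
import Cfsg.Agent.Lib.Invol.CentSix.Gl23
import Cfsg.Agent.Lib.Invol.SD16Core.Main
import Cfsg.Agent.Lib.Classical.DicksonCentral
import Cfsg.Agent.S0483
import Cfsg.Agent.S2916

/-!
# The soluble shape with a small 2-part
-/

set_option autoImplicit false
set_option linter.style.haveILetI false

namespace Cfsg.Agent.Invol.CentSix

open Subgroup

namespace Cfg

variable {G : Type*} [Group G] [Finite G]

theorem isPerfect [IsSimpleGroup G] (hG : ¬ IsMulCommutative G) : Group.IsPerfect G := by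
  refine ⟨(inferInstance : (commutator G).Normal).eq_bot_or_eq_top.resolve_left fun h => hG ⟨⟨fun a b => ?_⟩⟩⟩
  have h1 : a * b * a⁻¹ * b⁻¹ ∈ commutator G := commutator_mem_commutator (mem_top a) (mem_top b)
  rw [h, mem_bot] at h1
  exact mul_inv_eq_iff_eq_mul.mp (mul_inv_eq_one.mp h1)

theorem oddCore_eq_bot [IsSimpleGroup G] {z : G} (hz : orderOf z = 2) : Cfsg.oddCore G = ⊥ := by
  rcases (Grp.pPrimeCore_isNormal (p := 2) (G := G)).eq_bot_or_eq_top with e | e
  · exact e
  · exfalso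
    have h8 := Grp.pPrimeCore_coprime (p := 2) (G := G)
    rw [e, card_top] at h8
    exact absurd (Nat.eq_one_of_dvd_coprimes h8 (hz ▸ _root_.orderOf_dvd_natCard z) dvd_rfl) (by norm_num)

variable {c : Cfg G}

theorem self_cent_of_equiv {P : Type*} [Group P] (e : G ≃* P) :
    orderOf (e c.y) = 6 ∧ centralizer ({e c.y} : Set P) = zpowers (e c.y) := by
  refine ⟨by rw [MulEquiv.orderOf_eq, c.ord], le_antisymm (fun x hx => ?_) ?_⟩
  · obtain ⟨g, rfl⟩ := e.surjective x
    have hg : g ∈ centralizer ({c.y} : Set G) := by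
      rw [mem_centralizer_singleton_iff]
      apply e.injective
      rw [map_mul, map_mul, mem_centralizer_singleton_iff.mp hx]
    rw [c.cent] at hg
    obtain ⟨i, hi⟩ := hg
    exact ⟨i, by rw [← hi]; exact (map_zpow e c.y i).symm⟩
  · rintro _ ⟨i, rfl⟩
    exact mem_centralizer_singleton_iff.mpr ((Commute.refl _).zpow_left i).eq

/-- The linear groups with such an element. -/
theorem psl_card {F : Type} [Field F] [Fintype F] (hodd : Odd (Fintype.card F))
    {g : Matrix.ProjectiveSpecialLinearGroup (Fin 2) F} (hg : orderOf g = 6)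
    (hc : centralizer ({g} : Set (Matrix.ProjectiveSpecialLinearGroup (Fin 2) F)) = zpowers g) :
    Fintype.card F = 11 ∨ Fintype.card F = 13 := by
  obtain ⟨p, hchar⟩ := CharP.exists F
  obtain ⟨n, hp, -⟩ := FiniteField.card F p
  haveI := Fact.mk hp
  have hg1 : g ≠ 1 := fun e => by rw [e, orderOf_one] at hg; omega
  have hg2 : g * g ≠ 1 := fun e => by
    have := orderOf_dvd_of_pow_eq_one (x := g) (n := 2) (by rw [pow_two, e])
    rw [hg] at this; omega
  have hgp : g ^ p ≠ 1 := fun e => by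
    have := orderOf_dvd_of_pow_eq_one e
    rw [hg] at this
    exact absurd (((Nat.dvd_prime hp).mp this).resolve_left (by norm_num) ▸ hp) (by norm_num)
  have h1 := Dickson.centralizer_eq_tor p hg1 (Or.inr hg2)
  have h2 : Nat.card (centralizer ({g} : Set (Matrix.ProjectiveSpecialLinearGroup (Fin 2) F))) = 6 := by
    rw [hc, Nat.card_zpowers, hg]
  rw [h1] at h2
  obtain ⟨-, hdel⟩ | ⟨hdel, -⟩ := Dickson.del_cases F
  · exact absurd hdel (Nat.not_even_iff_odd.mpr hodd)
  · obtain ⟨k, hk⟩ := hodd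
    rcases Dickson.card_tor_semi p hg1 hgp with e | e <;> rw [h2, hdel, hk] at e
    · right; omega
    · left; omega

namespace SolvShape

variable (d : c.SolvShape) {S : Sylow 2 G}

theorem small_z [IsSimpleGroup G] (hG : ¬ IsMulCommutative G) (hS : (S : Subgroup G) ≤ c.C) (hT : d.T = c.Z2) :
    ∃ (F : Type) (_ : Field F) (_ : Fintype F), (Fintype.card F = 11 ∨ Fintype.card F = 13) ∧
        Nonempty (G ≃* Matrix.ProjectiveSpecialLinearGroup (Fin 2) F) := by
  classical
  haveI := Fact.mk Nat.prime_two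
  haveI := isPerfect hG
  obtain ⟨w, hwS, hw, hwz⟩ := c.exists_invol_ne hG hS
  obtain ⟨hw2, hw1⟩ := sq_of_orderOf_two hw
  have hwT : w ∉ d.T := fun h => by
    rw [hT] at h
    rcases c.mem_Z2.mp h with e | e
    · exact hw1 e
    · exact hwz e
  have h4 : Nat.card (S : Subgroup G) = 4 := by rw [d.card_sylow_eq hS hwS hwT, hT, c.card_Z2]
  have hsq : ∀ x ∈ (S : Subgroup G), x * x = 1 := by
    intro x hx
    have hz : ∀ y ∈ c.Z2, y * y = 1 := fun y hy => by
      rcases c.mem_Z2.mp hy with rfl | rfl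
      · exact one_mul 1
      · exact c.z_sq
    by_cases hxT : x ∈ d.T
    · exact hz x (hT ▸ hxT)
    have h1 := d.diff_mem_T hS hx hwS hxT hwT
    rw [hT] at h1
    have hc : Commute w (w⁻¹ * x) := by
      rcases c.mem_Z2.mp h1 with e | e <;> rw [e]
      · exact Commute.one_right w
      · exact c.comm_z (hS hwS)
    have e1 : x = w * (w⁻¹ * x) := by group
    rw [e1, show w * (w⁻¹ * x) * (w * (w⁻¹ * x)) = w * ((w⁻¹ * x) * w) * (w⁻¹ * x) by group, ← hc.eq,
      show w * (w * (w⁻¹ * x)) * (w⁻¹ * x) = w * w * ((w⁻¹ * x) * (w⁻¹ * x)) by group, hw2, hz _ h1, one_mul]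
  haveI : IsKleinFour (S : Subgroup G) := by
    refine ⟨h4, Nat.dvd_antisymm (Monoid.exponent_dvd_of_forall_pow_eq_one fun x => ?_) ?_⟩
    · rw [pow_two]; exact Subtype.ext (hsq x x.2)
    · have h5 := Monoid.order_dvd_exponent (⟨w, hwS⟩ : (S : Subgroup G))
      have h6 : orderOf (⟨w, hwS⟩ : (S : Subgroup G)) = 2 := by rw [← Subgroup.orderOf_coe]; exact hw
      rwa [h6] at h5
  have hres := S0483.result S 2 le_rfl IsKleinFour.nonempty_mulEquiv
  have hO : Cfsg.oddCore G = ⊥ := oddCore_eq_bot c.orderOf_z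
  let e0 : G ≃* G ⧸ Cfsg.oddCore G := (QuotientGroup.quotientBot.symm).trans (QuotientGroup.quotientMulEquivOfEq hO.symm)
  rcases hres with ⟨F, hF, hF', hodd, -, he⟩ | he
  · obtain e := e0.trans (Classical.choice he)
    obtain ⟨hy, hcy⟩ := self_cent_of_equiv (c := c) e
    exact ⟨F, hF, hF', psl_card hodd hy hcy, ⟨e⟩⟩
  · exfalso
    obtain e := e0.trans (Classical.choice he)
    have h7 : 2 ^ 3 ∣ Nat.card G := by
      rw [Nat.card_congr e.toEquiv, nat_card_alternatingGroup, Nat.card_fin]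
      decide
    have h8 := S.pow_dvd_card_of_pow_dvd_card h7
    rw [h4] at h8
    norm_num at h8

theorem small_quat [IsSimpleGroup G] (hG : ¬ IsMulCommutative G) (hS : (S : Subgroup G) ≤ c.C)
    (hT8 : Nat.card d.T = 8) (hTq : ∀ x ∈ d.T, x ∉ c.Z2 → x * x = c.z) :
    (∃ (F : Type) (_ : Field F) (_ : Fintype F), Fintype.card F = 3 ∧
      Nonempty (G ≃* Matrix.ProjectiveSpecialLinearGroup (Fin 3) F)) ∨ Cfsg.Spor.IsoM11 G := by
  classical
  haveI := Fact.mk Nat.prime_two
  obtain ⟨w, hwS, hw, hwz⟩ := c.exists_invol_ne hG hS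
  obtain ⟨hw2, hw1⟩ := sq_of_orderOf_two hw
  have hwC := hS hwS
  have hwT : w ∉ d.T := fun h => c.z_ne (by
    have hnm : w ∉ c.Z2 := fun hm => by
      rcases c.mem_Z2.mp hm with e | e
      · exact hw1 e
      · exact hwz e
    rw [← hTq w h hnm, hw2])
  haveI hKn : (d.K.subgroupOf c.C).Normal := normal_subgroupOf_of_le_normalizer d.K_normal
  set π := QuotientGroup.mk' (d.K.subgroupOf c.C) with hπ
  have hker : ∀ x, π x = 1 ↔ (x : G) ∈ d.K := fun x => by
    rw [hπ, QuotientGroup.mk'_apply, QuotientGroup.eq_one_iff, mem_subgroupOf]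
  have hTK : ∀ x, x ∈ d.T → x ∈ d.K → x = 1 := fun x hx hx' => by
    obtain ⟨k, hk⟩ := IsTwo.of_mem d.T_isTwo hx
    refine orderOf_eq_one_iff.mp (Nat.eq_one_of_dvd_coprimes (d.mem_K.mp hx').2 dvd_rfl ?_)
    have h1 : orderOf x ∣ 8 := hT8 ▸ Subgroup.orderOf_dvd_natCard _ hx
    have h2 : (orderOf x).Coprime 8 := by
      rw [show 8 = 2 ^ 3 by rfl]
      exact Nat.Coprime.pow_right 3 ((d.mem_K.mp hx').2.coprime_dvd_right (by norm_num))
    rw [Nat.eq_one_of_dvd_coprimes h2 dvd_rfl h1]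
    exact one_dvd _
  set Q := (d.T.subgroupOf c.C).map π with hQ
  haveI : (d.T.subgroupOf c.C).Normal := normal_subgroupOf_of_le_normalizer d.T_normal
  haveI : Q.Normal := Normal.map inferInstance π (QuotientGroup.mk'_surjective _)
  have hQinj : ∀ x y : c.C, (x : G) ∈ d.T → (y : G) ∈ d.T → π x = π y → x = y := by
    intro x y hx hy h
    have h1 : π (x * y⁻¹) = 1 := by rw [map_mul, map_inv, h, mul_inv_cancel]
    rw [hker] at h1
    have h2 := hTK _ (d.T.mul_mem hx (d.T.inv_mem hy)) (by simpa using h1)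
    exact Subtype.ext (mul_inv_eq_one.mp h2)
  have hQ8 : Nat.card Q = 8 := by
    rw [← hT8]
    refine (Nat.card_eq_of_bijective
      (fun t : d.T => (⟨π ⟨t, d.T_le t.2⟩, mem_map_of_mem π (mem_subgroupOf.mpr t.2)⟩ : Q)) ⟨?_, ?_⟩).symm
    · intro s t h
      exact Subtype.ext (congrArg Subtype.val
        (hQinj ⟨s, d.T_le s.2⟩ ⟨t, d.T_le t.2⟩ s.2 t.2 (congrArg Subtype.val h)) :)
    · rintro ⟨_, x, hx, rfl⟩
      exact ⟨⟨x, mem_subgroupOf.mp hx⟩, rfl⟩
  -- order of the quotient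
  have hX : Nat.card (c.C ⧸ d.K.subgroupOf c.C) = 48 := by
    have hφ : Function.Surjective d.φ := by
      intro p
      rcases perm3_gen (d.φ ⟨w, hwC⟩) (d.φ c.uC) d.phi_u_three d.hu
        (d.phi_invol_of_isTwo (isTwo_invol hw2)) (fun e => hwT (d.mem_T_of_phi hS hwS e)) p with
        e | e | e | e | e | e <;> rw [e]
      · exact ⟨1, map_one _⟩
      · exact ⟨c.uC, rfl⟩
      · exact ⟨c.uC * c.uC, map_mul _ _ _⟩
      · exact ⟨⟨w, hwC⟩, rfl⟩
      · exact ⟨c.uC * ⟨w, hwC⟩, map_mul _ _ _⟩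
      · exact ⟨c.uC * c.uC * ⟨w, hwC⟩, by rw [map_mul, map_mul]⟩
    have h6 : d.φ.ker.index = 6 := by
      rw [index_ker, MonoidHom.range_eq_top.mpr hφ, card_top, Nat.card_perm, Nat.card_fin]; rfl
    set O := Cfsg.pPrimeCore 2 d.φ.ker
    set P := Cfsg.pCore 2 d.φ.ker
    haveI : O.Normal := Grp.pPrimeCore_isNormal
    haveI : P.Normal := Grp.pCore_isNormal
    have hP8 : Nat.card P = 8 := by
      rw [← hT8, SolvShape.T, card_map_of_injective d.incl_injective]
    have hO : O.index = 8 := by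
      have htop : P ⊔ O = ⊤ := by
        rw [eq_top_iff]
        intro x _
        obtain ⟨k, m, hm, he⟩ := exists_two_split x
        refine mem_of_pow_mem (a := 2 ^ k) (b := m) (Nat.Coprime.pow_left k (Nat.coprime_two_left.mpr hm))
          (mem_sup_right (d.ker_odd _ ?_)) (mem_sup_left (d.ker_sylow_two _ (isTwo_pow_odd x he)))
        exact Odd.of_dvd_nat hm (orderOf_dvd_of_pow_eq_one (by rw [← pow_mul, ← he, pow_orderOf_eq_one]))
      have h1 := Grp.card_sup_mul_card_inf (H := P) (N := O) (le_of_le_of_eq le_top (normalizer_eq_top_iff.mpr inferInstance).symm)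
      have hinf : P ⊓ O = ⊥ := by
        refine Grp.inf_eq_bot_of_coprime ?_
        rw [hP8, show 8 = 2 ^ 3 by rfl]
        exact Nat.Coprime.pow_left 3 (Nat.coprime_comm.mp Grp.pPrimeCore_coprime)
      rw [htop, hinf, card_top, card_bot, mul_one, hP8, ← O.card_mul_index, mul_comm] at h1
      exact Nat.eq_of_mul_eq_mul_right Nat.card_pos h1
    rw [← index_eq_card]
    have hKsub : d.K.subgroupOf c.C = O.map d.φ.ker.subtype := by
      ext x
      rw [mem_subgroupOf]
      constructor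
      · rintro ⟨y, hy, hy'⟩; exact ⟨y, hy, Subtype.ext hy'⟩
      · rintro ⟨y, hy, rfl⟩; exact ⟨y, hy, rfl⟩
    rw [hKsub, index_map_subtype, hO, h6]
  have hC : centralizer (Q : Set (c.C ⧸ d.K.subgroupOf c.C)) ≤ Q := by
    intro q hq
    obtain ⟨x, rfl⟩ := QuotientGroup.mk'_surjective _ q
    -- the lift centralises `T`
    set M := c.C ⊓ centralizer (d.T : Set G) with hM
    have hxM : (x : G) ∈ M := by
      refine ⟨x.2, mem_centralizer_iff.mpr fun t ht => ?_⟩
      have h1 := mem_centralizer_iff.mp hq (π ⟨t, d.T_le ht⟩) (mem_map_of_mem π (mem_subgroupOf.mpr ht))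
      have h2 : π (⟨t, d.T_le ht⟩ * x * (⟨t, d.T_le ht⟩ : c.C)⁻¹ * x⁻¹) = 1 := by
        rw [map_mul, map_mul, map_mul, map_inv, map_inv, h1, mul_inv_cancel_right, mul_inv_cancel]
      rw [hker] at h2
      simp only [coe_mul, coe_inv] at h2
      have h3 : t * (x : G) * t⁻¹ * (x : G)⁻¹ ∈ d.T := by
        rw [show t * (x : G) * t⁻¹ * (x : G)⁻¹ = t * ((x : G) * t⁻¹ * (x : G)⁻¹) by group]
        exact mul_mem ht ((mem_normalizer_iff.mp (d.T_normal x.2) _).mp (inv_mem ht))
      exact mul_inv_eq_iff_eq_mul.mp (mul_inv_eq_one.mp (hTK _ h3 h2))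
    have hMn : c.C ≤ normalizer (M : Set G) := by
      have key : ∀ g ∈ c.C, ∀ y ∈ M, g * y * g⁻¹ ∈ M := fun g hg y hy =>
        ⟨c.C.mul_mem (c.C.mul_mem hg hy.1) (c.C.inv_mem hg), mem_centralizer_iff.mpr fun t ht => by
          have h1 := mem_centralizer_iff.mp hy.2 _ ((mem_normalizer_iff.mp (d.T_normal (inv_mem hg)) t).mp ht)
          rw [inv_inv] at h1
          calc t * (g * y * g⁻¹) = g * ((g⁻¹ * t * g) * y) * g⁻¹ := by group
            _ = g * y * g⁻¹ * t := by rw [h1]; group⟩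
      intro g hg
      refine mem_normalizer_iff.mpr fun y => ⟨key g hg y, fun hy => ?_⟩
      have := key g⁻¹ (inv_mem hg) _ hy
      rwa [show g⁻¹ * (g * y * g⁻¹) * g⁻¹⁻¹ = y by group] at this
    have hM3 : ∀ a ∈ M, ¬ 3 ∣ orderOf a := by
      intro a ha hd
      have h3 := orderOf_pow_orderOf_div (orderOf_pos a).ne' hd
      have haM : a ^ (orderOf a / 3) ∈ M := pow_mem ha _
      have hle : d.T ≤ c.Z2 := fun t ht => c.two_fixed haM.1 h3 (d.T_le ht)
        (mem_centralizer_iff.mp haM.2 t ht) (IsTwo.of_mem d.T_isTwo ht)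
      have := card_le_of_le hle
      rw [hT8, c.card_Z2] at this
      omega
    have hφx : d.φ x = 1 := by
      have key : ∀ a : c.C, (a : G) ∈ M → d.φ a * d.φ a * d.φ a = 1 → d.φ a = 1 := by
        intro a ha h3
        by_contra hne
        refine hM3 _ ha ?_
        rw [← orderOf_eq_three h3 hne, show orderOf (a : G) = orderOf a from Subgroup.orderOf_coe a]
        exact orderOf_map_dvd d.φ a
      have hrot : ∀ σ : Equiv.Perm (Fin 3), σ * σ * σ = 1 ∨ (σ * σ = 1 ∧ σ ≠ 1) := by decide +kernel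
      rcases hrot (d.φ x) with h3 | ⟨h2, hne⟩
      · exact key x hxM h3
      · exfalso
        obtain ⟨h1, h3, -⟩ := perm3_commutator _ _ h2 hne d.phi_u_three d.hu
        refine h1 ?_
        have h4 := key (x * c.uC * x⁻¹ * c.uC⁻¹) (by
          have h5 : (x : G) * (c.u * (x : G)⁻¹ * c.u⁻¹) ∈ M :=
            mul_mem hxM ((mem_normalizer_iff.mp (hMn c.u_mem_C) _).mp (inv_mem hxM))
          simpa [Cfg.uC, mul_assoc] using h5) (by simp only [map_mul, map_inv]; exact h3)
        simpa [map_mul, map_inv] using h4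
    obtain ⟨k, m, hm, he⟩ := exists_two_split (x : G)
    refine mem_of_pow_mem (a := 2 ^ k) (b := m) (Nat.Coprime.pow_left k (Nat.coprime_two_left.mpr hm)) ?_ ?_
    · rw [← map_pow]
      have hK : ((x ^ 2 ^ k : c.C) : G) ∈ d.K := by
        rw [SubmonoidClass.coe_pow]
        refine d.mem_K.mpr ⟨pow_mem x.2 _, ?_⟩
        have hd : orderOf ((x : G) ^ 2 ^ k) ∣ m :=
          orderOf_dvd_of_pow_eq_one (by rw [← pow_mul, ← he, pow_orderOf_eq_one])
        refine Nat.Coprime.coprime_dvd_left hd ?_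
        rw [show 6 = 2 * 3 by rfl]
        refine Nat.Coprime.mul_right (Nat.coprime_two_right.mpr hm)
          (Nat.coprime_comm.mp (Nat.prime_three.coprime_iff_not_dvd.mpr fun h3 => hM3 _ hxM ?_))
        rw [he]; exact h3.mul_left _
      rw [(hker _).mpr hK]; exact one_mem _
    · rw [← map_pow]
      refine mem_map_of_mem π (mem_subgroupOf.mpr (d.mem_T.mpr ⟨(x ^ m : c.C).2, ?_, ?_⟩))
      · show d.φ (x ^ m) = 1
        rw [map_pow, hφx, one_pow]
      · rw [SubmonoidClass.coe_pow]; exact isTwo_pow_odd _ he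
  obtain ⟨e⟩ := iso_gl_two_three hX Q hQ8 (by
      refine ⟨π ⟨c.z, c.z_mem_C⟩, mem_map_of_mem π (mem_subgroupOf.mpr d.z_mem_T), ?_⟩
      rintro _ ⟨x, hx, rfl⟩ h2
      rw [← map_mul] at h2
      have hxT := mem_subgroupOf.mp hx
      have h3 : x * x = 1 := hQinj _ 1 (d.T.mul_mem hxT hxT) d.T.one_mem (h2.trans (map_one π).symm)
      have h4 : (x : G) * x = 1 := congrArg Subtype.val h3
      by_cases hxz : (x : G) ∈ c.Z2
      · rcases c.mem_Z2.mp hxz with e | e
        · left; rw [show x = 1 from Subtype.ext e, map_one]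
        · right; rw [show x = ⟨c.z, c.z_mem_C⟩ from Subtype.ext e]
      · exact absurd ((hTq _ hxT hxz).symm.trans h4) c.z_ne)
    (by
      intro hab
      -- an abelian group in which all elements outside `⟨z⟩` square to `z` is smaller
      obtain ⟨a, ha, haz⟩ := SetLike.not_le_iff_exists.mp (fun hle : d.T ≤ c.Z2 => by
        have := card_le_of_le hle
        rw [hT8, c.card_Z2] at this
        omega)
      set b := c.u * a * c.u⁻¹
      have hb : b ∈ d.T := (mem_normalizer_iff.mp d.u_normalizes a).mp ha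
      have hbz : b ∉ c.Z2 := fun hm => haz ((mem_normalizer_iff.mp (c.Z2_normal c.u_mem_C) a).mpr hm)
      have hc := hab ⟨π ⟨a, d.T_le ha⟩, mem_map_of_mem π (mem_subgroupOf.mpr ha)⟩
        ⟨π ⟨b, d.T_le hb⟩, mem_map_of_mem π (mem_subgroupOf.mpr hb)⟩
      have h1 := hQinj (⟨a, d.T_le ha⟩ * ⟨b, d.T_le hb⟩) (⟨b, d.T_le hb⟩ * ⟨a, d.T_le ha⟩) (d.T.mul_mem ha hb)
        (d.T.mul_mem hb ha) (by rw [map_mul, map_mul]; exact congrArg Subtype.val hc)
      have h2 : a * b = b * a := congrArg Subtype.val h1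
      by_cases hab' : a * b ∈ c.Z2
      · refine haz (Cfg.moved_mod d.T_le d.T_isTwo d.z_mem_T c.u_mem_C c.orderOf_u ha ?_)
        show a⁻¹ * b ∈ c.Z2
        rw [show a⁻¹ * b = (a * a)⁻¹ * (a * b) by group, hTq a ha haz]
        exact mul_mem (inv_mem c.z_mem_Z2) hab'
      · refine c.z_ne ?_
        rw [← hTq _ (d.T.mul_mem ha hb) hab', show a * b * (a * b) = a * (b * a) * b by group, ← h2,
          show a * (a * b) * b = a * a * (b * b) by group, hTq a ha haz, hTq b hb hbz, c.z_sq])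
    hC (π ⟨w, hwC⟩) (by rw [← map_mul, show (⟨w, hwC⟩ : c.C) * ⟨w, hwC⟩ = 1 from Subtype.ext hw2, map_one]) (by
      rintro ⟨x, hx, hxe⟩
      have h1 : π (x⁻¹ * ⟨w, hwC⟩) = 1 := by rw [map_mul, map_inv, hxe, inv_mul_cancel]
      rw [hker] at h1
      simp only [coe_mul, coe_inv] at h1
      have hm : (x : G)⁻¹ * w ∈ (S : Subgroup G) := mul_mem (inv_mem (d.T_le_sylow hS (mem_subgroupOf.mp hx))) hwS
      obtain ⟨k, hk⟩ := IsTwo.of_mem S.2 hm
      have h2 : (x : G)⁻¹ * w = 1 := by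
        refine orderOf_eq_one_iff.mp (Nat.eq_one_of_dvd_coprimes (a := orderOf ((x : G)⁻¹ * w)) (b := 2 ^ k) ?_ dvd_rfl (dvd_of_eq hk))
        exact Nat.Coprime.pow_right k ((d.mem_K.mp h1).2.coprime_dvd_right (by norm_num))
      exact hwT (inv_mul_eq_one.mp h2 ▸ mem_subgroupOf.mp hx))
  set π' := e.toMonoidHom.comp π
  have hsurj : Function.Surjective π' := e.surjective.comp (QuotientGroup.mk'_surjective _)
  have hodd : ¬ 2 ∣ Nat.card π'.ker := by
    intro hd
    obtain ⟨x, hx⟩ := exists_prime_orderOf_dvd_card' 2 hd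
    have hxm : π' x = 1 := x.2
    have hxK : ((x : c.C) : G) ∈ d.K := by
      rw [← hker]
      exact (map_eq_one_iff _ e.injective).mp hxm
    rw [← Subgroup.orderOf_coe, ← Subgroup.orderOf_coe] at hx
    have := (d.mem_K.mp hxK).2
    rw [hx] at this
    norm_num at this
  obtain ⟨e'⟩ := SD16Core.ker_eq_bot hG c.orderOf_z π' hsurj hodd
  exact S2916.result (SmallCent.pResidual_eq_top fun hc => hG (by
    haveI := hc; exact ⟨⟨fun a b => (IsCyclic.commGroup (α := G)).mul_comm a b⟩⟩)) c.z c.orderOf_z ⟨e'⟩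

end SolvShape

end Cfg

end Cfsg.Agent.Invol.CentSix
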