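import Cfsg.Agent.Lib.Invol.CentSix.Quot
import Cfsg.Agent.Lib.Grp.Frattini

/-!
# Overgroups of a Sylow 2-subgroup outside the centraliser: soluble quotient
-/

set_option autoImplicit false
set_option linter.style.haveILetI false

namespace Cfsg.Agent.Invol.CentSix

open Subgroup

/-- An element of order seven in `L`, normalised by `u` and outside `C`, with a closure of order eight. -/
structure SevenData {G : Type*} [Group G] (c : Cfg G) (L : Subgroup G) (g : G) : Prop where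
  mem : g ∈ L
  ord : orderOf g = 7
  rel : c.u * g * c.u⁻¹ = g ^ 2 ∨ c.u * g * c.u⁻¹ = g ^ 4
  notC : g ∉ c.C
  card : Nat.card (closV c L) = 8

theorem perm_three_noncomm : ∃ a b : Equiv.Perm (Fin 3),
    a * b * a⁻¹ * b⁻¹ ≠ 1 ∧ (a * b * a⁻¹ * b⁻¹) * (a * b * a⁻¹ * b⁻¹) * (a * b * a⁻¹ * b⁻¹) = 1 := by
  decide +kernel

/-- The recursion `x₃ = x₁ x₀` in exponent two has period seven. -/
theorem period_seven {A : Type*} [CommGroup A] (hA : ∀ a : A, a * a = 1) (α : MulAut A) (z : A)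
    (h : α (α (α z)) = α z * z ∨ α (α (α z)) = α (α z) * z) : α (α (α (α (α (α (α z)))))) = z := by
  rcases h with h | h
  · have h5 : α (α (α (α (α z)))) = α z * z * α (α z) := by rw [h, map_mul, map_mul, h]
    calc α (α (α (α (α (α (α z)))))) = α (α (α z * z * α (α z))) := by rw [h5]
      _ = α z * z * α (α z) * (α (α z) * α z) := by simp only [map_mul, h]
      _ = z * ((α z * α z) * (α (α z) * α (α z))) := by ac_rfl
      _ = z := by rw [hA, hA, mul_one, mul_one]
  · have h4 : α (α (α (α z))) = α (α z) * z * α z := by rw [h, map_mul, h]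
    have h5 : α (α (α (α (α z)))) = α z * z := by
      rw [h4, map_mul, map_mul, h]
      calc _ = α z * z * (α (α z) * α (α z)) := by ac_rfl
        _ = _ := by rw [hA, mul_one]
    calc α (α (α (α (α (α (α z)))))) = α (α (α z * z)) := by rw [h5]
      _ = α (α z) * z * α (α z) := by rw [map_mul, map_mul, h]
      _ = z * (α (α z) * α (α z)) := by ac_rfl
      _ = z := by rw [hA, mul_one]

variable {G : Type*} [Group G] [Finite G]

/-- A conjugation of a group of order seven by an element of order three. -/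
theorem rel_of_normalised {X : Type*} [Group X] [Finite X] {u g : X} (hu : orderOf u = 3) (hg : orderOf g = 7)
    (hm : u * g * u⁻¹ ∈ zpowers g) (hne : ¬ Commute u g) : u * g * u⁻¹ = g ^ 2 ∨ u * g * u⁻¹ = g ^ 4 := by
  obtain ⟨i, hi⟩ : ∃ i : ℕ, g ^ i = u * g * u⁻¹ :=
    (Submonoid.mem_powers_iff _ _).mp ((isOfFinOrder_of_finite g).mem_powers_iff_mem_zpowers.2 hm)
  have key : ∀ n : ℕ, u * g ^ n * u⁻¹ = g ^ (i * n) := fun n => by rw [← conj_pow, ← hi, pow_mul]
  have h3 : g ^ (i * (i * i)) = g := by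
    rw [← key, ← key, hi]
    calc _ = u * u * u * g * (u * u * u)⁻¹ := by group
      _ = g := by rw [mul_self_three hu]; group
  have h7 : (i * (i * i)) % 7 = 1 := by
    have h8 : g ^ (i * (i * i)) = g ^ 1 := by rw [h3, pow_one]
    rw [pow_eq_pow_iff_modEq, hg] at h8
    exact h8
  have h9 : i % 7 = 1 ∨ i % 7 = 2 ∨ i % 7 = 4 := by
    rw [Nat.mul_mod, Nat.mul_mod i i] at h7
    have := Nat.mod_lt i (show 0 < 7 by norm_num)
    interval_cases hj : i % 7 <;> simp_all
  rw [← hi]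
  have hmod : g ^ i = g ^ (i % 7) := by rw [← hg, pow_mod_orderOf]
  rw [hmod]
  rcases h9 with e | e | e
  · exfalso
    refine hne ?_
    rw [e, pow_one] at hmod
    rw [hmod] at hi
    exact (mul_inv_eq_iff_eq_mul.mp hi.symm)
  · left; rw [e]
  · right; rw [e]

namespace LHyp

variable {c : Cfg G} {S : Sylow 2 G} {L : Subgroup G} (h : LHyp c S L)

include h

theorem no_seven_comm {g : G} (hgL : g ∈ L) (hg : orderOf g = 7) : ¬ Commute c.u g := fun hc => by
  have hgC := h.mem_C_of_comm hgL hc.symm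
  have := c.six_fixed c.u_mem_C c.orderOf_u hgC hc.symm (by rw [hg]; norm_num)
  rw [this, orderOf_one] at hg
  omega

/-- A subgroup of order seven of the quotient normalised by `u` lifts. -/
theorem exists_seven (M : Subgroup (Q L)) (hM : Nat.card M = 7) (hu : h.ubar ∈ normalizer (M : Set (Q L))) :
    ∃ l : L, orderOf (l : G) = 7 ∧ (l : Q L) ∈ M ∧ (l : Q L) ≠ 1 ∧
      (c.u * l * c.u⁻¹ = (l : G) ^ 2 ∨ c.u * l * c.u⁻¹ = (l : G) ^ 4) := by
  haveI := Fact.mk (show Nat.Prime 7 by norm_num)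
  set K := (M.comap (QuotientGroup.mk' (Rsub L))).map L.subtype with hKdef
  have huK : c.u ∈ normalizer (K : Set G) := by
    rw [mem_normalizer_iff]
    intro x
    constructor
    · rintro ⟨y, hy, rfl⟩
      refine ⟨(⟨c.u, h.hu⟩ : L) * y * (⟨c.u, h.hu⟩ : L)⁻¹, ?_, rfl⟩
      show ((((⟨c.u, h.hu⟩ : L) * y * (⟨c.u, h.hu⟩ : L)⁻¹ : L)) : Q L) ∈ M
      exact (mem_normalizer_iff.mp hu _).mp hy
    · rintro ⟨y, hy, e⟩
      refine ⟨(⟨c.u, h.hu⟩ : L)⁻¹ * y * ((⟨c.u, h.hu⟩ : L)⁻¹)⁻¹, ?_, ?_⟩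
      · show ((((⟨c.u, h.hu⟩ : L)⁻¹ * y * ((⟨c.u, h.hu⟩ : L)⁻¹)⁻¹ : L)) : Q L) ∈ M
        exact (mem_normalizer_iff.mp (inv_mem hu) _).mp hy
      · have e' : (y : G) = c.u * x * c.u⁻¹ := e
        simp [e', mul_assoc]
  have hKcard : Nat.card K = 7 * Nat.card (core2 L) := by
    rw [hKdef, card_map_of_injective L.subtype_injective]
    have h1 := (Rsub L).card_mul_index
    have h2 := (M.comap (QuotientGroup.mk' (Rsub L))).card_mul_index
    rw [index_comap_of_surjective _ (QuotientGroup.mk'_surjective _), ← h1] at h2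
    have h3 : (Rsub L).index = Nat.card (Q L) := index_eq_card _
    rw [h3, ← M.card_mul_index, hM, Nat.card_congr (subgroupOfEquivOfLe (core2_le L)).toEquiv,
      ← mul_assoc] at h2
    rw [Nat.eq_of_mul_eq_mul_right (Nat.pos_of_ne_zero M.index_ne_zero_of_finite) h2, mul_comm]
  have hcop : (Nat.card (zpowers c.u)).Coprime (Nat.card K) := by
    rw [Nat.card_zpowers, c.orderOf_u, hKcard]
    exact Nat.Coprime.mul_right (by norm_num) ((Nat.prime_three.coprime_iff_not_dvd).mpr h.not_three_dvd_R)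
  obtain ⟨P, hP, huP⟩ := Grp.exists_invariant_sylow (zpowers c.u) K (zpowers_le.mpr huK) hcop
    (Or.inl inferInstance) 7
  have hPcard : Nat.card P = 7 := by
    obtain ⟨k, hk⟩ := IsPGroup.iff_card.mp hP.2.1
    have h1 := Grp.card_mul_relIndex hP.1
    rw [hk, hKcard] at h1
    have hnd : ¬ 7 ∣ Nat.card (core2 L) := fun hd => by
      obtain ⟨m, hm⟩ := IsPGroup.iff_card.mp (core2_isTwo L)
      rw [hm] at hd
      exact absurd ((show Nat.Prime 7 by norm_num).dvd_of_dvd_pow hd) (by norm_num)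
    rcases k with _ | _ | k
    · exact absurd (show 7 ∣ P.relIndex K from ⟨_, by simpa using h1⟩) hP.2.2
    · simpa using hk
    · exfalso
      refine hnd ⟨7 ^ k * P.relIndex K, ?_⟩
      have h2 : 7 * (7 * (7 ^ k * P.relIndex K)) = 7 * Nat.card (core2 L) := by rw [← h1]; ring
      omega
  obtain ⟨g, hg⟩ := exists_prime_orderOf_dvd_card' (G := P) 7 (by rw [hPcard])
  rw [← Subgroup.orderOf_coe] at hg
  have hPz : P = zpowers (g : G) :=
    (eq_of_le_of_card_ge (zpowers_le.mpr g.2) (by rw [hPcard, Nat.card_zpowers, hg])).symm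
  obtain ⟨l, hl, hle⟩ := hP.1 g.2
  have hle' : (l : G) = g := hle
  refine ⟨l, by rw [hle', hg], hl, ?_, ?_⟩
  · intro e
    rw [QuotientGroup.eq_one_iff, mem_subgroupOf, hle'] at e
    obtain ⟨k, hk⟩ := IsTwo.of_mem (core2_isTwo L) e
    rw [hg] at hk
    exact absurd ((show Nat.Prime 7 by norm_num).dvd_of_dvd_pow (dvd_of_eq hk)) (by norm_num)
  · rw [hle']
    refine rel_of_normalised c.orderOf_u hg ?_ fun hc => h.no_seven_comm (hle' ▸ l.2) hg hc
    rw [← hPz]
    exact (mem_normalizer_iff.mp (huP (mem_zpowers _)) _).mp g.2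

theorem sevenData_transitive {g : G} (hd : SevenData c L g) {v : G} (hv : v ∈ closV c L) (hv1 : v ≠ 1) :
    ∃ i : ℕ, v = g ^ i * c.z * (g ^ i)⁻¹ := by
  classical
  cases nonempty_fintype (closV c L)
  let f : Option (Fin 7) → closV c L := fun o => o.elim 1
    fun i => ⟨g ^ (i : ℕ) * c.z * (g ^ (i : ℕ))⁻¹, h.conj_mem_V (pow_mem hd.mem _)⟩
  have hne : ∀ i : ℕ, g ^ i * c.z * (g ^ i)⁻¹ ≠ 1 := fun i e => c.z_ne (conj_eq_one_iff.mp e)
  have hinj : Function.Injective f := by
    rintro (_ | i) (_ | j) e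
    · rfl
    · exact absurd (congrArg Subtype.val e).symm (hne j)
    · exact absurd (congrArg Subtype.val e) (hne i)
    · have e' : g ^ (i : ℕ) * c.z * (g ^ (i : ℕ))⁻¹ = g ^ (j : ℕ) * c.z * (g ^ (j : ℕ))⁻¹ := congrArg Subtype.val e
      have hm : (g ^ (j : ℕ))⁻¹ * g ^ (i : ℕ) ∈ c.C := by
        refine c.mem_C.mpr ?_
        calc (g ^ (j : ℕ))⁻¹ * g ^ (i : ℕ) * c.z
            = (g ^ (j : ℕ))⁻¹ * (g ^ (i : ℕ) * c.z * (g ^ (i : ℕ))⁻¹) * g ^ (i : ℕ) := by group
          _ = c.z * ((g ^ (j : ℕ))⁻¹ * g ^ (i : ℕ)) := by rw [e']; group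
      by_contra hij
      apply hd.notC
      haveI := Fact.mk (show Nat.Prime 7 by norm_num)
      have hx : (g ^ (j : ℕ))⁻¹ * g ^ (i : ℕ) ≠ 1 := fun e1 => hij (congrArg _ (Fin.ext (by
        have e2 : g ^ (i : ℕ) = g ^ (j : ℕ) := (inv_mul_eq_one.mp e1).symm
        rw [pow_eq_pow_iff_modEq, hd.ord] at e2
        exact (Nat.ModEq.eq_of_lt_of_lt e2 i.2 j.2))))
      have hxz : (g ^ (j : ℕ))⁻¹ * g ^ (i : ℕ) ∈ zpowers g :=
        mul_mem (inv_mem (pow_mem (mem_zpowers g) _)) (pow_mem (mem_zpowers g) _)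
      have htop : zpowers ((g ^ (j : ℕ))⁻¹ * g ^ (i : ℕ)) = zpowers g := by
        refine eq_of_le_of_card_ge (zpowers_le.mpr hxz) ?_
        rw [Nat.card_zpowers, Nat.card_zpowers, hd.ord]
        have hdvd : orderOf ((g ^ (j : ℕ))⁻¹ * g ^ (i : ℕ)) ∣ 7 :=
          (orderOf_dvd_of_mem_zpowers hxz).trans (dvd_of_eq hd.ord)
        rcases (Nat.dvd_prime (show Nat.Prime 7 by norm_num)).mp hdvd with e3 | e3
        · exact absurd (orderOf_eq_one_iff.mp e3) hx
        · omega
      have hg' : g ∈ zpowers ((g ^ (j : ℕ))⁻¹ * g ^ (i : ℕ)) := by rw [htop]; exact mem_zpowers g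
      exact (zpowers_le.mpr hm) hg'
  have hcard : Fintype.card (Option (Fin 7)) = Fintype.card (closV c L) := by
    rw [← Nat.card_eq_fintype_card (α := closV c L), hd.card]; rfl
  obtain ⟨o, ho⟩ := ((Fintype.bijective_iff_injective_and_card f).mpr ⟨hinj, hcard⟩).2 ⟨v, hv⟩
  rcases o with _ | i
  · exact absurd (congrArg Subtype.val ho).symm hv1
  · exact ⟨i, (congrArg Subtype.val ho).symm⟩

theorem sevenData_fpf {g : G} (hd : SevenData c L g) {v : G} (hv : v ∈ closV c L) (hc : Commute g v) : v = 1 := by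
  by_contra hv1
  obtain ⟨i, rfl⟩ := h.sevenData_transitive hd hv hv1
  refine hd.notC (c.mem_C.mpr ?_)
  have h1 := hc.map (MulAut.conj (g ^ i)⁻¹).toMonoidHom
  simp only [MulEquiv.toMonoidHom_eq_coe, MonoidHom.coe_coe, MulAut.conj_apply, inv_inv] at h1
  rw [show (g ^ i)⁻¹ * g * g ^ i = g by group,
    show (g ^ i)⁻¹ * (g ^ i * c.z * (g ^ i)⁻¹) * g ^ i = c.z by group] at h1
  exact h1.eq

theorem sevenData_trivial {g : G} (hd : SevenData c L g) {x : G} (hx : x ∈ core2 L) :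
    x⁻¹ * (g * x * g⁻¹) ∈ closV c L := by
  refine Frob.trivial_mod (core2_isTwo L) h.V_le_R ((core2_le L).trans h.V_normal) hd.ord c.orderOf_u hd.rel
    (core2_normal L hd.mem) (h.V_normal hd.mem) (core2_normal L h.hu) (h.V_normal h.hu) (fun y hy hyu => ?_) x hx
  rcases c.mem_Z2.mp (c.two_fixed c.u_mem_C c.orderOf_u (h.R_le_C hy) hyu
    (IsTwo.of_mem (core2_isTwo L) hy)) with rfl | rfl
  · exact one_mem _
  · exact h.z_mem_V

section

variable (N : Subgroup (Q L)) [N.Normal] (hnil : Group.IsNilpotent N) (hcop : (Nat.card N).Coprime 3)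

include hnil in
theorem N_odd : ¬ 2 ∣ Nat.card N := by
  intro hd
  haveI := Fact.mk Nat.prime_two
  obtain ⟨P⟩ : Nonempty (Sylow 2 N) := inferInstance
  have hPn : (P : Subgroup N).Normal := (Group.isNilpotent_of_finite_tfae.out 0 3 rfl rfl).mp hnil 2 inferInstance P
  haveI := P.characteristic_of_normal hPn
  have h1 := h.quot_core_bot ((P : Subgroup N).map N.subtype) (P.2.map _)
  have h2 := card_map_of_injective (K := (P : Subgroup N)) N.subtype_injective
  rw [h1, card_bot] at h2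
  exact P.not_dvd_index (by
    rw [← (P : Subgroup N).card_mul_index, ← h2, one_mul] at hd
    exact hd)

include hcop in
theorem ubar_notMem : h.ubar ∉ N := fun hm => by
  have := Subgroup.orderOf_dvd_natCard N hm
  rw [h.orderOf_ubar] at this
  exact absurd (Nat.eq_one_of_dvd_coprimes hcop this dvd_rfl) (by norm_num)

include hnil hcop in
/-- Only the identity of `N` fixes the involution. -/
theorem N_stab {n : Q L} (hn : n ∈ N) (hz : h.rho n h.zV = h.zV) : n = 1 := by
  set P := (N.comap (QuotientGroup.mk' (Rsub L))).map L.subtype ⊓ c.C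
  have hPL : P ≤ L ⊓ c.C := inf_le_inf_right _ (map_subtype_le _)
  have hPn : L ⊓ c.C ≤ normalizer (P : Set G) := by
    intro k hk
    rw [mem_normalizer_iff]
    have key : ∀ a ∈ L ⊓ c.C, ∀ x ∈ P, a * x * a⁻¹ ∈ P := by
      rintro a ha x ⟨⟨y, hy, rfl⟩, hxC⟩
      exact ⟨⟨(⟨a, ha.1⟩ : L) * y * (⟨a, ha.1⟩ : L)⁻¹, Normal.conj_mem inferInstance y hy _, rfl⟩,
        c.C.mul_mem (c.C.mul_mem ha.2 hxC) (c.C.inv_mem ha.2)⟩
    refine fun x => ⟨key k hk x, fun hx => ?_⟩
    have := key k⁻¹ (inv_mem hk) _ hx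
    rwa [show k⁻¹ * (k * x * k⁻¹) * k⁻¹⁻¹ = x by group] at this
  have hP2 := h.small (L ⊓ c.C) (le_inf h.hSL h.hS) ⟨h.hu, c.u_mem_C⟩ inf_le_right P hPL hPn (by
    rintro a ⟨⟨y, hy, rfl⟩, -⟩ ha3
    have hy3 : orderOf ((y : Q L)) ∣ 3 := by
      refine (orderOf_map_dvd (QuotientGroup.mk' (Rsub L)) y).trans ?_
      rw [← Subgroup.orderOf_coe]; exact dvd_of_eq ha3
    have hy1 : (y : Q L) = 1 := orderOf_eq_one_iff.mp (Nat.eq_one_of_dvd_coprimes hcop
      (Subgroup.orderOf_dvd_natCard N hy) hy3)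
    rw [QuotientGroup.eq_one_iff, mem_subgroupOf] at hy1
    exact h.not_three_dvd_R (ha3 ▸ Subgroup.orderOf_dvd_natCard _ hy1))
  obtain ⟨l, rfl⟩ := QuotientGroup.mk_surjective n
  obtain ⟨k, hk⟩ := IsTwo.of_mem hP2 (x := (l : G)) ⟨⟨l, hn, rfl⟩, (h.rho_fix_iff l).mp hz⟩
  refine orderOf_eq_one_iff.mp (Nat.eq_one_of_dvd_coprimes (a := orderOf (l : Q L)) (b := 2 ^ k) ?_ dvd_rfl ?_)
  · refine Nat.Coprime.pow_right k ?_
    rw [Nat.coprime_comm, Nat.prime_two.coprime_iff_not_dvd]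
    exact fun hd => h.N_odd N hnil (hd.trans (Subgroup.orderOf_dvd_natCard N hn))
  · rw [← hk, Subgroup.orderOf_coe]; exact orderOf_map_dvd (QuotientGroup.mk' (Rsub L)) l

include hnil hcop in
theorem N_pow_seven {n : Q L} (hn : n ∈ N) : n ^ 7 = 1 := by
  classical
  haveI : IsMulCommutative (closV c L) := ⟨⟨fun a b => Subtype.ext (h.V_comm a.2 b.2).eq⟩⟩
  letI : CommGroup (closV c L) := { (inferInstance : Group (closV c L)) with
    mul_comm := fun a b => Subtype.ext (h.V_comm a.2 b.2).eq }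
  have hsq : ∀ a : closV c L, a * a = 1 := fun a => Subtype.ext (h.V_sq a.2)
  let ψ : MulAut N := MulAut.conjNormal h.ubar
  have hψ : ∀ m : N, ((ψ m : N) : Q L) = h.ubar * m * h.ubar⁻¹ := fun m => MulAut.conjNormal_apply _ _
  have hu3 : h.ubar * h.ubar * h.ubar = 1 := mul_self_three h.orderOf_ubar
  have hF : FpfThree.Fpf ψ := ⟨fun m => Subtype.ext (by
      rw [hψ, hψ, hψ]
      calc _ = h.ubar * h.ubar * h.ubar * (m : Q L) * (h.ubar * h.ubar * h.ubar)⁻¹ := by group
        _ = m := by rw [hu3]; group),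
    fun m hm => by
      have h1 : h.ubar * m * h.ubar⁻¹ = m := by rw [← hψ, hm]
      have h2 := h.cent_ubar (q := (m : Q L)) (mul_inv_eq_iff_eq_mul.mp h1).symm
      refine Subtype.ext (orderOf_eq_one_iff.mp (Nat.eq_one_of_dvd_coprimes hcop
        (Subgroup.orderOf_dvd_natCard N m.2) ?_))
      rw [← h.orderOf_ubar]; exact orderOf_dvd_of_mem_zpowers h2⟩
  set m : N := ⟨n, hn⟩
  set α := h.rho n with hα
  set β := h.rho ((ψ m : N) : Q L) with hβ
  set γ := h.rho ((ψ (ψ m) : N) : Q L) with hγ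
  have hu : h.rho h.ubar h.zV = h.zV := h.ubar_rho_z
  set u := h.rho h.ubar with hud
  have hua : ∀ v, u (α v) = β (u v) := fun v => by
    show (u * α) v = (β * u) v
    rw [hud, hα, hβ, ← map_mul, ← map_mul, hψ]; congr 2; show h.ubar * n = _ * n * _ * _; group
  have hub : ∀ v, u (β v) = γ (u v) := fun v => by
    show (u * β) v = (γ * u) v
    rw [hud, hγ, hβ, ← map_mul, ← map_mul, hψ (ψ m)]; congr 2; group
  have huc : ∀ v, u (γ v) = α (u v) := fun v => by
    show (u * γ) v = (α * u) v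
    rw [hud, hγ, hα, ← map_mul, ← map_mul]
    congr 2
    have h1 : ((ψ (ψ (ψ m)) : N) : Q L) = n := by rw [hF.three]
    rw [hψ] at h1
    rw [← h1]; group
  have hab : ∀ v, α (β v) = β (α v) := fun v => by
    show (α * β) v = (β * α) v
    rw [hα, hβ, ← map_mul, ← map_mul]
    congr 2
    exact congrArg Subtype.val (hF.commute m)
  have hac : ∀ v, α (γ v) = γ (α v) := fun v => by
    show (α * γ) v = (γ * α) v
    rw [hα, hγ, ← map_mul, ← map_mul]
    congr 2
    have h1 := hF.commute (ψ (ψ m))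
    rw [hF.three] at h1
    exact (congrArg Subtype.val h1).symm
  have habc : ∀ v, α (β (γ v)) = v := fun v => by
    show (α * (β * γ)) v = v
    rw [hα, hβ, hγ, ← map_mul, ← map_mul, ← mul_assoc,
      show n * ((ψ m : N) : Q L) * ((ψ (ψ m) : N) : Q L) = 1 from congrArg Subtype.val (hF.prod m), map_one]
    rfl
  set z := h.zV with hzd
  have hs1 : α z * β z * γ z = 1 ∨ α z * β z * γ z = z := h.ubar_fixed _ (by
    show u (α z * β z * γ z) = α z * β z * γ z
    rw [map_mul, map_mul, hua, hub, huc, hu]; ac_rfl)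
  have hs2 : α (β z) * β (γ z) * γ (α z) = 1 ∨ α (β z) * β (γ z) * γ (α z) = z := h.ubar_fixed _ (by
    show u (α (β z) * β (γ z) * γ (α z)) = α (β z) * β (γ z) * γ (α z)
    rw [map_mul, map_mul, hua, hub, huc, hua, hub, huc, hu]; ac_rfl)
  have hid : α (α (α z * β z * γ z)) * α (α (β z) * β (γ z) * γ (α z)) * z = α (α (α z)) := by
    simp only [map_mul]
    have e : α (γ (α z)) = α (α (γ z)) := by rw [← hac]
    rw [habc, e]
    calc α (α (α z)) * α (α (β z)) * α (α (γ z)) * (α (α (β z)) * z * α (α (γ z))) * z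
        = α (α (α z)) * (α (α (β z)) * α (α (β z))) * (α (α (γ z)) * α (α (γ z))) * (z * z) := by ac_rfl
      _ = _ := by rw [hsq, hsq, hsq, mul_one, mul_one, mul_one]
  have hcase : α (α (α z)) = z ∨ α (α (α (α z))) = z ∨ α (α (α (α (α (α (α z)))))) = z := by
    rcases hs1 with e1 | e1 <;> rcases hs2 with e2 | e2 <;> rw [e1, e2] at hid
    · left; rw [← hid]; simp
    · right; right
      simp only [map_one, one_mul] at hid
      exact period_seven hsq α z (Or.inl hid.symm)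
    · right; right
      simp only [map_one, mul_one] at hid
      exact period_seven hsq α z (Or.inr hid.symm)
    · right; left
      rw [← hid, map_mul, map_mul, ← hid]
      calc _ = z * ((α z * α z) * (α (α z) * α (α z))) := by ac_rfl
        _ = z := by rw [hsq, hsq, mul_one, mul_one]
  have hpow : ∀ k : ℕ, h.rho (n ^ k) z = (α ^ k) z := fun k => by rw [map_pow, hα]
  have hodd := h.N_odd N hnil
  have hone : ∀ k : ℕ, (Nat.card N).Coprime k → n ^ k = 1 → n ^ 7 = 1 := fun k hk e => by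
    rw [orderOf_eq_one_iff.mp (Nat.eq_one_of_dvd_coprimes hk (Subgroup.orderOf_dvd_natCard N hn)
      (orderOf_dvd_of_pow_eq_one e)), one_pow]
  rcases hcase with e | e | e
  · exact hone 3 hcop (h.N_stab N hnil hcop (pow_mem hn 3) (by rw [hpow]; simpa [pow_succ] using e))
  · exact hone 4 (Nat.Coprime.pow_right 2 (Nat.coprime_comm.mp (Nat.prime_two.coprime_iff_not_dvd.mpr hodd)))
      (h.N_stab N hnil hcop (pow_mem hn 4) (by rw [hpow]; simpa [pow_succ] using e))
  · exact h.N_stab N hnil hcop (pow_mem hn 7) (by rw [hpow]; simpa [pow_succ] using e)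

end

end LHyp

end Cfsg.Agent.Invol.CentSix
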