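import Cfsg.Agent.Lib.Invol.CentSix.Alpha

/-!
# Overgroups of a Sylow 2-subgroup outside the centraliser: soluble quotient, conclusion
-/

set_option autoImplicit false
set_option linter.style.haveILetI false

namespace Cfsg.Agent.Invol.CentSix

open Subgroup

variable {G : Type*} [Group G] [Finite G]

/-- In a soluble quotient the Sylow subgroup is the core. -/
theorem LHyp.alpha {c : Cfg G} {S : Sylow 2 G} {L : Subgroup G} (h : LHyp c S L) (N : Subgroup (LHyp.Q L))
    [N.Normal] (hnil : Group.IsNilpotent N) (hcop : (Nat.card N).Coprime 3)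
    (hq : Nat.card (LHyp.Q L ⧸ N) = 3 ∨ Nonempty (LHyp.Q L ⧸ N ≃* Equiv.Perm (Fin 3))) :
    (S : Subgroup G) = core2 L ∧ ∃ g, SevenData c L g := by
  classical
  haveI := Fact.mk Nat.prime_two
  letI : CommGroup (closV c L) := { (inferInstance : Group (closV c L)) with
    mul_comm := fun a b => Subtype.ext (h.V_comm a.2 b.2).eq }
  have hsq : ∀ a : closV c L, a * a = 1 := fun a => Subtype.ext (h.V_sq a.2)
  have hd : Nat.card (LHyp.Q L ⧸ N) = 3 ∨ Nat.card (LHyp.Q L ⧸ N) = 6 := by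
    rcases hq with e | he
    · exact Or.inl e
    · obtain e := Classical.choice he
      right; rw [Nat.card_congr e.toEquiv, Nat.card_perm, Nat.card_fin]; rfl
  have hodd := h.N_odd N hnil
  have hX : Nat.card (LHyp.Q L) = Nat.card (LHyp.Q L ⧸ N) * Nat.card N := card_eq_card_quotient_mul_card_subgroup N
  -- the image of the stabiliser covers the quotient
  set St : Subgroup (LHyp.Q L) := (c.C.subgroupOf L).map (QuotientGroup.mk' (LHyp.Rsub L))
  have hSt : ∀ q ∈ St, h.rho q h.zV = h.zV := by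
    rintro _ ⟨l, hl, rfl⟩
    exact (h.rho_fix_iff l).mpr (mem_subgroupOf.mp hl)
  have huSt : h.ubar ∈ St := ⟨⟨c.u, h.hu⟩, mem_subgroupOf.mpr c.u_mem_C, rfl⟩
  set π := QuotientGroup.mk' N
  have h3St : 3 ∣ Nat.card (St.map π) := by
    have h1 : π h.ubar ≠ 1 := fun e => h.ubar_notMem N hcop ((QuotientGroup.eq_one_iff _).mp e)
    have h2 : orderOf (π h.ubar) = 3 := by
      refine orderOf_eq_three ?_ h1
      rw [← map_mul, ← map_mul, mul_self_three h.orderOf_ubar, map_one]
    rw [← h2]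
    exact Subgroup.orderOf_dvd_natCard _ (mem_map_of_mem π huSt)
  have htop : St.map π = ⊤ := by
    rcases hd with e | e
    · refine eq_top_of_card_eq _ (Nat.dvd_antisymm (card_subgroup_dvd_card _) ?_)
      rw [e]; exact h3St
    · obtain ⟨m, hm, hm'⟩ := h.card_sylow
      have hne : ¬ (S : Subgroup G) ≤ core2 L := fun hle => by
        have heq := le_antisymm hle (core2_le_sylow S h.hSL)
        rw [h.card_L, heq, hX, e, Nat.mul_left_cancel_iff Nat.card_pos] at hm'
        rw [hm'] at hm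
        rw [Nat.odd_iff] at hm
        omega
      obtain ⟨s, hs, hsR⟩ := SetLike.not_le_iff_exists.mp hne
      have hsq1 : ((⟨s, h.hSL hs⟩ : L) : LHyp.Q L) ≠ 1 := fun e1 =>
        hsR (mem_subgroupOf.mp ((QuotientGroup.eq_one_iff _).mp e1))
      have hsSt : ((⟨s, h.hSL hs⟩ : L) : LHyp.Q L) ∈ St := ⟨_, mem_subgroupOf.mpr (h.hS hs), rfl⟩
      obtain ⟨k, hk⟩ := IsTwo.of_mem S.2 hs
      have hs1 : π ((⟨s, h.hSL hs⟩ : L) : LHyp.Q L) ≠ 1 := fun e1 => by
        refine hsq1 (orderOf_eq_one_iff.mp (Nat.eq_one_of_dvd_coprimes (a := Nat.card N) (b := 2 ^ k) ?_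
          (Subgroup.orderOf_dvd_natCard N ((QuotientGroup.eq_one_iff _).mp e1)) ?_))
        · exact Nat.Coprime.pow_right k (Nat.coprime_comm.mp (Nat.prime_two.coprime_iff_not_dvd.mpr hodd))
        · refine (orderOf_map_dvd (QuotientGroup.mk' (LHyp.Rsub L)) _).trans ?_
          rw [← Subgroup.orderOf_coe]; exact dvd_of_eq hk
      have h2St : 2 ∣ Nat.card (St.map π) := by
        obtain ⟨j, hj0, hj⟩ : ∃ j, j ≠ 0 ∧ orderOf (π ((⟨s, h.hSL hs⟩ : L) : LHyp.Q L)) = 2 ^ j := by
          have hd2 : orderOf (π ((⟨s, h.hSL hs⟩ : L) : LHyp.Q L)) ∣ 2 ^ k := by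
            refine (orderOf_map_dvd π _).trans ((orderOf_map_dvd (QuotientGroup.mk' (LHyp.Rsub L)) _).trans ?_)
            rw [← Subgroup.orderOf_coe]; exact dvd_of_eq hk
          obtain ⟨j, -, hj⟩ := (Nat.dvd_prime_pow Nat.prime_two).mp hd2
          refine ⟨j, fun e0 => hs1 ?_, hj⟩
          rw [e0, pow_zero] at hj
          exact orderOf_eq_one_iff.mp hj
        exact (dvd_pow_self 2 hj0).trans (hj ▸ Subgroup.orderOf_dvd_natCard _ (mem_map_of_mem π hsSt))
      refine eq_top_of_card_eq _ (Nat.dvd_antisymm (card_subgroup_dvd_card _) ?_)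
      rw [e]
      exact Nat.Coprime.mul_dvd_of_dvd_of_dvd (by norm_num : Nat.Coprime 2 3) h2St h3St
  have hcover : ∀ q, ∃ n ∈ N, h.rho q h.zV = h.rho n h.zV := by
    intro q
    have hm : π q ∈ St.map π := htop ▸ mem_top _
    obtain ⟨k, hk, hkq⟩ := hm
    refine ⟨q * k⁻¹, ?_, ?_⟩
    · rw [← QuotientGroup.eq_one_iff]
      show π (q * k⁻¹) = 1
      rw [map_mul, map_inv, hkq, mul_inv_cancel]
    · have hk1 := hSt _ (inv_mem hk)
      rw [map_mul, MulAut.mul_apply, hk1]
  -- `N` is a non-trivial 7-group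
  haveI := Fact.mk (show Nat.Prime 7 by norm_num)
  have hNne : N ≠ ⊥ := by
    intro hN
    refine h.notC fun l hl => ?_
    obtain ⟨n, hn, hn'⟩ := hcover ((⟨l, hl⟩ : L) : LHyp.Q L)
    rw [hN, mem_bot] at hn
    rw [hn, map_one, MulAut.one_apply] at hn'
    exact (h.rho_fix_iff _).mp hn'
  haveI : Nontrivial N := (nontrivial_iff_ne_bot N).mpr hNne
  haveI := hnil
  obtain ⟨a0, ha0, ha1⟩ : ∃ a : N, a ∈ center N ∧ a ≠ 1 := by
    rcases (Subgroup.bot_or_exists_ne_one (center N)) with e | ⟨a, ha, ha1⟩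
    · exact absurd e (Group.IsNilpotent.center_ne_bot N)
    · exact ⟨a, ha, ha1⟩
  let ψ : MulAut N := MulAut.conjNormal h.ubar
  have hψ : ∀ m : N, ((ψ m : N) : LHyp.Q L) = h.ubar * m * h.ubar⁻¹ := fun m => MulAut.conjNormal_apply _ _
  have h7 : ∀ m : N, m ^ 7 = 1 := fun m => Subtype.ext (by simpa using h.N_pow_seven N hnil hcop m.2)
  have hψc : ∀ m ∈ center N, ψ m ∈ center N := fun m hm => mem_center_iff.mpr fun k => by
    obtain ⟨k, rfl⟩ := ψ.surjective k
    rw [← map_mul, ← map_mul, mem_center_iff.mp hm k]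
  have hu3 : h.ubar * h.ubar * h.ubar = 1 := mul_self_three h.orderOf_ubar
  have hthree : ∀ m : N, ψ (ψ (ψ m)) = m := fun m => Subtype.ext (by
    rw [hψ, hψ, hψ]
    calc _ = h.ubar * h.ubar * h.ubar * (m : LHyp.Q L) * (h.ubar * h.ubar * h.ubar)⁻¹ := by group
      _ = m := by rw [hu3]; group)
  have hfix : ∀ m : N, ψ m = m → m = 1 := fun m hm => by
    have h1 : h.ubar * m * h.ubar⁻¹ = m := by rw [← hψ, hm]
    have h2 := h.cent_ubar (q := (m : LHyp.Q L)) (mul_inv_eq_iff_eq_mul.mp h1).symm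
    refine Subtype.ext (orderOf_eq_one_iff.mp (Nat.eq_one_of_dvd_coprimes hcop
      (Subgroup.orderOf_dvd_natCard N m.2) ?_))
    rw [← h.orderOf_ubar]; exact orderOf_dvd_of_mem_zpowers h2
  have hprod : ∀ m : N, m * ψ m * ψ (ψ m) = 1 := fun m => (FpfThree.Fpf.mk hthree hfix).prod m
  obtain ⟨b, hb, hb1, hbψ⟩ : ∃ b : N, b ∈ center N ∧ b ≠ 1 ∧ (ψ b = b ^ 2 ∨ ψ b = b ^ 4) := by
    by_cases hb : ψ a0 * a0 ^ 3 = 1
    · refine ⟨a0, ha0, ha1, Or.inr ?_⟩
      rw [eq_inv_of_mul_eq_one_left hb, ← mul_right_inj (a0 ^ 3), mul_inv_cancel, ← pow_add]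
      exact (h7 a0).symm
    · refine ⟨ψ a0 * a0 ^ 3, mul_mem (hψc _ ha0) (pow_mem ha0 3), hb, Or.inl ?_⟩
      have hc : Commute (ψ a0) a0 := mem_center_iff.mp ha0 _
      have h2 : ψ (ψ a0) = (a0 * ψ a0)⁻¹ := eq_inv_of_mul_eq_one_right (hprod a0)
      rw [map_mul, map_pow, h2, hc.pow_right 3 |>.mul_pow, ← pow_mul, show 3 * 2 = 6 by rfl,
        mul_inv_rev, (hc.inv_inv).eq]
      have ha6 : a0⁻¹ = a0 ^ 6 := by
        refine inv_eq_of_mul_eq_one_right ?_
        rw [← pow_succ', h7]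
      have e3 : (ψ a0)⁻¹ * ψ a0 ^ 3 = ψ a0 ^ 2 := by rw [pow_succ' _ 2, inv_mul_cancel_left]
      rw [mul_assoc, e3, ← ha6]
      exact (hc.symm.inv_left.pow_right 2).eq
  have hbc : ∀ m : N, Commute (m : LHyp.Q L) (b : LHyp.Q L) := fun m => congrArg Subtype.val (mem_center_iff.mp hb m)
  obtain ⟨w, hw3, hwb, hwfix, hwz⟩ : ∃ w : LHyp.Q L, w * w * w = 1 ∧ w * (b : LHyp.Q L) * w⁻¹ = (b : LHyp.Q L) ^ 2 ∧
      (∀ v, h.rho w v = v → v = 1 ∨ v = h.zV) ∧ h.rho w h.zV = h.zV := by
    rcases hbψ with e | e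
    · exact ⟨h.ubar, hu3, by rw [← hψ, e, SubmonoidClass.coe_pow], h.ubar_fixed, h.ubar_rho_z⟩
    · refine ⟨h.ubar * h.ubar, ?_, ?_, fun v hv => ?_, ?_⟩
      · calc _ = h.ubar * h.ubar * h.ubar * (h.ubar * h.ubar * h.ubar) := by group
          _ = 1 := by rw [hu3, one_mul]
      · have h8 : ψ (ψ b) = b ^ 2 := by
          rw [e, map_pow, e, ← pow_mul, show 4 * 4 = 7 + 7 + 2 by rfl, pow_add, pow_add, h7, one_mul, one_mul]
        rw [← SubmonoidClass.coe_pow, ← h8, hψ, hψ]; group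
      · refine h.ubar_fixed v ?_
        rw [map_mul, MulAut.mul_apply] at hv
        have h9 : (h.rho h.ubar * (h.rho h.ubar * h.rho h.ubar)) v = v := by
          rw [← map_mul, ← map_mul, ← mul_assoc, hu3, map_one, MulAut.one_apply]
        rw [MulAut.mul_apply, MulAut.mul_apply, hv] at h9
        exact h9
      · rw [map_mul, MulAut.mul_apply, h.ubar_rho_z, h.ubar_rho_z]
  have hb7 : (b : LHyp.Q L) ^ 7 = 1 := by rw [← SubmonoidClass.coe_pow, h7]; rfl
  have hbz : h.rho (b : LHyp.Q L) h.zV ≠ h.zV := fun e => hb1 (Subtype.ext (h.N_stab N hnil hcop b.2 e))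
  have hgen : closure {a : closV c L | ∃ n, Commute n (b : LHyp.Q L) ∧ a = h.rho n h.zV} = ⊤ := by
    rw [eq_top_iff]
    intro v _
    suffices hs : ∀ x (hx : x ∈ closV c L),
        (⟨x, hx⟩ : closV c L) ∈ closure {a : closV c L | ∃ n, Commute n (b : LHyp.Q L) ∧ a = h.rho n h.zV} from
      hs v.1 v.2
    intro x hx
    induction hx using closure_induction with
    | mem x hx =>
      obtain ⟨l, hl, rfl⟩ := hx
      obtain ⟨n, hn, hn'⟩ := hcover ((⟨l, hl⟩ : L) : LHyp.Q L)
      exact subset_closure ⟨n, hbc ⟨n, hn⟩, hn'⟩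
    | one => exact one_mem _
    | mul x y _ _ hx hy => exact mul_mem hx hy
    | inv x _ hx => exact inv_mem hx
  have hV8 : Nat.card (closV c L) ≤ 8 :=
    module_card_le hsq h.zV h.rho (b : LHyp.Q L) w hb7 hw3 hwb hwfix hwz hbz hgen
  -- `N` acts regularly on the non-identity elements
  have hV1 : ∀ n : LHyp.Q L, h.rho n h.zV ≠ 1 := fun n e =>
    c.z_ne (congrArg Subtype.val ((h.rho n).injective (e.trans (map_one _).symm)))
  let f : Option N → closV c L := fun o => o.elim 1 fun n => h.rho n h.zV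
  have hf : Function.Injective f := by
    rintro (_ | n) (_ | m) e
    · rfl
    · exact absurd e.symm (hV1 _)
    · exact absurd e (hV1 _)
    · congr 1
      have h1 := h.N_stab N hnil hcop (n := (m : LHyp.Q L)⁻¹ * n) (mul_mem (inv_mem m.2) n.2) (by
        rw [map_mul, MulAut.mul_apply, show h.rho n h.zV = h.rho m h.zV from e, ← MulAut.mul_apply, ← map_mul,
          inv_mul_cancel, map_one, MulAut.one_apply])
      exact Subtype.ext (inv_mul_eq_one.mp h1).symm
  have hNle : Nat.card N + 1 ≤ Nat.card (closV c L) := by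
    rw [← Finite.card_option]; exact Nat.card_le_card_of_injective f hf
  have hN7 : Nat.card N = 7 := by
    obtain ⟨k, hk⟩ := IsPGroup.iff_card.mp (show IsPGroup 7 N from fun m => ⟨1, by rw [pow_one, h7]⟩)
    rcases k with _ | _ | k
    · exact absurd (card_eq_one.mp (by rw [hk, pow_zero])) hNne
    · rw [hk, pow_one]
    · rw [pow_succ, pow_succ] at hk
      have : 49 ≤ Nat.card N := by
        rw [hk, mul_assoc]; exact Nat.le_mul_of_pos_left 49 (pow_pos (by norm_num) k)
      omega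
  -- the quotient has odd order
  have hq3 : Nat.card (LHyp.Q L ⧸ N) = 3 := by
    rcases hq with e | he
    · exact e
    exfalso
    obtain e := Classical.choice he
    obtain ⟨a, a', hne, hthree'⟩ := perm_three_noncomm
    obtain ⟨x, hx⟩ := QuotientGroup.mk_surjective (e.symm a)
    obtain ⟨x', hx'⟩ := QuotientGroup.mk_surjective (e.symm a')
    -- automorphisms of a group of order seven commute
    have hNz : zpowers b = ⊤ := eq_top_of_card_eq _ (by
      rw [Nat.card_zpowers, hN7]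
      exact orderOf_eq_prime (h7 b) hb1)
    have haut : ∀ φ φ' : MulAut N, φ * φ' = φ' * φ := by
      intro φ φ'
      obtain ⟨i, hi⟩ := mem_zpowers_iff.mp (hNz ▸ mem_top (φ b))
      obtain ⟨j, hj⟩ := mem_zpowers_iff.mp (hNz ▸ mem_top (φ' b))
      refine MulEquiv.ext fun m => ?_
      obtain ⟨k, rfl⟩ := mem_zpowers_iff.mp (hNz ▸ mem_top m)
      show φ (φ' (b ^ k)) = φ' (φ (b ^ k))
      rw [map_zpow, map_zpow, map_zpow, map_zpow, ← hi, ← hj, map_zpow, map_zpow, ← hi, ← hj]
      simp only [← zpow_mul]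
      congr 1
      ring
    set d := x * x' * x⁻¹ * x'⁻¹ with hddef
    have hd' : e (d : LHyp.Q L ⧸ N) = a * a' * a⁻¹ * a'⁻¹ := by
      rw [hddef, QuotientGroup.mk_mul, QuotientGroup.mk_mul, QuotientGroup.mk_mul, QuotientGroup.mk_inv,
        QuotientGroup.mk_inv, hx, hx', map_mul, map_mul, map_mul, map_inv, map_inv, MulEquiv.apply_symm_apply,
        MulEquiv.apply_symm_apply]
    have hdc : MulAut.conjNormal (H := N) d = 1 := by
      rw [hddef, map_mul, map_mul, map_mul, map_inv, map_inv, haut (MulAut.conjNormal x), mul_assoc,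
        mul_assoc, ← mul_assoc (MulAut.conjNormal x), mul_inv_cancel, one_mul, mul_inv_cancel]
    have hker : ψ = 1 := by
      -- `u` lies in `N` times a power of the commutator
      let K : Subgroup (LHyp.Q L) := (MulAut.conjNormal (H := N)).ker
      have hdK : d ∈ K := hdc
      have hNK : N ≤ K := fun m hm => MulEquiv.ext fun k => Subtype.ext (by
        rw [MulAut.conjNormal_apply, MulAut.one_apply]
        obtain ⟨i, hi⟩ := mem_zpowers_iff.mp (hNz ▸ mem_top (⟨m, hm⟩ : N))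
        obtain ⟨j, hj⟩ := mem_zpowers_iff.mp (hNz ▸ mem_top k)
        rw [show m = ((b ^ i : N) : LHyp.Q L) by rw [hi], show (k : LHyp.Q L) = ((b ^ j : N) : LHyp.Q L) by rw [hj],
          ← coe_inv, ← coe_mul, ← coe_mul, ← zpow_add, ← zpow_neg, ← zpow_add, show i + j + -i = j by ring])
      have hsub : orderOf (d : LHyp.Q L ⧸ N) = 3 := by
        rw [← e.orderOf_eq, hd']
        exact orderOf_eq_three hthree' hne
      have h3 : orderOf (π h.ubar) = 3 := by
        refine orderOf_eq_three ?_ fun e1 => h.ubar_notMem N hcop ((QuotientGroup.eq_one_iff _).mp e1)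
        rw [← map_mul, ← map_mul, hu3, map_one]
      have hKcard : 3 ∣ Nat.card (K.map π) := by
        rw [← hsub]; exact Subgroup.orderOf_dvd_natCard _ (mem_map_of_mem π hdK)
      have hu' : π h.ubar ∈ K.map π := by
        haveI := Fact.mk Nat.prime_three
        have hc6 : Nat.card (LHyp.Q L ⧸ N) = 6 := by
          rw [Nat.card_congr e.toEquiv, Nat.card_perm, Nat.card_fin]; rfl
        haveI hKn : (K.map π).Normal := Normal.map inferInstance π (QuotientGroup.mk'_surjective N)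
        have hidx : (K.map π).index ∣ 2 := by
          obtain ⟨t, ht⟩ := hKcard
          have hm := (K.map π).card_mul_index
          rw [hc6, ht] at hm
          exact ⟨t, by rw [mul_comm]; nlinarith⟩
        rw [← QuotientGroup.eq_one_iff, ← orderOf_eq_one_iff]
        refine Nat.eq_one_of_dvd_coprimes (by norm_num : Nat.Coprime 3 2) ?_ ?_
        · exact (orderOf_map_dvd (QuotientGroup.mk' (K.map π)) _).trans (dvd_of_eq h3)
        · exact (_root_.orderOf_dvd_natCard _).trans (by rw [← index_eq_card]; exact hidx)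
      obtain ⟨k, hk, hk'⟩ := hu'
      have hum : k⁻¹ * h.ubar ∈ N := QuotientGroup.eq.mp hk'
      have := mul_mem hk (hNK hum)
      rwa [mul_inv_cancel_left] at this
    exact hb1 (hfix b (by rw [hker]; rfl))
  have hX21 : Nat.card (LHyp.Q L) = 21 := by rw [hX, hq3, hN7]
  have hSR : (S : Subgroup G) = core2 L := by
    obtain ⟨m, hm, hm'⟩ := h.card_sylow
    refine (eq_of_le_of_card_ge (core2_le_sylow S h.hSL) ?_).symm
    have hd1 : Nat.card (S : Subgroup G) ∣ Nat.card (core2 L) := by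
      refine Nat.Coprime.dvd_of_dvd_mul_right (k := Nat.card (S : Subgroup G)) (n := 21) ?_ ?_
      · obtain ⟨k, hk⟩ := IsPGroup.iff_card.mp S.2
        rw [hk]; exact Nat.Coprime.pow_left k (by norm_num)
      · rw [← hX21, ← h.card_L, ← hm']; exact dvd_mul_right _ _
    exact Nat.le_of_dvd Nat.card_pos hd1
  refine ⟨hSR, ?_⟩
  have huN : h.ubar ∈ normalizer (N : Set (LHyp.Q L)) := by
    rw [normalizer_eq_top]; exact mem_top _
  obtain ⟨l, hl7, hlN, hl1, hrel⟩ := h.exists_seven N hN7 huN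
  exact ⟨l, l.2, hl7, hrel, fun hC => hl1 (h.N_stab N hnil hcop hlN ((h.rho_fix_iff l).mpr hC)), by omega⟩

end Cfsg.Agent.Invol.CentSix
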