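import Cfsg.Agent.Lib.Invol.CentSix.Shapes
import Cfsg.Agent.Lib.Grp.Basic

/-!
# The shape with the alternating group of degree five: the Sylow subgroup
-/

set_option autoImplicit false
set_option linter.style.haveILetI false

namespace Cfsg.Agent.Invol.CentSix

open Subgroup

abbrev A5 := alternatingGroup (Fin 5)

theorem four_fix_mul : ∀ (i : Fin 5) (a b : A5), ((a : Equiv.Perm (Fin 5)) i = i ∧ a * a = 1) →
    ((b : Equiv.Perm (Fin 5)) i = i ∧ b * b = 1) →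
    ((a * b : A5) : Equiv.Perm (Fin 5)) i = i ∧ a * b * (a * b) = 1 := by
  decide +kernel

/-- The four-group fixing `i`. -/
def fourFix (i : Fin 5) : Subgroup A5 where
  carrier := {σ | (σ : Equiv.Perm (Fin 5)) i = i ∧ σ * σ = 1}
  one_mem' := ⟨rfl, one_mul 1⟩
  mul_mem' := fun {a b} ha hb => four_fix_mul i a b ha hb
  inv_mem' := fun {a} ha => by
    have : a⁻¹ = a := inv_eq_of_mul_eq_one_left ha.2
    rw [this]; exact ha

theorem mem_fourFix {i : Fin 5} {σ : A5} : σ ∈ fourFix i ↔ (σ : Equiv.Perm (Fin 5)) i = i ∧ σ * σ = 1 := Iff.rfl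

theorem card_fourFix (i : Fin 5) : Nat.card (fourFix i) = 4 := by
  have h : ∀ i : Fin 5, Fintype.card {σ : A5 // (σ : Equiv.Perm (Fin 5)) i = i ∧ σ * σ = 1} = 4 := by decide +kernel
  rw [← h i, ← Nat.card_eq_fintype_card]
  rfl

theorem a5_fixed : ∀ s : A5, s * s * s = 1 → ∃ i, (s : Equiv.Perm (Fin 5)) i = i := by decide +kernel

theorem a5_stab : ∀ (i : Fin 5) (s σ : A5), s * s * s = 1 → s ≠ 1 → (s : Equiv.Perm (Fin 5)) i = i →
    (σ : Equiv.Perm (Fin 5)) i = i → ∃ j : Fin 3, (σ * s ^ (j : ℕ)) * (σ * s ^ (j : ℕ)) = 1 := by decide +kernel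

theorem a5_five_comm : ∀ (i : Fin 5) (σ : A5), σ * σ * σ * σ * σ = 1 → σ ≠ 1 →
    ∃ τ : A5, (τ : Equiv.Perm (Fin 5)) i = i ∧ σ * (τ * σ⁻¹ * τ⁻¹) ≠ 1 ∧
      σ * (τ * σ⁻¹ * τ⁻¹) * (σ * (τ * σ⁻¹ * τ⁻¹)) * (σ * (τ * σ⁻¹ * τ⁻¹)) = 1 := by
  decide +kernel

theorem a5_orders : ∀ σ : A5, σ * σ = 1 ∨ σ * σ * σ = 1 ∨ σ * σ * σ * σ * σ = 1 := by decide +kernel

theorem a5_moves : ∀ (i k : Fin 5) (v : A5), (v : Equiv.Perm (Fin 5)) i = i → v * v = 1 → v ≠ 1 → k ≠ i →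
    (v : Equiv.Perm (Fin 5)) k ≠ k := by decide +kernel

theorem a5_move : ∀ i j : Fin 5, ∃ σ : A5, (σ : Equiv.Perm (Fin 5)) i = j := by decide +kernel

theorem a5_cycle : ∀ i j k : Fin 5, i ≠ j → j ≠ k → i ≠ k → ∃ σ : A5, σ * σ * σ = 1 ∧ σ ≠ 1 ∧
    (σ : Equiv.Perm (Fin 5)) i = j ∧ (σ : Equiv.Perm (Fin 5)) j = k := by decide +kernel

theorem a5_fix_pair : ∀ i j : Fin 5, ∃ σ : A5, σ * σ * σ = 1 ∧ σ ≠ 1 ∧
    (σ : Equiv.Perm (Fin 5)) i = i ∧ (σ : Equiv.Perm (Fin 5)) j = j := by decide +kernel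

namespace Cfg

variable {G : Type*} [Group G] {c : Cfg G}

namespace AltShape

variable (d : c.AltShape)

/-- The normal 2-subgroup. -/
def T : Subgroup G := d.φ.ker.map c.C.subtype

theorem mem_T {x : G} : x ∈ d.T ↔ ∃ h : x ∈ c.C, d.φ ⟨x, h⟩ = 1 := by
  constructor
  · rintro ⟨y, hy, rfl⟩; exact ⟨y.2, hy⟩
  · rintro ⟨h, hx⟩; exact ⟨⟨x, h⟩, hx, rfl⟩

theorem T_le : d.T ≤ c.C := fun _ hx => (d.mem_T.mp hx).1

theorem T_normal : c.C ≤ normalizer (d.T : Set G) := by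
  intro g hg
  have key : ∀ a ∈ c.C, ∀ x ∈ d.T, a * x * a⁻¹ ∈ d.T := fun a ha x hx => by
    obtain ⟨h, h1⟩ := d.mem_T.mp hx
    refine d.mem_T.mpr ⟨c.C.mul_mem (c.C.mul_mem ha h) (c.C.inv_mem ha), ?_⟩
    show d.φ (⟨a, ha⟩ * ⟨x, h⟩ * (⟨a, ha⟩ : c.C)⁻¹) = 1
    rw [map_mul, map_mul, h1, mul_one, map_inv, mul_inv_cancel]
  refine mem_normalizer_iff.mpr fun x => ⟨key g hg x, fun hx => ?_⟩
  have := key g⁻¹ (inv_mem hg) _ hx
  rwa [show g⁻¹ * (g * x * g⁻¹) * g⁻¹⁻¹ = x by group] at this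

theorem z_mem_T : c.z ∈ d.T := d.mem_T.mpr ⟨c.z_mem_C, d.ker_z _ c.z_mem_Z2⟩

theorem Z2_le_T : c.Z2 ≤ d.T := zpowers_le.mpr d.z_mem_T

theorem sq_T {x : G} (hx : x ∈ d.T) : x * x ∈ c.Z2 := by
  obtain ⟨h, h1⟩ := d.mem_T.mp hx
  exact d.sq ⟨x, h⟩ h1

theorem comm_T {x y : G} (hx : x ∈ d.T) (hy : y ∈ d.T) : x * y * x⁻¹ * y⁻¹ ∈ c.Z2 := by
  obtain ⟨h, h1⟩ := d.mem_T.mp hx
  obtain ⟨h', h2⟩ := d.mem_T.mp hy
  exact d.comm ⟨x, h⟩ ⟨y, h'⟩ h1 h2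

theorem pow_four {x : G} (hx : x ∈ d.T) : x ^ 4 = 1 := by
  rcases c.mem_Z2.mp (d.sq_T hx) with e | e
  · rw [show 4 = 2 * 2 by rfl, pow_mul, pow_two x, e, one_pow]
  · rw [show 4 = 2 * 2 by rfl, pow_mul, pow_two x, e, pow_two, c.z_sq]

theorem T_isTwo : IsPGroup 2 d.T := fun x => ⟨2, Subtype.ext (d.pow_four x.2)⟩

theorem orderOf_phi_u : orderOf (d.φ c.uC) ∣ 3 := by
  refine orderOf_dvd_of_pow_eq_one ?_
  rw [← map_pow, show c.uC ^ 3 = 1 from Subtype.ext (by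
    simp only [SubmonoidClass.coe_pow, OneMemClass.coe_one]
    show c.u ^ 3 = 1
    rw [← c.orderOf_u, pow_orderOf_eq_one]), map_one]

theorem phi_u_ne : d.φ c.uC ≠ 1 := fun e => by
  have h : c.u ∈ d.T := d.mem_T.mpr ⟨c.u_mem_C, e⟩
  have := orderOf_dvd_of_pow_eq_one (d.pow_four h)
  rw [c.orderOf_u] at this
  omega

theorem phi_u_three : d.φ c.uC * d.φ c.uC * d.φ c.uC = 1 := by
  rw [← map_mul, ← map_mul, show c.uC * c.uC * c.uC = 1 from Subtype.ext (mul_self_three c.orderOf_u), map_one]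

/-- The preimage of a subgroup of the alternating group. -/
def pre (V : Subgroup A5) : Subgroup G := (V.comap d.φ).map c.C.subtype

theorem mem_pre {V : Subgroup A5} {x : G} : x ∈ d.pre V ↔ ∃ h : x ∈ c.C, d.φ ⟨x, h⟩ ∈ V := by
  constructor
  · rintro ⟨y, hy, rfl⟩; exact ⟨y.2, hy⟩
  · rintro ⟨h, hx⟩; exact ⟨⟨x, h⟩, hx, rfl⟩

variable [Finite G]

theorem card_pre (V : Subgroup A5) : Nat.card (d.pre V) = Nat.card V * Nat.card d.T := by
  rw [AltShape.pre, AltShape.T, card_map_of_injective (subtype_injective _), card_map_of_injective (subtype_injective _)]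
  have h1 := (V.comap d.φ).card_mul_index
  rw [index_comap_of_surjective _ d.surj] at h1
  have h2 := d.φ.ker.card_mul_index
  rw [index_ker, MonoidHom.range_eq_top.mpr d.surj, card_top, ← V.card_mul_index, ← h1, ← mul_assoc] at h2
  rw [mul_comm]
  exact (Nat.eq_of_mul_eq_mul_right (Nat.pos_of_ne_zero V.index_ne_zero_of_finite) h2).symm

/-- A Sylow 2-subgroup of `C` normalised by `u`. -/
theorem exists_sylow_data : ∃ (S : Sylow 2 G) (i : Fin 5), (S : Subgroup G) ≤ c.C ∧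
    c.u ∈ normalizer ((S : Subgroup G) : Set G) ∧ (d.φ c.uC : Equiv.Perm (Fin 5)) i = i ∧
    (∀ x, x ∈ (S : Subgroup G) ↔ ∃ h : x ∈ c.C, d.φ ⟨x, h⟩ ∈ fourFix i) ∧
    Nat.card (S : Subgroup G) = 4 * Nat.card d.T := by
  haveI := Fact.mk Nat.prime_two
  obtain ⟨i, hi⟩ := a5_fixed _ d.phi_u_three
  obtain ⟨S₀, hS₀⟩ := c.exists_sylow
  set P := d.pre (fourFix i)
  have hP : Nat.card P = 4 * Nat.card d.T := by rw [d.card_pre, card_fourFix]
  have hC : Nat.card c.C = 60 * Nat.card d.T := by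
    have h := d.card_pre ⊤
    rw [card_top, AltShape.pre, comap_top, ← MonoidHom.range_eq_map, range_subtype] at h
    rw [h, nat_card_alternatingGroup, Nat.card_fin]
    rfl
  obtain ⟨a, ha⟩ := IsPGroup.iff_card.mp d.T_isTwo
  obtain ⟨b, hb⟩ := IsPGroup.iff_card.mp S₀.2
  have hPp : IsPGroup 2 P := IsPGroup.of_card (n := a + 2) (by rw [hP, ha, pow_add]; ring)
  obtain ⟨S, hS⟩ := hPp.exists_le_sylow
  have hcard : Nat.card (S : Subgroup G) = Nat.card (S₀ : Subgroup G) := by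
    rw [Sylow.card_eq_multiplicity, Sylow.card_eq_multiplicity]
  have hb' : b ≤ a + 2 := by
    have h1 := card_dvd_of_le hS₀
    rw [hb, hC, ha, show (60 : ℕ) * 2 ^ a = 15 * 2 ^ (a + 2) by rw [pow_add]; ring] at h1
    exact (Nat.pow_dvd_pow_iff_le_right (by norm_num)).mp
      ((Nat.Coprime.pow_left b (by norm_num : Nat.Coprime 2 15)).dvd_of_dvd_mul_left h1)
  have hPS : P = (S : Subgroup G) := by
    refine eq_of_le_of_card_ge hS ?_
    rw [hcard, hb, hP, ha, show (4 : ℕ) * 2 ^ a = 2 ^ (a + 2) by rw [pow_add]; ring]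
    exact Nat.pow_le_pow_right two_pos hb'
  refine ⟨S, i, hPS ▸ fun x hx => (d.mem_pre.mp hx).1, ?_, hi, fun x => by rw [← hPS]; exact d.mem_pre, by rw [← hPS, hP]⟩
  rw [← hPS]
  have hu : ∀ σ ∈ fourFix i, d.φ c.uC * σ * (d.φ c.uC)⁻¹ ∈ fourFix i := by
    intro σ hσ
    obtain ⟨h1, h2⟩ := mem_fourFix.mp hσ
    refine mem_fourFix.mpr ⟨?_, by rw [conj_mul, h2]; group⟩
    rw [coe_mul, coe_mul, coe_inv, Equiv.Perm.mul_apply, Equiv.Perm.mul_apply,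
      show (d.φ c.uC : Equiv.Perm (Fin 5))⁻¹ i = i from Equiv.Perm.inv_eq_iff_eq.mpr hi.symm, h1, hi]
  have hmap : P.map (MulAut.conj c.u).toMonoidHom ≤ P := by
    rintro _ ⟨x, hx, rfl⟩
    obtain ⟨h, h1⟩ := d.mem_pre.mp hx
    refine d.mem_pre.mpr ⟨c.C.mul_mem (c.C.mul_mem c.u_mem_C h) (c.C.inv_mem c.u_mem_C), ?_⟩
    show d.φ (c.uC * ⟨x, h⟩ * c.uC⁻¹) ∈ fourFix i
    rw [map_mul, map_mul, map_inv]
    exact hu _ h1
  have heq := eq_of_le_of_card_ge hmap (by rw [card_map_of_injective (MulEquiv.injective _)])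
  refine mem_normalizer_iff.mpr fun x => ⟨fun hx => heq ▸ mem_map_of_mem _ hx, fun hx => ?_⟩
  rw [← heq] at hx
  obtain ⟨y, hy, hy'⟩ := hx
  exact (MulAut.conj c.u).injective hy' ▸ hy

/-- An element of order three over an element of order three. -/
theorem exists_lift_three {σ : A5} (h3 : σ * σ * σ = 1) (hne : σ ≠ 1) :
    ∃ a : c.C, orderOf (a : G) = 3 ∧ d.φ a = σ := by
  obtain ⟨x, rfl⟩ := d.surj σ
  have hx : ((x : G) * x * x) ∈ d.T := d.mem_T.mpr ⟨(x * x * x).2, by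
    show d.φ (x * x * x) = 1
    rw [map_mul, map_mul, h3]⟩
  have h12 := d.pow_four hx
  have hφ : d.φ (x ^ 4) = d.φ x := by
    rw [map_pow, pow_succ, pow_succ, pow_two, h3, one_mul]
  refine ⟨x ^ 4, orderOf_eq_three ?_ fun e => hne ?_, hφ⟩
  · rw [SubmonoidClass.coe_pow, ← pow_add, ← pow_add, show 4 + 4 + 4 = 3 * 4 by rfl, pow_mul, show (x : G) ^ 3 = x * x * x by rw [pow_succ, pow_two]]
    exact h12
  · rw [← hφ, show x ^ 4 = 1 from Subtype.ext e, map_one]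

/-- A normal subgroup of a subgroup over the point stabiliser, without elements of order three, is a 2-group. -/
theorem small {Y : Subgroup G} (hY : Y ≤ c.C) {i : Fin 5}
    (hYi : ∀ σ : A5, (σ : Equiv.Perm (Fin 5)) i = i → ∃ y ∈ Y, ∃ h : y ∈ c.C, d.φ ⟨y, h⟩ = σ)
    {N : Subgroup G} (hNY : N ≤ Y) (hn : Y ≤ normalizer (N : Set G)) (h3 : ∀ a ∈ N, orderOf a ≠ 3) :
    IsPGroup 2 N := by
  haveI := Fact.mk Nat.prime_two
  have hC := hNY.trans hY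
  have no3 : ∀ a (ha : a ∈ N), d.φ ⟨a, hC ha⟩ * d.φ ⟨a, hC ha⟩ * d.φ ⟨a, hC ha⟩ = 1 → d.φ ⟨a, hC ha⟩ = 1 := by
    intro a ha h
    by_contra hne
    have hd : 3 ∣ orderOf a := by
      rw [← orderOf_eq_three h hne, show orderOf a = orderOf (⟨a, hC ha⟩ : c.C) by rw [← Subgroup.orderOf_coe]]
      exact orderOf_map_dvd d.φ _
    exact h3 _ (pow_mem ha _) (orderOf_pow_orderOf_div (orderOf_pos a).ne' hd)
  intro x
  obtain ⟨a, ha⟩ := x
  have hsq : d.φ ⟨a, hC ha⟩ * d.φ ⟨a, hC ha⟩ = 1 := by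
    rcases a5_orders (d.φ ⟨a, hC ha⟩) with e | e | e
    · exact e
    · rw [no3 a ha e, mul_one]
    · by_contra hne
      obtain ⟨τ, hτi, hne', hτ⟩ := a5_five_comm i _ e (fun e' => hne (by rw [e', mul_one]))
      obtain ⟨y, hyY, hyC, rfl⟩ := hYi τ hτi
      have hm : a * (y * a⁻¹ * y⁻¹) ∈ N := mul_mem ha ((mem_normalizer_iff.mp (hn hyY) _).mp (inv_mem ha))
      have heq : d.φ ⟨_, hC hm⟩ =
          d.φ ⟨a, hC ha⟩ * (d.φ ⟨y, hyC⟩ * (d.φ ⟨a, hC ha⟩)⁻¹ * (d.φ ⟨y, hyC⟩)⁻¹) := by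
        rw [← map_inv, ← map_inv, ← map_mul, ← map_mul, ← map_mul]; rfl
      exact hne' (heq ▸ no3 _ hm (by rw [heq]; exact hτ))
  have haT : a * a ∈ d.T := d.mem_T.mpr ⟨mul_mem (hC ha) (hC ha), by
    show d.φ (⟨a, hC ha⟩ * ⟨a, hC ha⟩) = 1
    rw [map_mul, hsq]⟩
  refine ⟨3, Subtype.ext ?_⟩
  show a ^ (2 ^ 3) = 1
  rw [show (2 : ℕ) ^ 3 = 2 * 4 by rfl, pow_mul, pow_two]
  exact d.pow_four haT

/-- A normal subgroup of `C` without elements of order three lies in `T`. -/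
theorem core {N : Subgroup G} (hN : N ≤ c.C) (hn : c.C ≤ normalizer (N : Set G))
    (h3 : ∀ a ∈ N, orderOf a ≠ 3) : N ≤ d.T := by
  haveI : IsSimpleGroup A5 := alternatingGroup.isSimpleGroup_five
  haveI : (N.subgroupOf c.C).Normal := normal_subgroupOf_of_le_normalizer hn
  haveI := Normal.map (H := N.subgroupOf c.C) inferInstance d.φ d.surj
  rcases (inferInstance : ((N.subgroupOf c.C).map d.φ).Normal).eq_bot_or_eq_top with e | e
  · intro x hx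
    refine d.mem_T.mpr ⟨hN hx, ?_⟩
    have h1 := mem_map_of_mem d.φ (show (⟨x, hN hx⟩ : c.C) ∈ N.subgroupOf c.C from mem_subgroupOf.mpr hx)
    rwa [e, mem_bot] at h1
  · exfalso
    obtain ⟨σ, h31, hne, -, -⟩ := a5_fix_pair 0 1
    obtain ⟨⟨x, hxC⟩, hx, rfl⟩ : σ ∈ (N.subgroupOf c.C).map d.φ := e ▸ mem_top σ
    have hxN : x ∈ N := mem_subgroupOf.mp hx
    have hd : 3 ∣ orderOf x := by
      rw [← orderOf_eq_three h31 hne, show orderOf x = orderOf (⟨x, hxC⟩ : c.C) by rw [← Subgroup.orderOf_coe]]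
      exact orderOf_map_dvd d.φ _
    exact h3 _ (pow_mem hxN _) (orderOf_pow_orderOf_div (orderOf_pos x).ne' hd)

end AltShape

end Cfg

end Cfsg.Agent.Invol.CentSix
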