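import Cfsg.Agent.Lib.Invol.CentSix.AltU
import Cfsg.Agent.S1644

/-!
# The shape with the alternating group: trivial kernel

If `T` is `⟨z⟩` then `C` is the direct product of `⟨z⟩` and the alternating group, by transfer.
-/

set_option autoImplicit false
set_option linter.style.haveILetI false

namespace Cfsg.Agent.Invol.CentSix

open Subgroup

theorem a5_trans : ∀ (i : Fin 5) (s : A5), s * s * s = 1 → s ≠ 1 → (s : Equiv.Perm (Fin 5)) i = i →
    ∀ a : A5, (a : Equiv.Perm (Fin 5)) i = i ∧ a * a = 1 → a ≠ 1 →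
    ∀ b : A5, (b : Equiv.Perm (Fin 5)) i = i ∧ b * b = 1 → b ≠ 1 →
      b = a ∨ b = s * a * s⁻¹ ∨ b = s * s * a * (s * s)⁻¹ := by
  decide +kernel

namespace Cfg

namespace AltShape

variable {G : Type*} [Group G] [Finite G] {c : Cfg G} {d : c.AltShape}

theorem isoJ1 [IsSimpleGroup G] (hG : ¬ IsMulCommutative G) (D : d.SData) (hT : d.T = c.Z2) :
    Cfsg.Spor.IsoJ1 G := by
  classical
  have hker : ∀ x : c.C, d.φ x = 1 → (x : G) ∈ c.Z2 := fun x hx => hT ▸ d.mem_T.mpr ⟨x.2, hx⟩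
  have h8 : Nat.card (D.S : Subgroup G) = 8 := by rw [D.card, hT, c.card_Z2]
  obtain ⟨w, hwS, hw, hwz⟩ := c.exists_invol_ne hG D.le
  obtain ⟨hwC, hwφ⟩ := (D.mem w).mp hwS
  obtain ⟨hw2, hw1⟩ := sq_of_orderOf_two hw
  have hwφ1 : d.φ ⟨w, hwC⟩ ≠ 1 := fun e => (c.mem_Z2.mp (hker _ e)).elim hw1 hwz
  have hconj : ∀ (g : G), g ∈ c.C → g * w * g⁻¹ * (g * w * g⁻¹) = 1 := fun g _ => by rw [conj_mul, hw2]; group
  have hsq : ∀ x ∈ (D.S : Subgroup G), x * x = 1 := by
    intro x hx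
    obtain ⟨hxC, hxφ⟩ := (D.mem x).mp hx
    by_cases hx1 : d.φ ⟨x, hxC⟩ = 1
    · exact Z2_sq (hker _ hx1)
    have key : ∀ g : c.C, d.φ ⟨x, hxC⟩ = d.φ g * d.φ ⟨w, hwC⟩ * (d.φ g)⁻¹ → x * x = 1 := by
      intro g hg
      have h1 := hker ((g * ⟨w, hwC⟩ * g⁻¹)⁻¹ * ⟨x, hxC⟩) (by
        rw [map_mul, map_inv, map_mul, map_mul, map_inv, hg, inv_mul_cancel])
      simp only [coe_mul, coe_inv] at h1
      rw [sq_congr (mul_mem (mul_mem g.2 hwC) (inv_mem g.2)) h1]
      exact hconj _ g.2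
    rcases a5_trans D.i _ d.phi_u_three d.phi_u_ne D.fix_i _ (mem_fourFix.mp hwφ) hwφ1 _ (mem_fourFix.mp hxφ) hx1
      with e | e | e
    · exact key 1 (by rw [e, map_one, one_mul, inv_one, mul_one])
    · exact key c.uC e
    · exact key (c.uC * c.uC) (by rw [e, map_mul])
  have hcomm : ∀ x ∈ (D.S : Subgroup G), ∀ y ∈ (D.S : Subgroup G), x * y = y * x := fun x hx y hy => by
    rw [eq_inv_of_mul_eq_one_left (hsq _ (mul_mem hx hy)), mul_inv_rev, inv_eq_of_mul_eq_one_left (hsq x hx),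
      inv_eq_of_mul_eq_one_left (hsq y hy)]
  -- a complement of `z` in the Sylow subgroup
  have hzS : c.z ∈ (D.S : Subgroup G) := c.z_mem_sylow D.le
  set w' := c.u * w * c.u⁻¹
  have hw'S : w' ∈ (D.S : Subgroup G) := (mem_normalizer_iff.mp D.u_mem w).mp hwS
  have hw'2 : w' * w' = 1 := hconj _ c.u_mem_C
  set A := zpowers w ⊔ zpowers w'
  have hAS : A ≤ (D.S : Subgroup G) := sup_le (zpowers_le.mpr hwS) (zpowers_le.mpr hw'S)
  have hw'n : w' ∈ normalizer (zpowers w : Set G) := mem_normalizer_of_conj fun x hx => by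
    rw [hcomm w' hw'S x (zpowers_le.mpr hwS hx), mul_inv_cancel_right]; exact hx
  have hwmem : ∀ {x : G}, x ∈ zpowers w → x = 1 ∨ x = w := by
    rintro x ⟨i, rfl⟩
    show w ^ i = 1 ∨ w ^ i = w
    obtain ⟨j, rfl | rfl⟩ := i.even_or_odd'
    · left; rw [zpow_mul, zpow_two, hw2, one_zpow]
    · right; rw [zpow_add, zpow_mul, zpow_two, hw2, one_zpow, one_mul, zpow_one]
  have hw'ne : w' ∉ zpowers w := fun h => by
    rcases hwmem h with e | e
    · exact hw1 (conj_eq_one_iff.mp e)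
    · have h1 : w ∈ c.Z2 := c.two_fixed c.u_mem_C c.orderOf_u hwC
        (show w * c.u = c.u * w from (mul_inv_eq_iff_eq_mul.mp e).symm) (isTwo_invol hw2)
      exact (c.mem_Z2.mp h1).elim hw1 hwz
  have hA4 : Nat.card A = 4 := by
    rw [card_sup_two hw'n (by rw [hw'2]; exact one_mem _) hw'ne, Nat.card_zpowers, hw]
  have hzA : c.z ∉ A := fun h => by
    rcases (mem_sup_two hw'n (by rw [hw'2]; exact one_mem _)).mp h with h1 | h1
    · rcases hwmem h1 with e | e
      · exact c.z_ne e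
      · exact hwz e.symm
    · rcases hwmem h1 with e | e
      · have e' : c.z = w' := (inv_mul_eq_one.mp e).symm
        exact hwz (by
          calc w = c.u⁻¹ * w' * c.u := by simp only [w']; group
            _ = c.u⁻¹ * c.z * c.u := by rw [← e']
            _ = c.z := by rw [mul_assoc, (c.comm_z c.u_mem_C).eq.symm, inv_mul_cancel_left])
      · -- `w` and its conjugate agree modulo `z`
        refine (c.mem_Z2.mp (moved_mod (T := (D.S : Subgroup G)) D.le D.S.2 hzS c.u_mem_C c.orderOf_u hwS ?_)).elim hw1 hwz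
        show w⁻¹ * w' ∈ c.Z2
        have e' : w' = c.z * w⁻¹ := by rw [← e]; simp only [w']; group
        rw [inv_eq_of_mul_eq_one_left hw2] at e' ⊢
        rw [e', ← mul_assoc, ← (c.comm_z hwC).symm.eq, mul_assoc, hw2, mul_one]
        exact c.z_mem_Z2
  let A' := A.subgroupOf (D.S : Subgroup G)
  have hidx : A'.index = 2 := by
    have := A'.card_mul_index
    rw [Nat.card_congr (subgroupOfEquivOfLe hAS).toEquiv, hA4, h8] at this
    omega
  haveI : A'.Normal := normal_of_index_eq_two hidx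
  have hq : Nat.card ((D.S : Subgroup G) ⧸ A') = 2 := by rw [← index_eq_card, hidx]
  haveI := Fact.mk Nat.prime_two
  haveI : IsCyclic ((D.S : Subgroup G) ⧸ A') := isCyclic_of_prime_card hq
  let eq2 : (D.S : Subgroup G) ⧸ A' ≃* Multiplicative (ZMod 2) :=
    mulEquivOfCyclicCardEq (by rw [hq, Nat.card_eq_fintype_card]; rfl)
  -- transfer
  let incl : (D.S : Subgroup G).subgroupOf c.C →* (D.S : Subgroup G) := (subgroupOfEquivOfLe D.le).toMonoidHom
  let ϕ : (D.S : Subgroup G).subgroupOf c.C →* Multiplicative (ZMod 2) :=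
    (eq2.toMonoidHom.comp (QuotientGroup.mk' A')).comp incl
  let θ : c.C →* Multiplicative (ZMod 2) := MonoidHom.transfer ϕ
  have hcardC : Nat.card c.C = 120 := by
    have h := d.card_pre ⊤
    rw [card_top, AltShape.pre, comap_top, ← MonoidHom.range_eq_map, range_subtype] at h
    rw [h, hT, c.card_Z2, nat_card_alternatingGroup, Nat.card_fin]
    rfl
  have hindex : ((D.S : Subgroup G).subgroupOf c.C).index = 15 := by
    have := ((D.S : Subgroup G).subgroupOf c.C).card_mul_index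
    rw [Nat.card_congr (subgroupOfEquivOfLe D.le).toEquiv, h8, hcardC] at this
    omega
  have hz15 : c.z ^ 15 = c.z := by rw [pow_succ, show (14 : ℕ) = 2 * 7 from rfl, pow_mul, pow_two, c.z_sq, one_pow, one_mul]
  have hθz : θ ⟨c.z, c.z_mem_C⟩ ≠ 1 := by
    intro h
    have hkey : ∀ (k : ℕ) (g₀ : c.C), g₀⁻¹ * (⟨c.z, c.z_mem_C⟩ : c.C) ^ k * g₀ ∈ (D.S : Subgroup G).subgroupOf c.C →
        g₀⁻¹ * (⟨c.z, c.z_mem_C⟩ : c.C) ^ k * g₀ = (⟨c.z, c.z_mem_C⟩ : c.C) ^ k := fun k g₀ _ => Subtype.ext (by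
      simp only [coe_mul, coe_inv, SubmonoidClass.coe_pow]
      rw [mul_assoc, ((c.comm_z g₀.2).pow_right k).symm.eq, inv_mul_cancel_left])
    have h1 := h
    simp only [θ] at h1
    rw [MonoidHom.transfer_eq_pow ϕ _ hkey] at h1
    simp only [ϕ, MonoidHom.comp_apply, MulEquiv.coe_toMonoidHom, map_eq_one_iff _ eq2.injective,
      QuotientGroup.mk'_apply, QuotientGroup.eq_one_iff, incl, A', mem_subgroupOf] at h1
    apply hzA
    rw [← hz15, ← hindex]
    simpa [subgroupOfEquivOfLe] using h1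
  -- the isomorphism
  let ψ : c.C →* Multiplicative (ZMod 2) × A5 := θ.prod d.φ
  have hinj : Function.Injective ψ := (injective_iff_map_eq_one ψ).mpr fun x hx => by
    simp only [ψ, MonoidHom.prod_apply, Prod.mk_eq_one] at hx
    rcases c.mem_Z2.mp (hker x hx.2) with e | e
    · exact Subtype.ext e
    · exfalso
      refine hθz ?_
      rw [show (⟨c.z, c.z_mem_C⟩ : c.C) = x from Subtype.ext e.symm]
      exact hx.1
  have hbij : Function.Bijective ψ := hinj.bijective_of_nat_card_le (by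
    rw [hcardC, Nat.card_prod, nat_card_alternatingGroup, Nat.card_fin, Nat.card_eq_fintype_card]
    exact le_of_eq rfl)
  haveI : IsMulCommutative (D.S : Subgroup G) := ⟨⟨fun a b => Subtype.ext (hcomm a a.2 b b.2)⟩⟩
  exact S1644.result D.S inferInstance h8 c.z c.orderOf_z (MulEquiv.ofBijective ψ hbij)

end AltShape

end Cfg

end Cfsg.Agent.Invol.CentSix
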