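import Cfsg.Agent.Lib.Invol.CentSix.SolvU
import Cfsg.Agent.Lib.Grp.Basic

/-!
# Small lemmas on subgroups over the involution
-/

set_option autoImplicit false
set_option linter.style.haveILetI false

namespace Cfsg.Agent.Invol.CentSix

open Subgroup

variable {G : Type*} [Group G]

/-- Adjoining a normalising element with square inside. -/
theorem mem_sup_two {M : Subgroup G} {x : G} (hn : x ∈ normalizer (M : Set G)) (h2 : x * x ∈ M) {y : G} :
    y ∈ M ⊔ zpowers x ↔ y ∈ M ∨ x⁻¹ * y ∈ M := by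
  constructor
  · intro hy
    have hconj : ∀ {m : G}, m ∈ M → x⁻¹ * m * x ∈ M := fun hm => by
      have := (mem_normalizer_iff.mp (inv_mem hn) _).mp hm
      rwa [inv_inv] at this
    let M' : Subgroup G :=
      { carrier := {y | y ∈ M ∨ x⁻¹ * y ∈ M}
        one_mem' := Or.inl M.one_mem
        mul_mem' := by
          rintro a b (ha | ha) (hb | hb)
          · exact Or.inl (M.mul_mem ha hb)
          · refine Or.inr ?_
            rw [show x⁻¹ * (a * b) = x⁻¹ * a * x * (x⁻¹ * b) by group]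
            exact M.mul_mem (hconj ha) hb
          · refine Or.inr ?_
            rw [← mul_assoc]
            exact M.mul_mem ha hb
          · refine Or.inl ?_
            rw [show a * b = x * (x⁻¹ * a) * x⁻¹ * (x * x) * (x⁻¹ * b) by group]
            exact M.mul_mem (M.mul_mem ((mem_normalizer_iff.mp hn _).mp ha) h2) hb
        inv_mem' := by
          rintro a (ha | ha)
          · exact Or.inl (M.inv_mem ha)
          · refine Or.inr ?_
            rw [show x⁻¹ * a⁻¹ = x⁻¹ * (x⁻¹ * a)⁻¹ * x * (x * x)⁻¹ by group]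
            exact M.mul_mem (hconj (M.inv_mem ha)) (M.inv_mem h2) }
    exact (sup_le (fun m hm => Or.inl hm) (zpowers_le.mpr (Or.inr (by simp [M.one_mem]))) : M ⊔ zpowers x ≤ M') hy
  · rintro (h | h)
    · exact mem_sup_left h
    · have := mul_mem (mem_sup_right (mem_zpowers x) : x ∈ M ⊔ zpowers x) (mem_sup_left h)
      rwa [mul_inv_cancel_left] at this

/-- The order doubles. -/
theorem card_sup_two [Finite G] {M : Subgroup G} {x : G} (hn : x ∈ normalizer (M : Set G)) (h2 : x * x ∈ M)
    (hx : x ∉ M) : Nat.card ↥(M ⊔ zpowers x) = 2 * Nat.card M := by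
  let f : Bool × M → ↥(M ⊔ zpowers x) := fun p =>
    ⟨(if p.1 then x else 1) * p.2, mul_mem (by
      split_ifs
      · exact mem_sup_right (mem_zpowers x)
      · exact one_mem _) (mem_sup_left p.2.2)⟩
  have hf : Function.Bijective f := by
    refine ⟨?_, fun y => ?_⟩
    · rintro ⟨i, m⟩ ⟨j, n⟩ h
      have h1 := congrArg Subtype.val h
      cases i <;> cases j <;> simp [f] at h1
      · exact Prod.ext rfl h1
      · exact absurd (by rw [show x = (m : G) * (n : G)⁻¹ by rw [h1]; group]; exact M.mul_mem m.2 (M.inv_mem n.2)) hx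
      · exact absurd (by rw [show x = (n : G) * (m : G)⁻¹ by rw [← h1]; group]; exact M.mul_mem n.2 (M.inv_mem m.2)) hx
      · exact Prod.ext rfl h1
    · rcases (mem_sup_two hn h2).mp y.2 with h | h
      · exact ⟨(false, ⟨_, h⟩), Subtype.ext (by simp [f])⟩
      · exact ⟨(true, ⟨_, h⟩), Subtype.ext (by simp [f])⟩
  rw [← Nat.card_congr (Equiv.ofBijective f hf), Nat.card_prod, Nat.card_eq_fintype_card, Fintype.card_bool]

namespace Cfg

variable {c : Cfg G}

theorem mem_Z2_sup {x y : G} (hx : x ∈ c.C) (h2 : x * x ∈ c.Z2) :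
    y ∈ c.Z2 ⊔ zpowers x ↔ y ∈ c.Z2 ∨ x⁻¹ * y ∈ c.Z2 :=
  mem_sup_two (c.Z2_normal hx) h2

theorem Z2_comm {m x : G} (hm : m ∈ c.Z2) (hx : x ∈ c.C) : Commute m x := by
  rcases c.mem_Z2.mp hm with rfl | rfl
  · exact Commute.one_left _
  · exact (c.comm_z hx).symm

theorem Z2_sq {m : G} (hm : m ∈ c.Z2) : m * m = 1 := by
  rcases c.mem_Z2.mp hm with rfl | rfl
  · exact one_mul 1
  · exact c.z_sq

/-- The square only depends on the class modulo `z`. -/
theorem sq_congr {x y : G} (hx : x ∈ c.C) (h : x⁻¹ * y ∈ c.Z2) : y * y = x * x := by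
  have hm := Z2_comm h hx
  calc y * y = x * ((x⁻¹ * y) * x) * (x⁻¹ * y) := by group
    _ = x * x * ((x⁻¹ * y) * (x⁻¹ * y)) := by rw [hm.eq]; group
    _ = x * x := by rw [Z2_sq h, mul_one]

/-- The subgroup of elements with square and commutators in `⟨z⟩`. -/
def ySub (c : Cfg G) {T : Subgroup G} [Finite G] (hT : T ≤ c.C) (hz : c.z ∈ T) : Subgroup G where
  carrier := {x | InY c T x}
  one_mem' := InY.of_Z2 hT hz (one_mem _)
  mul_mem' := fun ha hb => InY.mul hT ha hb
  inv_mem' := fun {a} ha => by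
    have h1 : InY c T (a * (a * a)⁻¹) := InY.mul hT ha (InY.of_Z2 hT hz (inv_mem ha.2.1))
    have h2 : a * (a * a)⁻¹ = a⁻¹ := by group
    rw [h2] at h1
    exact h1

/-- A conjugation-stable subgroup is normalised. -/
theorem mem_normalizer_of_conj [Finite G] {U : Subgroup G} {g : G} (h : ∀ x ∈ U, g * x * g⁻¹ ∈ U) :
    g ∈ normalizer (U : Set G) := by
  have hmap : U.map (MulAut.conj g).toMonoidHom ≤ U := by
    rintro _ ⟨x, hx, rfl⟩; exact h x hx
  have heq := eq_of_le_of_card_ge hmap (by rw [card_map_of_injective (MulEquiv.injective _)])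
  refine mem_normalizer_iff.mpr fun x => ⟨h x, fun hx => ?_⟩
  rw [← heq] at hx
  obtain ⟨y, hy, hy'⟩ := hx
  exact (MulAut.conj g).injective hy' ▸ hy

end Cfg

end Cfsg.Agent.Invol.CentSix
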