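import Cfsg.Agent.Lib.Invol.CentSix.AltBase
import Cfsg.Agent.Lib.Invol.CentSix.Two

/-!
# The shape with the alternating group: the subgroup of order 32

The five conjugates of the subgroup of order eight fixed modulo `z` by the Sylow subgroup generate an elementary
normal subgroup of order 32.
-/

set_option autoImplicit false
set_option linter.style.haveILetI false

namespace Cfsg.Agent.Invol.CentSix

open Subgroup

set_option synthInstance.maxHeartbeats 200000 in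
set_option synthInstance.maxSize 4096 in
theorem a5_gen3 : ∀ i j : Fin 5, i ≠ j → ∃ σ : A5, ((σ : Equiv.Perm (Fin 5)) i = i ∧ σ * σ = 1) ∧
    ∃ τ : A5, ((τ : Equiv.Perm (Fin 5)) j = j ∧ τ * τ = 1) ∧ σ * τ * (σ * τ) * (σ * τ) = 1 ∧ σ * τ ≠ 1 := by
  decide +kernel

theorem card_compl_two {G : Type*} [Group G] [Finite G] {c : Cfg G} {M : Subgroup G} (hz : c.z ∈ M) :
    Nat.card {x : M // (x : G) ∉ c.Z2} + 2 = Nat.card M := by
  classical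
  have h := Nat.card_congr (Equiv.sumCompl fun x : M => (x : G) ∈ c.Z2).symm
  rw [Nat.card_sum, Nat.card_congr (Equiv.subtypeSubtypeEquivSubtype (p := fun x : G => x ∈ M)
    (q := fun x : G => x ∈ c.Z2) fun {x} hx => (zpowers_le.mpr hz : c.Z2 ≤ M) hx), c.card_Z2] at h
  omega

namespace Cfg

namespace AltShape

variable {G : Type*} [Group G] {c : Cfg G} (d : c.AltShape)

/-- A Sylow 2-subgroup normalised by `u`, and the point fixed by both. -/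
structure SData where
  /-- The Sylow subgroup. -/
  S : Sylow 2 G
  /-- The point. -/
  i : Fin 5
  le : (S : Subgroup G) ≤ c.C
  u_mem : c.u ∈ normalizer ((S : Subgroup G) : Set G)
  fix_i : (d.φ c.uC : Equiv.Perm (Fin 5)) i = i
  mem : ∀ x, x ∈ (S : Subgroup G) ↔ ∃ h : x ∈ c.C, d.φ ⟨x, h⟩ ∈ fourFix i
  card : Nat.card (S : Subgroup G) = 4 * Nat.card d.T

variable [Finite G]

theorem nonempty_sData : Nonempty d.SData := by
  obtain ⟨S, i, h1, h2, h3, h4, h5⟩ := d.exists_sylow_data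
  exact ⟨⟨S, i, h1, h2, h3, h4, h5⟩⟩

variable {d} (D : d.SData)

theorem SData.T_le : d.T ≤ (D.S : Subgroup G) := fun x hx => by
  obtain ⟨h, h1⟩ := d.mem_T.mp hx
  exact (D.mem x).mpr ⟨h, h1 ▸ one_mem _⟩

theorem SData.mem_of_fix {x : c.C} (hx : (d.φ x : Equiv.Perm (Fin 5)) D.i = D.i) :
    ∃ j : ℕ, j < 3 ∧ (x : G) * c.u ^ j ∈ (D.S : Subgroup G) := by
  obtain ⟨j, hj⟩ := a5_stab D.i (d.φ c.uC) (d.φ x) d.phi_u_three d.phi_u_ne D.fix_i hx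
  refine ⟨j, j.2, (D.mem _).mpr ⟨c.C.mul_mem x.2 (c.C.pow_mem c.u_mem_C _), ?_⟩⟩
  have e : (⟨(x : G) * c.u ^ (j : ℕ), c.C.mul_mem x.2 (c.C.pow_mem c.u_mem_C _)⟩ : c.C) = x * c.uC ^ (j : ℕ) :=
    Subtype.ext (by simp [Cfg.uC])
  rw [e, map_mul, map_pow]
  refine mem_fourFix.mpr ⟨?_, hj⟩
  have hp : ∀ n : ℕ, ((d.φ c.uC ^ n : A5) : Equiv.Perm (Fin 5)) D.i = D.i := fun n => by
    induction n with
    | zero => simp
    | succ n ih => rw [pow_succ, coe_mul, Equiv.Perm.mul_apply, D.fix_i, ih]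
  rw [coe_mul, Equiv.Perm.mul_apply, hp, hx]

theorem SData.small {Y : Subgroup G} (hSY : (D.S : Subgroup G) ≤ Y) (huY : c.u ∈ Y) (hY : Y ≤ c.C)
    {N : Subgroup G} (hNY : N ≤ Y) (hn : Y ≤ normalizer (N : Set G)) (h3 : ∀ a ∈ N, orderOf a ≠ 3) :
    IsPGroup 2 N := by
  refine d.small hY (i := D.i) (fun σ hσ => ?_) hNY hn h3
  obtain ⟨x, rfl⟩ := d.surj σ
  obtain ⟨j, -, hj⟩ := D.mem_of_fix hσ
  refine ⟨x, ?_, x.2, rfl⟩
  have := mul_mem (hSY hj) (inv_mem (pow_mem huY j))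
  rwa [mul_inv_cancel_right] at this

/-- The subgroup of order eight fixed modulo `z` by the Sylow subgroup. -/
structure UAlt where
  /-- The subgroup. -/
  U : Subgroup G
  /-- The generating vector. -/
  a : G
  le : U ≤ d.T
  inY : ∀ x ∈ U, InY c (D.S : Subgroup G) x
  z_mem : c.z ∈ U
  card : Nat.card U = 8
  u_norm : c.u ∈ normalizer (U : Set G)
  a_mem : a ∈ U
  a_notMem : a ∉ c.Z2
  cases : ∀ x ∈ U, x ∈ c.Z2 ∨ a⁻¹ * x ∈ c.Z2 ∨ (c.u * a * c.u⁻¹)⁻¹ * x ∈ c.Z2 ∨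
    (c.u * c.u * a * (c.u * c.u)⁻¹)⁻¹ * x ∈ c.Z2

theorem nonempty_uAlt (hT : d.T ≠ c.Z2) : Nonempty (UAlt D) := by
  have hSC := D.le
  have hzS : c.z ∈ (D.S : Subgroup G) := D.T_le d.z_mem_T
  obtain ⟨a, haT, haY, haz⟩ := exists_inY hSC D.S.2 D.T_le (hSC.trans d.T_normal) d.z_mem_T
    (fun h => hT (le_antisymm h d.Z2_le_T))
  set b := c.u * a * c.u⁻¹ with hb
  have hbY : InY c (D.S : Subgroup G) b := haY.conj c.u_mem_C D.u_mem
  have hbT : b ∈ d.T := (mem_normalizer_iff.mp (d.T_normal c.u_mem_C) a).mp haT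
  set c'' := c.u * c.u * a * (c.u * c.u)⁻¹ with hc''
  have hbz : b ∉ c.Z2 := fun hm => haz ((mem_normalizer_iff.mp (c.Z2_normal c.u_mem_C) a).mpr hm)
  have haC := d.T_le haT
  set M := c.Z2 ⊔ zpowers a with hM
  have hZM : c.Z2 ≤ M := le_sup_left
  have hMS : M ≤ (D.S : Subgroup G) := sup_le (zpowers_le.mpr hzS) (zpowers_le.mpr haY.1)
  have hbM : b ∈ normalizer (M : Set G) := mem_normalizer_of_conj fun x hx => by
    rw [show b * x * b⁻¹ = (b * x * b⁻¹ * x⁻¹) * x by group]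
    exact mul_mem (hZM (hbY.2.2 x (hMS hx))) hx
  have hbM' : b ∉ M := fun h => by
    rcases (mem_Z2_sup haC haY.2.1).mp h with h1 | h1
    · exact hbz h1
    · exact haz (moved_mod d.T_le d.T_isTwo d.z_mem_T c.u_mem_C c.orderOf_u haT h1)
  have hprod : a * b * c'' ∈ c.Z2 :=
    c.orbit_prod d.T_le d.T_isTwo d.z_mem_T c.u_mem_C c.orderOf_u (d.T_normal c.u_mem_C) haT
  set U := M ⊔ zpowers b with hU
  have hMU : M ≤ U := le_sup_left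
  have haU : a ∈ U := hMU (mem_sup_right (mem_zpowers a))
  have hbU : b ∈ U := mem_sup_right (mem_zpowers b)
  have hUY : ∀ x ∈ U, InY c (D.S : Subgroup G) x := by
    have hle : U ≤ c.ySub hSC hzS := sup_le (sup_le (fun x hx => InY.of_Z2 hSC hzS hx) (zpowers_le.mpr haY))
      (zpowers_le.mpr hbY)
    exact fun x hx => hle hx
  refine ⟨⟨U, a, sup_le (sup_le d.Z2_le_T (zpowers_le.mpr haT)) (zpowers_le.mpr hbT), hUY,
    hMU (hZM c.z_mem_Z2), ?_, ?_, haU, haz, ?_⟩⟩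
  · rw [hU, card_sup_two hbM (hZM hbY.2.1) hbM', hM, card_sup_two (c.Z2_normal haC) haY.2.1 haz, c.card_Z2]
  · have hc''U : c'' ∈ U := by
      rw [show c'' = (a * b)⁻¹ * (a * b * c'') by group]
      exact mul_mem (inv_mem (mul_mem haU hbU)) (hMU (hZM hprod))
    refine mem_normalizer_of_conj fun x hx => ?_
    have hle : U ≤ U.comap (MulAut.conj c.u).toMonoidHom := by
      refine sup_le (sup_le (zpowers_le.mpr ?_) (zpowers_le.mpr hbU)) (zpowers_le.mpr ?_)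
      · show c.u * c.z * c.u⁻¹ ∈ U
        rw [c.conj_z c.u_mem_C]
        exact hMU (hZM c.z_mem_Z2)
      · show c.u * b * c.u⁻¹ ∈ U
        rw [hb, show c.u * (c.u * a * c.u⁻¹) * c.u⁻¹ = c'' by rw [hc'']; group]
        exact hc''U
    exact hle hx
  · intro x hx
    rcases (mem_sup_two hbM (hZM hbY.2.1)).mp hx with h | h
    · exact ((mem_Z2_sup haC haY.2.1).mp h).imp id Or.inl
    · rcases (mem_Z2_sup haC haY.2.1).mp h with h1 | h1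
      · exact Or.inr (Or.inr (Or.inl h1))
      · refine Or.inr (Or.inr (Or.inr ?_))
        have hcomm := Z2_comm hbY.2.1 haC
        have h2 : c''⁻¹ * x = (a * b * c'')⁻¹ * (a * (b * b) * a) * (a⁻¹ * (b⁻¹ * x)) := by group
        rw [h2, ← hcomm.eq, mul_assoc (b * b)]
        exact mul_mem (mul_mem (inv_mem hprod) (mul_mem hbY.2.1 haY.2.1)) h1

namespace UAlt

variable {D} (Q : UAlt D)

theorem le_C : Q.U ≤ c.C := Q.le.trans d.T_le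

theorem le_S : Q.U ≤ (D.S : Subgroup G) := Q.le.trans D.T_le

theorem Z2_le : c.Z2 ≤ Q.U := zpowers_le.mpr Q.z_mem

theorem S_norm : (D.S : Subgroup G) ≤ normalizer (Q.U : Set G) := fun s hs =>
  mem_normalizer_of_conj fun x hx => by
    rw [show s * x * s⁻¹ = (x * s * x⁻¹ * s⁻¹)⁻¹ * x by group]
    exact mul_mem (Q.Z2_le (inv_mem ((Q.inY x hx).2.2 s hs))) hx

theorem stab_norm {x : c.C} (hx : (d.φ x : Equiv.Perm (Fin 5)) D.i = D.i) : (x : G) ∈ normalizer (Q.U : Set G) := by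
  obtain ⟨j, -, hj⟩ := D.mem_of_fix hx
  have := mul_mem (Q.S_norm hj) (inv_mem (pow_mem Q.u_norm j))
  rwa [mul_inv_cancel_right] at this

/-- An element moving `D.i` to `k`. -/
noncomputable def rep (_Q : UAlt D) (k : Fin 5) : c.C := (d.surj (Classical.choose (a5_move D.i k))).choose

theorem rep_spec (k : Fin 5) : (d.φ (Q.rep k) : Equiv.Perm (Fin 5)) D.i = k := by
  rw [rep, (d.surj (Classical.choose (a5_move D.i k))).choose_spec]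
  exact Classical.choose_spec (a5_move D.i k)

/-- The conjugate belonging to `k`. -/
noncomputable def Uk (k : Fin 5) : Subgroup G := Q.U.map (MulAut.conj ((Q.rep k : c.C) : G)).toMonoidHom

theorem mem_Uk {g : c.C} {k : Fin 5} (hg : (d.φ g : Equiv.Perm (Fin 5)) D.i = k) {x : G} :
    x ∈ Q.Uk k ↔ (g : G)⁻¹ * x * g ∈ Q.U := by
  have hfix : (d.φ (g⁻¹ * Q.rep k) : Equiv.Perm (Fin 5)) D.i = D.i := by
    rw [map_mul, map_inv, coe_mul, coe_inv, Equiv.Perm.mul_apply, Q.rep_spec, Equiv.Perm.inv_eq_iff_eq, hg]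
  have hn := mem_normalizer_iff.mp (Q.stab_norm hfix) ((Q.rep k : G)⁻¹ * x * Q.rep k)
  rw [coe_mul, coe_inv] at hn
  rw [show ((g : G)⁻¹ * Q.rep k) * ((Q.rep k : G)⁻¹ * x * Q.rep k) * ((g : G)⁻¹ * Q.rep k)⁻¹
    = (g : G)⁻¹ * x * g by group] at hn
  rw [← hn]
  constructor
  · rintro ⟨y, hy, rfl⟩
    simpa [mul_assoc] using hy
  · intro h
    refine ⟨_, h, ?_⟩
    show (Q.rep k : G) * ((Q.rep k : G)⁻¹ * x * Q.rep k) * (Q.rep k : G)⁻¹ = x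
    group

theorem Uk_self : Q.Uk D.i = Q.U := by
  ext x
  rw [Q.mem_Uk (g := 1) (by simp)]
  simp

theorem card_Uk (k : Fin 5) : Nat.card (Q.Uk k) = 8 := by
  rw [Uk, card_map_of_injective (MulEquiv.injective _), Q.card]

theorem Uk_conj {h : c.C} {k : Fin 5} {x : G} (hx : x ∈ Q.Uk k) :
    (h : G) * x * (h : G)⁻¹ ∈ Q.Uk ((d.φ h : Equiv.Perm (Fin 5)) k) := by
  rw [Q.mem_Uk (g := h * Q.rep k) (by rw [map_mul, coe_mul, Equiv.Perm.mul_apply, Q.rep_spec])]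
  have := (Q.mem_Uk (Q.rep_spec k)).mp hx
  rw [coe_mul]
  rwa [show ((h : G) * Q.rep k)⁻¹ * ((h : G) * x * (h : G)⁻¹) * ((h : G) * Q.rep k)
    = (Q.rep k : G)⁻¹ * x * Q.rep k by group]

theorem Uk_le_T (k : Fin 5) : Q.Uk k ≤ d.T := fun x hx => by
  have := (mem_normalizer_iff.mp (d.T_normal (Q.rep k).2) _).mp (Q.le ((Q.mem_Uk (Q.rep_spec k)).mp hx))
  rwa [show (Q.rep k : G) * ((Q.rep k : G)⁻¹ * x * Q.rep k) * (Q.rep k : G)⁻¹ = x by group] at this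

theorem Z2_le_Uk (k : Fin 5) : c.Z2 ≤ Q.Uk k := fun x hx => by
  rw [Q.mem_Uk (Q.rep_spec k), mul_assoc, (Z2_comm hx (Q.rep k).2).eq, inv_mul_cancel_left]
  exact Q.Z2_le hx

/-- Elements of the stabiliser's Sylow subgroup centralise the conjugate modulo `z`. -/
theorem Uk_fixed {k : Fin 5} {x : c.C} (hx : (d.φ x : Equiv.Perm (Fin 5)) k = k) (hx2 : d.φ x * d.φ x = 1)
    {w : G} (hw : w ∈ Q.Uk k) : w * x * w⁻¹ * (x : G)⁻¹ ∈ c.Z2 := by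
  set g := Q.rep k
  have hw' := (Q.mem_Uk (Q.rep_spec k)).mp hw
  have hx' : ((g⁻¹ * x * g : c.C) : G) ∈ (D.S : Subgroup G) := (D.mem _).mpr ⟨(g⁻¹ * x * g).2, mem_fourFix.mpr ⟨by
      rw [map_mul, map_mul, map_inv, coe_mul, coe_mul, coe_inv, Equiv.Perm.mul_apply, Equiv.Perm.mul_apply,
        Q.rep_spec, hx, Equiv.Perm.inv_eq_iff_eq, Q.rep_spec], by
      rw [map_mul, map_mul, map_inv,
        show (d.φ g)⁻¹ * d.φ x * d.φ g * ((d.φ g)⁻¹ * d.φ x * d.φ g) = (d.φ g)⁻¹ * (d.φ x * d.φ x) * d.φ g by group,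
        hx2]
      group⟩⟩
  rw [coe_mul, coe_mul, coe_inv] at hx'
  have h := (mem_normalizer_iff.mp (c.Z2_normal g.2) _).mp ((Q.inY _ hw').2.2 _ hx')
  rwa [show (g : G) * ((g : G)⁻¹ * w * g * ((g : G)⁻¹ * x * g) * ((g : G)⁻¹ * w * g)⁻¹ * ((g : G)⁻¹ * x * g)⁻¹) *
    (g : G)⁻¹ = w * x * w⁻¹ * (x : G)⁻¹ by group] at h

theorem Uk_inY (k : Fin 5) : ∀ x ∈ Q.Uk k, InY c d.T x := fun x hx => by
  refine ⟨Q.Uk_le_T k hx, d.sq_T (Q.Uk_le_T k hx), fun t ht => ?_⟩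
  obtain ⟨htC, ht1⟩ := d.mem_T.mp ht
  exact Q.Uk_fixed (x := ⟨t, htC⟩) (by rw [ht1]; rfl) (by rw [ht1, one_mul]) hx

theorem Uk_comm_norm (j k : Fin 5) : Q.Uk j ≤ normalizer (Q.Uk k : Set G) := fun x hx =>
  mem_normalizer_of_conj fun y hy => by
    rw [show x * y * x⁻¹ = (x * y * x⁻¹ * y⁻¹) * y by group]
    exact mul_mem (Q.Z2_le_Uk k ((Q.Uk_inY j x hx).2.2 y (Q.Uk_le_T k hy))) hy

/-- Distinct conjugates meet in `⟨z⟩`. -/
theorem Uk_inf {j k : Fin 5} (hjk : j ≠ k) {x : G} (hj : x ∈ Q.Uk j) (hk : x ∈ Q.Uk k) : x ∈ c.Z2 := by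
  classical
  by_contra hxz
  have hxT := Q.Uk_le_T j hj
  have hxC := d.T_le hxT
  have hxsq := (Q.Uk_inY j x hj).2.1
  obtain ⟨σ, ⟨hσ, hσ2⟩, τ, ⟨hτ, hτ2⟩, h3, hne⟩ := a5_gen3 j k hjk
  obtain ⟨s, rfl⟩ := d.surj σ
  obtain ⟨t, rfl⟩ := d.surj τ
  obtain ⟨g, hg3, hgφ⟩ := d.exists_lift_three h3 hne
  -- an element of order three fixing `x` modulo `z`
  have hq : (t : G)⁻¹ * ((s : G)⁻¹ * g) ∈ d.T := d.mem_T.mpr ⟨(t⁻¹ * (s⁻¹ * g)).2, by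
    show d.φ (t⁻¹ * (s⁻¹ * g)) = 1
    rw [map_mul, map_mul, map_inv, map_inv, hgφ, inv_mul_cancel_left, inv_mul_cancel]⟩
  set q := (t : G)⁻¹ * ((s : G)⁻¹ * g) with hq'
  have fix : ∀ {y : G}, y ∈ c.C → x * y * x⁻¹ * y⁻¹ ∈ c.Z2 → ∃ m ∈ c.Z2, y * x * y⁻¹ = x * m := fun {y} hy h => by
    refine ⟨x⁻¹ * (x * y * x⁻¹ * y⁻¹)⁻¹ * x, ?_, by group⟩
    have := (mem_normalizer_iff.mp (c.Z2_normal (inv_mem hxC)) _).mp (inv_mem h)
    rwa [inv_inv] at this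
  obtain ⟨m1, hm1, e1⟩ := fix (d.T_le hq) ((Q.Uk_inY j x hj).2.2 q hq)
  obtain ⟨m2, hm2, e2⟩ := fix t.2 (Q.Uk_fixed (x := t) hτ hτ2 hk)
  obtain ⟨m3, hm3, e3⟩ := fix s.2 (Q.Uk_fixed (x := s) hσ hσ2 hj)
  have hg : (g : G) * x * (g : G)⁻¹ = x * (m3 * (m2 * m1)) := by
    have c1 : (t : G) * m1 * (t : G)⁻¹ = m1 := by rw [← (Z2_comm hm1 t.2).eq, mul_inv_cancel_right]
    have c2 : (s : G) * (m2 * m1) * (s : G)⁻¹ = m2 * m1 := by
      rw [← (Z2_comm (mul_mem hm2 hm1) s.2).eq, mul_inv_cancel_right]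
    calc (g : G) * x * (g : G)⁻¹ = (s : G) * ((t : G) * (q * x * q⁻¹) * (t : G)⁻¹) * (s : G)⁻¹ := by
          rw [hq']; group
      _ = (s : G) * (((t : G) * x * (t : G)⁻¹) * ((t : G) * m1 * (t : G)⁻¹)) * (s : G)⁻¹ := by rw [e1]; group
      _ = ((s : G) * x * (s : G)⁻¹) * ((s : G) * (m2 * m1) * (s : G)⁻¹) := by rw [e2, c1]; group
      _ = x * (m3 * (m2 * m1)) := by rw [e3, c2]; group
  refine hxz (moved_mod d.T_le d.T_isTwo d.z_mem_T g.2 hg3 hxT ?_)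
  rw [hg, inv_mul_cancel_left]
  exact mul_mem hm3 (mul_mem hm2 hm1)

theorem Uk_le_sup {p q r : Fin 5} (hpq : p ≠ q) (hqr : q ≠ r) (hpr : p ≠ r) : Q.Uk r ≤ Q.Uk p ⊔ Q.Uk q := by
  intro x hx
  obtain ⟨σ, h3, hne, hσp, hσq⟩ := a5_cycle p q r hpq hqr hpr
  obtain ⟨g, hg3, rfl⟩ := d.exists_lift_three h3 hne
  have hσr : (d.φ g : Equiv.Perm (Fin 5)) r = p := by
    have h := congrArg (fun σ : A5 => (σ : Equiv.Perm (Fin 5)) p) h3
    simp only [coe_mul, Equiv.Perm.mul_apply, hσp, hσq, OneMemClass.coe_one, Equiv.Perm.one_apply] at h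
    exact h
  have h1 : (g : G) * x * (g : G)⁻¹ ∈ Q.Uk p := by
    have := Q.Uk_conj (h := g) hx
    rwa [hσr] at this
  have h2 : (g : G) * g * x * ((g : G) * g)⁻¹ ∈ Q.Uk q := by
    have := Q.Uk_conj (h := g) h1
    rwa [hσp, show (g : G) * ((g : G) * x * (g : G)⁻¹) * (g : G)⁻¹ = (g : G) * g * x * ((g : G) * g)⁻¹ by group] at this
  have h := c.orbit_prod d.T_le d.T_isTwo d.z_mem_T g.2 hg3 (d.T_normal g.2) (Q.Uk_le_T r hx)
  have := mul_mem (mul_mem (mem_sup_left (T := Q.Uk q) (Q.Z2_le_Uk p h)) (inv_mem (mem_sup_right (S := Q.Uk p) h2)))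
    (inv_mem (mem_sup_left (T := Q.Uk q) h1))
  rwa [mul_inv_cancel_right, mul_inv_cancel_right] at this

/-- The subgroup generated by the five conjugates. -/
noncomputable def W : Subgroup G := ⨆ k, Q.Uk k

theorem Uk_le_W (k : Fin 5) : Q.Uk k ≤ Q.W := le_iSup Q.Uk k

theorem U_le_W : Q.U ≤ Q.W := Q.Uk_self ▸ Q.Uk_le_W D.i

theorem W_eq_sup {p q : Fin 5} (hpq : p ≠ q) : Q.W = Q.Uk p ⊔ Q.Uk q := by
  refine le_antisymm (iSup_le fun r => ?_) (sup_le (Q.Uk_le_W p) (Q.Uk_le_W q))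
  by_cases hrp : r = p
  · exact hrp ▸ le_sup_left
  by_cases hrq : r = q
  · exact hrq ▸ le_sup_right
  exact Q.Uk_le_sup hpq (Ne.symm hrq) (Ne.symm hrp)

theorem W_le : Q.W ≤ d.T := iSup_le Q.Uk_le_T

theorem W_inY : ∀ x ∈ Q.W, InY c d.T x :=
  fun _ hx => (iSup_le fun k x hx => Q.Uk_inY k x hx : Q.W ≤ c.ySub d.T_le d.z_mem_T) hx

theorem W_conj {g : G} (hg : g ∈ c.C) {x : G} (hx : x ∈ Q.W) : g * x * g⁻¹ ∈ Q.W := by
  have hle : Q.W ≤ Q.W.comap (MulAut.conj g).toMonoidHom :=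
    iSup_le fun k y hy => Q.Uk_le_W _ (Q.Uk_conj (h := ⟨g, hg⟩) hy)
  exact hle hx

theorem W_normal : c.C ≤ normalizer (Q.W : Set G) := fun _ hg =>
  mem_normalizer_of_conj fun _ hx => Q.W_conj hg hx

theorem exists_pair : ∃ p q : Fin 5, p ≠ q := ⟨0, 1, by decide⟩

theorem card_W : Nat.card Q.W = 32 := by
  obtain ⟨p, q, hpq⟩ := exists_pair
  have h := Grp.card_sup_mul_card_inf (Q.Uk_comm_norm p q)
  have hinf : Q.Uk p ⊓ Q.Uk q = c.Z2 :=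
    le_antisymm (fun x hx => Q.Uk_inf hpq hx.1 hx.2) (le_inf (Q.Z2_le_Uk p) (Q.Z2_le_Uk q))
  rw [← Q.W_eq_sup hpq, hinf, c.card_Z2, Q.card_Uk, Q.card_Uk] at h
  omega

theorem z_mem_W : c.z ∈ Q.W := Q.U_le_W Q.z_mem

theorem exists_Uk {x : G} (hx : x ∈ Q.W) (hxz : x ∉ c.Z2) : ∃ k, x ∈ Q.Uk k := by
  classical
  let f : (Σ k : Fin 5, {y : Q.Uk k // (y : G) ∉ c.Z2}) → {y : Q.W // (y : G) ∉ c.Z2} :=
    fun p => ⟨⟨(p.2.1 : G), Q.Uk_le_W p.1 p.2.1.2⟩, p.2.2⟩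
  have hinj : Function.Injective f := by
    rintro ⟨j, ⟨⟨v, hv⟩, hvz⟩⟩ ⟨k, ⟨⟨w, hw⟩, hwz⟩⟩ h
    have h1 : v = w := congrArg (fun y : {y : Q.W // (y : G) ∉ c.Z2} => ((y : Q.W) : G)) h
    subst h1
    have hjk : j = k := by
      by_contra hne
      exact hvz (Q.Uk_inf hne hv hw)
    subst hjk
    rfl
  have hcard : Nat.card {y : Q.W // (y : G) ∉ c.Z2} ≤ Nat.card (Σ k : Fin 5, {y : Q.Uk k // (y : G) ∉ c.Z2}) := by
    have hk : ∀ k, Nat.card {y : Q.Uk k // (y : G) ∉ c.Z2} = 6 := fun k => by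
      have := card_compl_two (c := c) (M := Q.Uk k) (Q.Z2_le_Uk k c.z_mem_Z2)
      rw [Q.card_Uk] at this
      omega
    have hW := card_compl_two (c := c) (M := Q.W) Q.z_mem_W
    rw [Q.card_W] at hW
    rw [Nat.card_sigma]
    simp only [hk, Finset.sum_const, Finset.card_univ, Fintype.card_fin, smul_eq_mul]
    omega
  obtain ⟨⟨k, y⟩, hy⟩ := (hinj.bijective_of_nat_card_le hcard).2 ⟨⟨x, hx⟩, hxz⟩
  refine ⟨k, ?_⟩
  have : (y.1 : G) = x := congrArg (fun y : {y : Q.W // (y : G) ∉ c.Z2} => ((y : Q.W) : G)) hy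
  exact this ▸ y.1.2

/-- Every element outside `⟨z⟩` is a conjugate of `a` modulo `z`. -/
theorem trans {x : G} (hx : x ∈ Q.W) (hxz : x ∉ c.Z2) : ∃ g ∈ c.C, (g * Q.a * g⁻¹)⁻¹ * x ∈ c.Z2 := by
  obtain ⟨k, hk⟩ := Q.exists_Uk hx hxz
  have hv := (Q.mem_Uk (Q.rep_spec k)).mp hk
  set g := (Q.rep k : G)
  have hgC : g ∈ c.C := (Q.rep k).2
  have key : ∀ {h : G}, h ∈ c.C → (h * Q.a * h⁻¹)⁻¹ * (g⁻¹ * x * g) ∈ c.Z2 →
      ∃ g ∈ c.C, (g * Q.a * g⁻¹)⁻¹ * x ∈ c.Z2 := by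
    intro h hh h1
    refine ⟨g * h, mul_mem hgC hh, ?_⟩
    have h2 := (mem_normalizer_iff.mp (c.Z2_normal hgC) _).mp h1
    rwa [show g * ((h * Q.a * h⁻¹)⁻¹ * (g⁻¹ * x * g)) * g⁻¹ = (g * h * Q.a * (g * h)⁻¹)⁻¹ * x by group] at h2
  rcases Q.cases _ hv with h | h | h | h
  · exfalso
    apply hxz
    have h2 := (mem_normalizer_iff.mp (c.Z2_normal hgC) _).mp h
    rwa [show g * (g⁻¹ * x * g) * g⁻¹ = x by group] at h2
  · exact key (one_mem _) (by simpa using h)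
  · exact key c.u_mem_C h
  · exact key (mul_mem c.u_mem_C c.u_mem_C) h

theorem sq_const {x : G} (hx : x ∈ Q.W) (hxz : x ∉ c.Z2) : x * x = Q.a * Q.a := by
  obtain ⟨g, hg, h⟩ := Q.trans hx hxz
  have haC := Q.le_C Q.a_mem
  rw [sq_congr (mul_mem (mul_mem hg haC) (inv_mem hg)) h, conj_mul,
    ← (Z2_comm (Q.inY _ Q.a_mem).2.1 hg).eq, mul_inv_cancel_right]

theorem exists_notMem {M : Subgroup G} (h : Nat.card M < 32) : ∃ x ∈ Q.W, x ∉ M := by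
  by_contra hno
  push Not at hno
  have := card_le_of_le (show Q.W ≤ M from hno)
  rw [Q.card_W] at this
  omega

theorem W_sq {x : G} (hx : x ∈ Q.W) : x * x = 1 := by
  by_cases hxz : x ∈ c.Z2
  · exact Z2_sq hxz
  rw [Q.sq_const hx hxz]
  rcases c.mem_Z2.mp (Q.inY _ Q.a_mem).2.1 with e | e
  · exact e
  exfalso
  have hsq : ∀ {y : G}, y ∈ Q.W → y ∉ c.Z2 → y * y = c.z := fun hy hyz => (Q.sq_const hy hyz).trans e
  have hxC := d.T_le (Q.W_le hx)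
  have hx2 : x * x ∈ c.Z2 := by rw [hsq hx hxz]; exact c.z_mem_Z2
  set M := c.Z2 ⊔ zpowers x with hM
  have hMW : M ≤ Q.W := sup_le (zpowers_le.mpr Q.z_mem_W) (zpowers_le.mpr hx)
  have hM4 : Nat.card M = 4 := by rw [hM, card_sup_two (c.Z2_normal hxC) hx2 hxz, c.card_Z2]
  obtain ⟨y, hy, hyM, hc⟩ : ∃ y ∈ Q.W, y ∉ M ∧ Commute x y := by
    obtain ⟨p, hp, hpM⟩ := Q.exists_notMem (M := M) (by omega)
    by_cases hcp : Commute x p
    · exact ⟨p, hp, hpM, hcp⟩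
    have hpn : p ∈ normalizer (M : Set G) := mem_normalizer_of_conj fun w hw => by
      rw [show p * w * p⁻¹ = (p * w * p⁻¹ * w⁻¹) * w by group]
      exact mul_mem (mem_sup_left ((Q.W_inY p hp).2.2 w (Q.W_le (hMW hw)))) hw
    obtain ⟨q, hq, hqM⟩ := Q.exists_notMem (M := M ⊔ zpowers p)
      (by rw [card_sup_two hpn (mem_sup_left (Q.W_inY p hp).2.1) hpM]; omega)
    by_cases hcq : Commute x q
    · exact ⟨q, hq, fun h => hqM (mem_sup_left h), hcq⟩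
    have hz : ∀ {y : G}, y ∈ Q.W → ¬ Commute x y → x * y * x⁻¹ = c.z * y := fun {y} hy hn => by
      rcases c.mem_Z2.mp ((Q.W_inY x hx).2.2 y (Q.W_le hy)) with e1 | e1
      · exact absurd (mul_inv_eq_iff_eq_mul.mp (mul_inv_eq_one.mp e1)) hn
      · rw [← e1]; group
    refine ⟨p * q, mul_mem hp hq, fun h => hqM ?_, mul_inv_eq_iff_eq_mul.mp ?_⟩
    · have := mul_mem (inv_mem (mem_sup_right (mem_zpowers p) : p ∈ M ⊔ zpowers p)) (mem_sup_left h)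
      rwa [inv_mul_cancel_left] at this
    · rw [show x * (p * q) * x⁻¹ = x * p * x⁻¹ * (x * q * x⁻¹) by group, hz hp hcp, hz hq hcq,
        mul_assoc c.z, ← mul_assoc p, (c.comm_z (d.T_le (Q.W_le hp))).eq, ← mul_assoc, ← mul_assoc, c.z_sq, one_mul]
  refine hyM ((mem_Z2_sup hxC hx2).mpr ?_)
  by_cases hyz : y ∈ c.Z2
  · exact Or.inl hyz
  refine Or.inr ?_
  have hxyW : x⁻¹ * y ∈ Q.W := mul_mem (inv_mem hx) hy
  by_contra hne
  have h1 := hsq hxyW hne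
  rw [show x⁻¹ * y * (x⁻¹ * y) = x⁻¹ * (y * x⁻¹) * y by group, ← (hc.inv_left).eq,
    show x⁻¹ * (x⁻¹ * y) * y = (x * x)⁻¹ * (y * y) by group, hsq hx hxz, hsq hy hyz, inv_mul_cancel] at h1
  exact c.z_ne h1.symm

theorem W_comm {x y : G} (hx : x ∈ Q.W) (hy : y ∈ Q.W) : Commute x y := by
  have h := Q.W_sq (mul_mem hx hy)
  show x * y = y * x
  rw [eq_inv_of_mul_eq_one_left h, mul_inv_rev, inv_eq_of_mul_eq_one_left (Q.W_sq hx),
    inv_eq_of_mul_eq_one_left (Q.W_sq hy)]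

/-- An element of `C` fixing `a` modulo `z` lies in the Sylow subgroup. -/
theorem fix_mem {x : G} (hx : x ∈ c.C) (h : x * Q.a * x⁻¹ * Q.a⁻¹ ∈ c.Z2) : x ∈ (D.S : Subgroup G) := by
  have hi : (d.φ ⟨x, hx⟩ : Equiv.Perm (Fin 5)) D.i = D.i := by
    by_contra hne
    have h1 := Q.Uk_conj (h := ⟨x, hx⟩) (show Q.a ∈ Q.Uk D.i from Q.Uk_self.symm ▸ Q.a_mem)
    have h2 : x * Q.a * x⁻¹ ∈ Q.Uk D.i := by
      rw [Q.Uk_self, show x * Q.a * x⁻¹ = (x * Q.a * x⁻¹ * Q.a⁻¹) * Q.a by group]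
      exact mul_mem (Q.Z2_le h) Q.a_mem
    exact Q.a_notMem ((mem_normalizer_iff.mp (c.Z2_normal hx) _).mpr (Q.Uk_inf hne h1 h2))
  obtain ⟨j, hj, hjS⟩ := D.mem_of_fix hi
  have haC := Q.le_C Q.a_mem
  set a := Q.a
  set s := x * c.u ^ j
  have hsC := D.le hjS
  have h3 : s * a * s⁻¹ * a⁻¹ ∈ c.Z2 := by
    have := inv_mem ((Q.inY _ Q.a_mem).2.2 s hjS)
    rwa [show (a * s * a⁻¹ * s⁻¹)⁻¹ = s * a * s⁻¹ * a⁻¹ by group] at this
  have h5 : a⁻¹ * (c.u ^ j * a * (c.u ^ j)⁻¹) ∈ c.Z2 := by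
    have h6 := (mem_normalizer_iff.mp (c.Z2_normal (inv_mem hx)) _).mp (mul_mem h3 (inv_mem h))
    rw [inv_inv, show x⁻¹ * (s * a * s⁻¹ * a⁻¹ * (x * a * x⁻¹ * a⁻¹)⁻¹) * x
      = c.u ^ j * a * (c.u ^ j)⁻¹ * a⁻¹ by simp only [s]; group] at h6
    have h7 := (mem_normalizer_iff.mp (c.Z2_normal (inv_mem haC)) _).mp h6
    rwa [inv_inv, show a⁻¹ * (c.u ^ j * a * (c.u ^ j)⁻¹ * a⁻¹) * a = a⁻¹ * (c.u ^ j * a * (c.u ^ j)⁻¹) by group] at h7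
  by_cases hj0 : j = 0
  · subst hj0
    simpa [s] using hjS
  exfalso
  refine Q.a_notMem (moved_mod d.T_le d.T_isTwo d.z_mem_T (pow_mem c.u_mem_C j) ?_ (Q.le Q.a_mem) h5)
  rw [orderOf_pow' _ hj0, c.orderOf_u]
  rcases (show j = 1 ∨ j = 2 by omega) with rfl | rfl <;> rfl

section

variable {t : G} (ht : t ∈ (D.S : Subgroup G)) (htT : t ∉ d.T)
include ht htT

/-- Only `U` is fixed modulo `z` outside `T`. -/
theorem fixed_mem_U {w : G} (hw : w ∈ Q.W) (h : t * w * t⁻¹ * w⁻¹ ∈ c.Z2) : w ∈ Q.U := by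
  by_cases hwz : w ∈ c.Z2
  · exact Q.Z2_le hwz
  obtain ⟨k, hk⟩ := Q.exists_Uk hw hwz
  obtain ⟨htC, htφ⟩ := (D.mem t).mp ht
  obtain ⟨hti, ht2⟩ := mem_fourFix.mp htφ
  by_contra hwU
  have hki : k ≠ D.i := fun e => hwU (by rwa [e, Q.Uk_self] at hk)
  have hne := a5_moves D.i k _ hti ht2 (fun e => htT (d.mem_T.mpr ⟨htC, e⟩)) hki
  have h1 := Q.Uk_conj (h := ⟨t, htC⟩) hk
  have h2 : t * w * t⁻¹ ∈ Q.Uk k := by
    rw [show t * w * t⁻¹ = (t * w * t⁻¹ * w⁻¹) * w by group]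
    exact mul_mem (Q.Z2_le_Uk k h) hk
  exact hwz ((mem_normalizer_iff.mp (c.Z2_normal htC) _).mpr (Q.Uk_inf hne h1 h2))

theorem comm_mem_U {w : G} (hw : w ∈ Q.W) : t * w * t⁻¹ * w⁻¹ ∈ Q.U := by
  obtain ⟨htC, htφ⟩ := (D.mem t).mp ht
  have hw' := Q.W_conj htC hw
  have hmW : t * w * t⁻¹ * w⁻¹ ∈ Q.W := mul_mem hw' (inv_mem hw)
  refine Q.fixed_mem_U ht htT hmW ?_
  have htt : t * t ∈ d.T := d.mem_T.mpr ⟨mul_mem htC htC, by
    show d.φ (⟨t, htC⟩ * ⟨t, htC⟩) = 1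
    rw [map_mul, (mem_fourFix.mp htφ).2]⟩
  have hA : (w * (t * t) * w⁻¹ * (t * t)⁻¹)⁻¹ ∈ c.Z2 := inv_mem ((Q.W_inY w hw).2.2 _ htt)
  set A := (w * (t * t) * w⁻¹ * (t * t)⁻¹)⁻¹ with hA'
  set w' := t * w * t⁻¹
  have e : t * (w' * w⁻¹) * t⁻¹ * (w' * w⁻¹)⁻¹ = A * (w * w'⁻¹ * w * w'⁻¹) := by
    simp only [hA', w', mul_inv_rev, inv_inv, mul_assoc, inv_mul_cancel_left, mul_inv_cancel_left]
  rw [e, show w * w'⁻¹ * w * w'⁻¹ = (w * w'⁻¹) * (w * w'⁻¹) by group, Q.W_sq (mul_mem hw (inv_mem hw')), mul_one]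
  exact hA

/-- The commutators with an element outside `T` fill `U`. -/
theorem gen : ∃ p ∈ Q.W, ∃ q ∈ Q.W, t * p * t⁻¹ * p⁻¹ ∉ c.Z2 ∧ t * q * t⁻¹ * q⁻¹ ∉ c.Z2 ∧
    t * p * t⁻¹ * p⁻¹ * (t * q * t⁻¹ * q⁻¹) ∉ c.Z2 := by
  obtain ⟨p, hp, hpU⟩ := Q.exists_notMem (M := Q.U) (by rw [Q.card]; omega)
  have hpn : p ∈ normalizer (Q.U : Set G) := mem_normalizer_of_conj fun w hw => by
    rw [(Q.W_comm hp (Q.U_le_W hw)).eq, mul_inv_cancel_right]; exact hw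
  have hp2 : p * p ∈ Q.U := by rw [Q.W_sq hp]; exact one_mem _
  obtain ⟨q, hq, hqU⟩ := Q.exists_notMem (M := Q.U ⊔ zpowers p)
    (by rw [card_sup_two hpn hp2 hpU, Q.card]; omega)
  refine ⟨p, hp, q, hq, fun h => hpU (Q.fixed_mem_U ht htT hp h),
    fun h => hqU (mem_sup_left (Q.fixed_mem_U ht htT hq h)), fun h => ?_⟩
  have hqm : t * q * t⁻¹ * q⁻¹ ∈ Q.W := mul_mem (Q.W_conj (D.le ht) hq) (inv_mem hq)
  have h1 : t * (p * q) * t⁻¹ * (p * q)⁻¹ = t * p * t⁻¹ * p⁻¹ * (t * q * t⁻¹ * q⁻¹) := by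
    calc t * (p * q) * t⁻¹ * (p * q)⁻¹ = t * p * t⁻¹ * ((t * q * t⁻¹ * q⁻¹) * p⁻¹) := by group
      _ = _ := by rw [(Q.W_comm hqm (inv_mem hp)).eq]; group
  rw [← h1] at h
  refine hqU ?_
  have h2 := mem_sup_left (T := zpowers p) (Q.fixed_mem_U ht htT (mul_mem hp hq) h)
  have h3 := mul_mem (inv_mem (mem_sup_right (S := Q.U) (mem_zpowers p))) h2
  rwa [inv_mul_cancel_left] at h3

end

/-- A 2-element of `C` outside `T` moves `W` out of every four-group over `⟨z⟩`. -/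
theorem move {t r : G} (ht : t ∈ c.C) (ht2 : IsTwo t) (htT : t ∉ d.T) (hr : r ∈ c.C) (hr2 : r * r ∈ c.Z2)
    (h : ∀ w ∈ Q.W, t * w * t⁻¹ * w⁻¹ ∈ c.Z2 ⊔ zpowers r) : False := by
  haveI := Fact.mk Nat.prime_two
  obtain ⟨k, hk⟩ := ht2
  let y : c.C := ⟨t, ht⟩
  have hy : orderOf y = 2 ^ k := by rw [← Subgroup.orderOf_coe]; exact hk
  obtain ⟨P, hP⟩ := (IsPGroup.of_card (p := 2) (n := k) (G := zpowers y)
    (by rw [Nat.card_zpowers, hy])).exists_le_sylow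
  obtain ⟨g, hg⟩ := MulAction.exists_smul_eq c.C P (D.S.subtype D.le)
  have hgt : ((g * y * g⁻¹ : c.C) : G) ∈ (D.S : Subgroup G) := by
    have h3 : g * y * g⁻¹ ∈ (D.S.subtype D.le : Subgroup c.C) := by
      rw [← hg, Sylow.coe_subgroup_smul, mem_pointwise_smul_iff_inv_smul_mem, ← map_inv]
      simpa [mul_assoc] using hP (mem_zpowers y)
    rwa [Sylow.coe_subtype, mem_subgroupOf] at h3
  rw [coe_mul, coe_mul, coe_inv, show ((y : c.C) : G) = t from rfl] at hgt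
  set t' := (g : G) * t * (g : G)⁻¹ with ht'
  have htT' : t' ∉ d.T := fun h1 => htT ((mem_normalizer_iff.mp (d.T_normal g.2) t).mpr h1)
  set r' := (g : G) * r * (g : G)⁻¹ with hr'
  have hr'C : r' ∈ c.C := mul_mem (mul_mem g.2 hr) (inv_mem g.2)
  have hr'2 : r' * r' ∈ c.Z2 := by
    rw [hr', conj_mul]; exact (mem_normalizer_iff.mp (c.Z2_normal g.2) _).mp hr2
  have h' : ∀ w ∈ Q.W, t' * w * t'⁻¹ * w⁻¹ ∈ c.Z2 ∨ r'⁻¹ * (t' * w * t'⁻¹ * w⁻¹) ∈ c.Z2 := by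
    intro w hw
    have h1 := h _ (Q.W_conj (inv_mem g.2) hw)
    rw [inv_inv] at h1
    have hn := c.Z2_normal g.2
    rcases (mem_Z2_sup hr hr2).mp h1 with h2 | h2
    · left
      have h3 := (mem_normalizer_iff.mp hn _).mp h2
      rwa [show (g : G) * (t * ((g : G)⁻¹ * w * g) * t⁻¹ * ((g : G)⁻¹ * w * g)⁻¹) * (g : G)⁻¹
        = t' * w * t'⁻¹ * w⁻¹ by rw [ht']; group] at h3
    · right
      have h3 := (mem_normalizer_iff.mp hn _).mp h2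
      rwa [show (g : G) * (r⁻¹ * (t * ((g : G)⁻¹ * w * g) * t⁻¹ * ((g : G)⁻¹ * w * g)⁻¹)) * (g : G)⁻¹
        = r'⁻¹ * (t' * w * t'⁻¹ * w⁻¹) by rw [ht', hr']; group] at h3
  obtain ⟨p, hp, q, hq, h1, h2, h3⟩ := Q.gen hgt htT'
  have e1 := (h' p hp).resolve_left h1
  have e2 := (h' q hq).resolve_left h2
  refine h3 ?_
  set m1 := r'⁻¹ * (t' * p * t'⁻¹ * p⁻¹) with hm1
  set m2 := r'⁻¹ * (t' * q * t'⁻¹ * q⁻¹) with hm2
  rw [show t' * p * t'⁻¹ * p⁻¹ = r' * m1 by rw [hm1, mul_inv_cancel_left],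
    show t' * q * t'⁻¹ * q⁻¹ = r' * m2 by rw [hm2, mul_inv_cancel_left],
    show r' * m1 * (r' * m2) = r' * (m1 * r') * m2 by group, (Z2_comm e1 hr'C).eq, ← mul_assoc r']
  exact mul_mem (mul_mem hr'2 e1) e2

include Q in
theorem card_S : 128 ≤ Nat.card (D.S : Subgroup G) := by
  have := card_le_of_le Q.W_le
  rw [Q.card_W] at this
  rw [D.card]
  omega

end UAlt

end AltShape

end Cfg

end Cfsg.Agent.Invol.CentSix
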