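import Cfsg.Agent.S0215
import Cfsg.Agent.Lib.Invol.FpfThree

/-!
# One class of involutions and a self-centralising element of order six: the basic configuration

`z` is the involution in the self-centralising cyclic subgroup, `u` the element of order three, `C` the
centraliser of `z`.
-/

set_option autoImplicit false
set_option linter.style.haveILetI false

namespace Cfsg.Agent.Invol.CentSix

open Subgroup

/-- A self-centralising element of order six in a group with one class of involutions. -/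
structure Cfg (G : Type*) [Group G] where
  /-- The element of order six. -/
  y : G
  ord : orderOf y = 6
  cent : centralizer ({y} : Set G) = zpowers y
  one : ∀ a b : G, orderOf a = 2 → orderOf b = 2 → IsConj a b

variable {G : Type*} [Group G]

/-- An element whose order is a power of two. -/
def IsTwo (x : G) : Prop := ∃ k : ℕ, orderOf x = 2 ^ k

theorem IsTwo.of_mem [Finite G] {P : Subgroup G} (hP : IsPGroup 2 P) {x : G} (hx : x ∈ P) : IsTwo x := by
  obtain ⟨k, hk⟩ := IsPGroup.iff_orderOf.mp hP ⟨x, hx⟩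
  exact ⟨k, by rw [← hk, ← Subgroup.orderOf_coe]⟩

theorem isTwo_invol {x : G} (h : x * x = 1) : IsTwo x := by
  rcases (Nat.dvd_prime Nat.prime_two).mp (orderOf_dvd_of_pow_eq_one (x := x) (n := 2) (by rw [pow_two, h]))
    with e | e
  · exact ⟨0, e⟩
  · exact ⟨1, e⟩

theorem IsTwo.conj {x : G} (h : IsTwo x) (g : G) : IsTwo (g * x * g⁻¹) := by
  obtain ⟨k, hk⟩ := h
  exact ⟨k, (MulEquiv.orderOf_eq (MulAut.conj g) x).trans hk⟩

theorem orderOf_conj (g x : G) : orderOf (g * x * g⁻¹) = orderOf x :=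
  MulEquiv.orderOf_eq (MulAut.conj g) x

theorem orderOf_eq_two {x : G} (h : x * x = 1) (h1 : x ≠ 1) : orderOf x = 2 :=
  orderOf_eq_prime (by rw [pow_two, h]) h1

theorem sq_of_orderOf_two {x : G} (h : orderOf x = 2) : x * x = 1 ∧ x ≠ 1 :=
  ⟨by rw [← pow_two, ← h, pow_orderOf_eq_one], fun e => by rw [e, orderOf_one] at h; omega⟩

theorem orderOf_eq_three {x : G} (h : x * x * x = 1) (h1 : x ≠ 1) : orderOf x = 3 :=
  haveI := Fact.mk Nat.prime_three
  orderOf_eq_prime (by rw [pow_succ, pow_two, h]) h1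

theorem mul_self_three {x : G} (h : orderOf x = 3) : x * x * x = 1 := by
  have := pow_orderOf_eq_one x
  rwa [h, pow_succ, pow_two] at this

/-- A group of 2-elements is a 2-group. -/
theorem isPGroup_of_isTwo [Finite G] {P : Subgroup G} (h : ∀ x ∈ P, IsTwo x) : IsPGroup 2 P := by
  refine IsPGroup.iff_orderOf.mpr fun x => ?_
  obtain ⟨k, hk⟩ := h x x.2
  exact ⟨k, by rw [← Subgroup.orderOf_coe, hk]⟩

/-- An element of order three normalising a 2-group: fixed points lift through invariant subgroups. -/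
theorem exists_fixed_lift [Finite G] {M : Subgroup G} (hM : IsPGroup 2 M) {a x : G} (ha : orderOf a = 3)
    (haM : a ∈ normalizer (M : Set G)) (hx : x⁻¹ * (a * x * a⁻¹) ∈ M) :
    ∃ m ∈ M, Commute (x * m) a := by
  classical
  cases nonempty_fintype M
  let σ : M → M := fun m => ⟨x⁻¹ * (a * x * a⁻¹) * (a * m * a⁻¹),
    mul_mem hx ((mem_normalizer_iff.mp haM m).mp m.2)⟩
  have ha3 := mul_self_three ha
  have h3 : ∀ m, σ (σ (σ m)) = m := fun m => Subtype.ext (by
    simp only [σ]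
    calc x⁻¹ * (a * x * a⁻¹) * (a * (x⁻¹ * (a * x * a⁻¹) * (a * (x⁻¹ * (a * x * a⁻¹) *
          (a * (m : G) * a⁻¹)) * a⁻¹)) * a⁻¹) = x⁻¹ * (a * a * a) * x * m * (a * a * a)⁻¹ := by group
      _ = m := by rw [ha3]; group)
  let e : Equiv.Perm M := ⟨σ, fun m => σ (σ m), h3, h3⟩
  have he : e ^ 3 ^ 1 = 1 := by
    ext m
    simp only [pow_one]
    show ((σ (σ (σ m))) : G) = m
    rw [h3]
  haveI := Fact.mk Nat.prime_three
  obtain ⟨m, hm⟩ := Equiv.Perm.exists_fixed_point_of_prime (α := M) (p := 3) (n := 1) (σ := e) (by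
    intro hd
    rw [← Nat.card_eq_fintype_card] at hd
    obtain ⟨k, hk⟩ := IsPGroup.iff_card.mp hM
    rw [hk] at hd
    exact absurd (Nat.prime_three.dvd_of_dvd_pow hd) (by norm_num)) he
  refine ⟨m, m.2, ?_⟩
  have := congrArg Subtype.val hm
  simp only [e, Equiv.coe_fn_mk, σ] at this
  show x * m * a = a * (x * m)
  calc x * (m : G) * a = x * (x⁻¹ * (a * x * a⁻¹) * (a * m * a⁻¹)) * a := by rw [this]
    _ = a * (x * m) := by group

namespace Cfg

variable (c : Cfg G)

/-- The involution. -/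
def z : G := c.y ^ 3

/-- The element of order three. -/
def u : G := c.y ^ 4

/-- The centraliser of the involution. -/
def C : Subgroup G := centralizer ({c.z} : Set G)

/-- The subgroup of order two. -/
def Z2 : Subgroup G := zpowers c.z

theorem z_mul_u : c.z * c.u = c.y := by
  rw [z, u, ← pow_add, show 3 + 4 = 6 + 1 by rfl, pow_add, ← c.ord, pow_orderOf_eq_one, one_mul, pow_one]

theorem orderOf_z : orderOf c.z = 2 := by
  rw [z, orderOf_pow' _ (by norm_num), c.ord]; rfl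

theorem orderOf_u : orderOf c.u = 3 := by
  rw [u, orderOf_pow' _ (by norm_num), c.ord]; rfl

theorem z_sq : c.z * c.z = 1 := (sq_of_orderOf_two c.orderOf_z).1

theorem z_ne : c.z ≠ 1 := (sq_of_orderOf_two c.orderOf_z).2

theorem z_inv : c.z⁻¹ = c.z := inv_eq_of_mul_eq_one_left c.z_sq

theorem mem_C {x : G} : x ∈ c.C ↔ x * c.z = c.z * x := mem_centralizer_singleton_iff

theorem comm_z {x : G} (hx : x ∈ c.C) : Commute x c.z := c.mem_C.mp hx

theorem z_mem_C : c.z ∈ c.C := c.mem_C.mpr rfl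

theorem u_mem_C : c.u ∈ c.C := c.mem_C.mpr ((Commute.refl c.y).pow_pow 4 3).eq

theorem conj_z {x : G} (hx : x ∈ c.C) : x * c.z * x⁻¹ = c.z := by
  rw [(c.comm_z hx).eq, mul_inv_cancel_right]

theorem Z2_le_C : c.Z2 ≤ c.C := zpowers_le.mpr c.z_mem_C

theorem z_mem_Z2 : c.z ∈ c.Z2 := mem_zpowers _

theorem mem_Z2 {x : G} : x ∈ c.Z2 ↔ x = 1 ∨ x = c.z := by
  constructor
  · rintro ⟨i, rfl⟩
    show c.z ^ i = 1 ∨ c.z ^ i = c.z
    obtain ⟨j, rfl | rfl⟩ := i.even_or_odd'
    · left; rw [zpow_mul, zpow_two, c.z_sq, one_zpow]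
    · right; rw [zpow_add, zpow_mul, zpow_two, c.z_sq, one_zpow, one_mul, zpow_one]
  · rintro (rfl | rfl)
    · exact one_mem _
    · exact mem_zpowers _

theorem card_Z2 : Nat.card c.Z2 = 2 := by rw [Z2, Nat.card_zpowers, c.orderOf_z]

theorem Z2_isTwo [Finite G] : IsPGroup 2 c.Z2 :=
  IsPGroup.of_card (n := 1) (by rw [c.card_Z2, pow_one])

theorem isTwo_z : IsTwo c.z := ⟨1, by rw [c.orderOf_z, pow_one]⟩

theorem Z2_normal {x : G} (hx : x ∈ c.C) : x ∈ normalizer (c.Z2 : Set G) := by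
  rw [mem_normalizer_iff]
  intro h
  rw [c.mem_Z2, c.mem_Z2]
  constructor
  · rintro (rfl | rfl)
    · left; group
    · right; exact c.conj_z hx
  · rintro (e | e)
    · left; exact conj_eq_one_iff.mp e
    · right
      calc h = x⁻¹ * (x * h * x⁻¹) * x := by group
        _ = c.z := by rw [e, mul_assoc, ← (c.comm_z hx).eq, inv_mul_cancel_left]

/-- The centraliser of `u` in `C`. -/
theorem cent_u {x : G} (hx : x ∈ c.C) (hxu : Commute x c.u) : ∃ i j : ℕ, x = c.z ^ i * c.u ^ j := by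
  have hm : x ∈ centralizer ({c.y} : Set G) := by
    rw [mem_centralizer_singleton_iff, ← c.z_mul_u]
    exact ((c.comm_z hx).mul_right hxu).eq
  rw [c.cent, mem_zpowers_iff] at hm
  obtain ⟨k, rfl⟩ := hm
  obtain ⟨n, hn⟩ : ∃ n : ℕ, c.y ^ k = c.y ^ n := by
    refine ⟨(k % 6).toNat, ?_⟩
    rw [← zpow_natCast, Int.toNat_of_nonneg (Int.emod_nonneg _ (by norm_num)),
      show (6 : ℤ) = ((orderOf c.y : ℕ) : ℤ) by rw [c.ord]; rfl, zpow_mod_orderOf]
  refine ⟨n, n, ?_⟩
  rw [hn, ← ((c.comm_z c.u_mem_C).symm).mul_pow, c.z_mul_u]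

variable [Finite G]

/-- The Sylow 3-subgroup of `C` has order three. -/
theorem exists_conj_three {a : G} (ha : a ∈ c.C) (ha3 : orderOf a = 3) :
    ∃ g ∈ c.C, g * a * g⁻¹ = c.u ∨ g * a * g⁻¹ = c.u * c.u := by
  haveI := Fact.mk Nat.prime_three
  let uC : c.C := ⟨c.u, c.u_mem_C⟩
  have hou : orderOf uC = 3 := by rw [← Subgroup.orderOf_coe]; exact c.orderOf_u
  obtain ⟨P, hP⟩ := (IsPGroup.of_card (p := 3) (n := 1) (G := zpowers uC)
    (by rw [Nat.card_zpowers, hou, pow_one])).exists_le_sylow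
  have huP : uC ∈ (P : Subgroup c.C) := hP (mem_zpowers _)
  haveI : Nontrivial (P : Subgroup c.C) := ⟨⟨⟨uC, huP⟩, 1, fun e => by
    have := congrArg (fun x : (P : Subgroup c.C) => orderOf (x : c.C)) e
    simp [hou] at this⟩⟩
  have key : ∀ x : c.C, x ∈ (P : Subgroup c.C) → Commute x uC → x ∈ zpowers uC := by
    intro x hxP hxu
    obtain ⟨i, j, hij⟩ := c.cent_u x.2 (congrArg Subtype.val hxu.eq)
    obtain ⟨k, hk⟩ := IsPGroup.iff_orderOf.mp P.2 ⟨x, hxP⟩
    rw [← Subgroup.orderOf_coe] at hk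
    have hxi : (c.z ^ i) = (x : G) * (c.u ^ j)⁻¹ := by rw [hij, mul_inv_cancel_right]
    have h3 : ((x : G) * (c.u ^ j)⁻¹) ^ (3 ^ (k + 1)) = 1 := by
      have hcomm : Commute (x : G) (c.u ^ j)⁻¹ :=
        ((show Commute (x : G) c.u from congrArg Subtype.val hxu.eq).pow_right j).inv_right
      rw [hcomm.mul_pow, inv_pow, ← pow_mul, pow_succ, ← mul_assoc, mul_comm (j * 3 ^ k) 3, pow_mul c.u 3,
        show c.u ^ 3 = 1 from c.orderOf_u ▸ pow_orderOf_eq_one _, one_pow, inv_one, mul_one, pow_mul,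
        show (x : G) ^ (3 ^ k) = 1 by rw [← hk, ← Subgroup.orderOf_coe, pow_orderOf_eq_one], one_pow]
    rw [← hxi, ← pow_mul] at h3
    have hd := orderOf_dvd_of_pow_eq_one h3
    rw [c.orderOf_z] at hd
    have hi : 2 ∣ i := ((Nat.Prime.dvd_mul Nat.prime_two).mp hd).resolve_right fun h =>
      absurd (Nat.prime_two.dvd_of_dvd_pow h) (by norm_num)
    refine ⟨j, Subtype.ext ?_⟩
    show ((uC ^ (j : ℤ) : c.C) : G) = x
    obtain ⟨l, rfl⟩ := hi
    rw [hij, pow_mul, pow_two, c.z_sq, one_pow, one_mul, zpow_natCast, SubmonoidClass.coe_pow]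
  have hcard : Nat.card (P : Subgroup c.C) = 3 := by
    obtain ⟨k, hk⟩ := exists_prime_orderOf_dvd_card' (G := center (P : Subgroup c.C)) 3 (by
      haveI := P.2.center_nontrivial
      obtain ⟨n, hn0, hn⟩ := ((P.2.to_subgroup (center (P : Subgroup c.C))).nontrivial_iff_card).mp inferInstance
      rw [hn]; exact dvd_pow_self 3 (by omega))
    have hkc : ∀ x : (P : Subgroup c.C), x * k.1 = k.1 * x := mem_center_iff.mp k.2
    have hku : ((k.1 : (P : Subgroup c.C)) : c.C) ∈ zpowers uC :=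
      key _ k.1.2 (congrArg Subtype.val (hkc ⟨uC, huP⟩)).symm
    have hk3 : orderOf ((k.1 : (P : Subgroup c.C)) : c.C) = 3 := by
      rw [Subgroup.orderOf_coe, Subgroup.orderOf_coe, hk]
    have heq : zpowers ((k.1 : (P : Subgroup c.C)) : c.C) = zpowers uC :=
      eq_of_le_of_card_ge (zpowers_le.mpr hku) (by rw [Nat.card_zpowers, Nat.card_zpowers, hk3, hou])
    have hle : (P : Subgroup c.C) ≤ zpowers uC := fun x hx => by
      refine key x hx ?_
      have hc : Commute x ((k.1 : (P : Subgroup c.C)) : c.C) := congrArg Subtype.val (hkc ⟨x, hx⟩)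
      obtain ⟨i, hi⟩ : uC ∈ zpowers ((k.1 : (P : Subgroup c.C)) : c.C) := heq ▸ mem_zpowers uC
      rw [← hi]
      exact hc.zpow_right i
    rw [le_antisymm hle hP, Nat.card_zpowers, hou]
  have hPu : (P : Subgroup c.C) = zpowers uC :=
    (eq_of_le_of_card_ge hP (by rw [hcard, Nat.card_zpowers, hou])).symm
  let aC : c.C := ⟨a, ha⟩
  have hoa : orderOf aC = 3 := by rw [← Subgroup.orderOf_coe]; exact ha3
  obtain ⟨Q, hQ⟩ := (IsPGroup.of_card (p := 3) (n := 1) (G := zpowers aC)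
    (by rw [Nat.card_zpowers, hoa, pow_one])).exists_le_sylow
  obtain ⟨g, hg⟩ := MulAction.exists_smul_eq c.C Q P
  have hga : g * aC * g⁻¹ ∈ zpowers uC := by
    rw [← hPu, ← hg, Sylow.coe_subgroup_smul, mem_pointwise_smul_iff_inv_smul_mem, ← map_inv]
    simpa [mul_assoc] using hQ (mem_zpowers aC)
  obtain ⟨i, hi⟩ := hga
  have hi' : c.u ^ i = (g : G) * a * (g : G)⁻¹ := by
    have := congrArg Subtype.val hi
    simpa using this
  have hu3 : c.u ^ (3 : ℤ) = 1 := by
    rw [show (3 : ℤ) = ((3 : ℕ) : ℤ) from rfl, zpow_natCast, ← c.orderOf_u, pow_orderOf_eq_one]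
  have hmod : c.u ^ i = c.u ^ (i % 3) := by
    rw [show (3 : ℤ) = ((orderOf c.u : ℕ) : ℤ) by rw [c.orderOf_u]; rfl, zpow_mod_orderOf]
  refine ⟨g, g.2, ?_⟩
  rw [← hi', hmod]
  have h0 := Int.emod_nonneg i (show (3 : ℤ) ≠ 0 by norm_num)
  have h1 := Int.emod_lt_of_pos i (show (0 : ℤ) < 3 by norm_num)
  have h2 : i % 3 = 0 ∨ i % 3 = 1 ∨ i % 3 = 2 := by omega
  rcases h2 with e | e | e
  · exfalso
    have : (g : G) * a * (g : G)⁻¹ = 1 := by rw [← hi', hmod, e, zpow_zero]
    rw [conj_eq_one_iff.mp this, orderOf_one] at ha3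
    omega
  · left; rw [e, zpow_one]
  · right; rw [e, zpow_two]

/-- The centraliser in `C` of an element of order three. -/
theorem cent_three {a x : G} (ha : a ∈ c.C) (ha3 : orderOf a = 3) (hx : x ∈ c.C) (hxa : Commute x a) :
    ∃ i j : ℕ, x = c.z ^ i * a ^ j := by
  obtain ⟨g, hg, hgu⟩ := c.exists_conj_three ha ha3
  have hxu : Commute (g * x * g⁻¹) c.u := by
    have h1 : Commute (g * x * g⁻¹) (g * a * g⁻¹) := hxa.map (MulAut.conj g).toMonoidHom
    rcases hgu with e | e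
    · rwa [e] at h1
    · rw [e] at h1
      have h2 := h1.mul_right h1
      rwa [show c.u * c.u * (c.u * c.u) = c.u * c.u * c.u * c.u by group, mul_self_three c.orderOf_u,
        one_mul] at h2
  obtain ⟨i, j, hij⟩ := c.cent_u (mul_mem (mul_mem hg hx) (inv_mem hg)) hxu
  obtain ⟨m, hm⟩ : ∃ m : ℕ, c.u = (g * a * g⁻¹) ^ m := by
    rcases hgu with e | e
    · exact ⟨1, by rw [pow_one, e]⟩
    · refine ⟨2, ?_⟩
      rw [pow_two, e, show c.u * c.u * (c.u * c.u) = c.u * c.u * c.u * c.u by group,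
        mul_self_three c.orderOf_u, one_mul]
  refine ⟨i, m * j, ?_⟩
  have hgz : Commute g⁻¹ (c.z ^ i) := ((c.comm_z (inv_mem hg))).pow_right i
  calc x = g⁻¹ * (g * x * g⁻¹) * g := by group
    _ = g⁻¹ * c.z ^ i * ((g * a * g⁻¹) ^ (m * j)) * g := by rw [hij, hm, ← pow_mul]; group
    _ = c.z ^ i * g⁻¹ * (g * a ^ (m * j) * g⁻¹) * g := by rw [hgz.eq, conj_pow]
    _ = _ := by group

/-- Only `z` among the 2-elements of `C` commutes with an element of order three. -/
theorem two_fixed {a x : G} (ha : a ∈ c.C) (ha3 : orderOf a = 3) (hx : x ∈ c.C) (hxa : Commute x a)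
    (h2 : IsTwo x) : x ∈ c.Z2 := by
  obtain ⟨i, j, rfl⟩ := c.cent_three ha ha3 hx hxa
  obtain ⟨k, hk⟩ := h2
  have h1 : (c.z ^ i * a ^ j) ^ (2 ^ (k + 1)) = 1 := by
    rw [pow_succ, pow_mul, ← hk, pow_orderOf_eq_one, one_pow]
  rw [((((c.comm_z ha).symm).pow_pow i j)).mul_pow, ← pow_mul, pow_succ, ← mul_assoc, pow_mul c.z,
    pow_two (c.z ^ (i * 2 ^ k)), ← pow_add, ← two_mul, pow_mul c.z 2, pow_two, c.z_sq, one_pow, one_mul,
    ← pow_mul] at h1
  have hd := orderOf_dvd_of_pow_eq_one h1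
  rw [ha3] at hd
  rw [← pow_succ] at hd
  obtain ⟨l, rfl⟩ := ((Nat.Prime.dvd_mul Nat.prime_three).mp hd).resolve_right fun h =>
    absurd (Nat.prime_three.dvd_of_dvd_pow h) (by norm_num)
  rw [pow_mul a, ← ha3, pow_orderOf_eq_one, one_pow, mul_one]
  exact pow_mem c.z_mem_Z2 i

/-- No element of order prime to six commutes with an element of order three. -/
theorem six_fixed {a x : G} (ha : a ∈ c.C) (ha3 : orderOf a = 3) (hx : x ∈ c.C) (hxa : Commute x a)
    (h6 : (orderOf x).Coprime 6) : x = 1 := by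
  obtain ⟨i, j, rfl⟩ := c.cent_three ha ha3 hx hxa
  refine orderOf_eq_one_iff.mp (Nat.eq_one_of_dvd_coprimes h6 dvd_rfl (orderOf_dvd_of_pow_eq_one ?_))
  rw [(((c.comm_z ha).symm).pow_pow i j).mul_pow, ← pow_mul, ← pow_mul, mul_comm i 6, mul_comm j 6, pow_mul,
    pow_mul a, show 6 = 2 * 3 by rfl, pow_mul c.z, pow_two, c.z_sq, one_pow, one_pow, one_mul,
    show 2 * 3 = 3 * 2 by rfl, pow_mul a, ← ha3, pow_orderOf_eq_one, one_pow, one_pow]

theorem exists_conj_invol {p : G} (hp : orderOf p = 2) : ∃ g : G, g * c.z * g⁻¹ = p :=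
  isConj_iff.mp (c.one _ _ c.orderOf_z hp)

/-- A Sylow 2-subgroup inside `C`. -/
theorem exists_sylow : ∃ S : Sylow 2 G, (S : Subgroup G) ≤ c.C := by
  haveI := Fact.mk Nat.prime_two
  obtain ⟨S, hS⟩ := (c.Z2_isTwo).exists_le_sylow
  haveI : Nontrivial (S : Subgroup G) := ⟨⟨⟨c.z, hS c.z_mem_Z2⟩, 1, fun e => c.z_ne (congrArg Subtype.val e)⟩⟩
  haveI := S.2.center_nontrivial
  obtain ⟨n, hn0, hn⟩ := ((S.2.to_subgroup (center (S : Subgroup G))).nontrivial_iff_card).mp inferInstance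
  obtain ⟨b, hb⟩ := exists_prime_orderOf_dvd_card' (G := center (S : Subgroup G)) 2 (by
    rw [hn]; exact dvd_pow_self 2 (by omega))
  rw [← Subgroup.orderOf_coe, ← Subgroup.orderOf_coe] at hb
  obtain ⟨g, hg⟩ := c.exists_conj_invol hb
  refine ⟨g⁻¹ • S, fun x hx => c.mem_C.mpr ?_⟩
  rw [Sylow.coe_subgroup_smul, mem_pointwise_smul_iff_inv_smul_mem, ← map_inv, inv_inv] at hx
  have h1 : ((MulAut.conj g) • x) * (b.1 : G) = (b.1 : G) * ((MulAut.conj g) • x) :=
    congrArg Subtype.val (mem_center_iff.mp b.2 ⟨_, hx⟩)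
  rw [← hg] at h1
  simp only [MulAut.smul_def, MulAut.conj_apply] at h1
  calc x * c.z = g⁻¹ * (g * x * g⁻¹ * (g * c.z * g⁻¹)) * g := by group
    _ = c.z * x := by rw [h1]; group

theorem z_mem_sylow {S : Sylow 2 G} (hS : (S : Subgroup G) ≤ c.C) : c.z ∈ (S : Subgroup G) := by
  have hN : (S : Subgroup G) ≤ normalizer (c.Z2 : Set G) := fun x hx => c.Z2_normal (hS hx)
  exact S.3 (S.2.to_sup_of_normal_right' c.Z2_isTwo hN) le_sup_left ▸ mem_sup_right c.z_mem_Z2

/-- An involution centralising a Sylow 2-subgroup is conjugate to `z` in its normaliser. -/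
theorem burnside {S : Sylow 2 G} (hS : (S : Subgroup G) ≤ c.C) {b : G} (hb : orderOf b = 2)
    (hbS : ∀ x ∈ (S : Subgroup G), Commute x b) :
    ∃ n ∈ normalizer ((S : Subgroup G) : Set G), n * c.z * n⁻¹ = b := by
  haveI := Fact.mk Nat.prime_two
  obtain ⟨g, hg⟩ := c.exists_conj_invol hb
  set B := centralizer ({b} : Set G)
  have hSB : (S : Subgroup G) ≤ B := fun x hx => mem_centralizer_singleton_iff.mpr (hbS x hx).eq
  have hgB : (g • S : Sylow 2 G).toSubgroup ≤ B := by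
    intro x hx
    rw [Sylow.coe_subgroup_smul, mem_pointwise_smul_iff_inv_smul_mem, ← map_inv] at hx
    have h1 := (c.comm_z (hS hx)).map (MulAut.conj g).toMonoidHom
    simp only [MulEquiv.toMonoidHom_eq_coe, MonoidHom.coe_coe, MulAut.smul_def, MulAut.conj_apply, inv_inv,
      hg] at h1
    rw [mem_centralizer_singleton_iff]
    simpa [mul_assoc] using h1.eq
  obtain ⟨k, hk⟩ := MulAction.exists_smul_eq B ((g • S).subtype hgB) (S.subtype hSB)
  have hk' : ((k : G) * g) • S = S := by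
    refine Sylow.ext ?_
    have h1 := congrArg (fun Q : Sylow 2 B => (Q : Subgroup B).map B.subtype) hk
    simp only [Sylow.coe_subgroup_smul, Sylow.coe_subtype, map_subgroupOf_eq_of_le hSB] at h1
    rw [mul_smul, Sylow.coe_subgroup_smul]
    conv_rhs => rw [← h1]
    ext x
    simp only [mem_pointwise_smul_iff_inv_smul_mem, mem_map, mem_subgroupOf, MulAut.smul_def, ← map_inv,
      MulAut.conj_apply, inv_inv]
    constructor
    · intro hx
      have hy : (k : G)⁻¹ * x * k ∈ (g • S : Sylow 2 G).toSubgroup := by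
        simpa [mul_assoc] using hx
      refine ⟨⟨x, ?_⟩, ?_, rfl⟩
      · have h2 := hgB hy
        simpa [mul_assoc] using mul_mem (mul_mem k.2 h2) (inv_mem k.2)
      · simpa [Sylow.coe_subgroup_smul, mem_pointwise_smul_iff_inv_smul_mem, MulAut.smul_def, ← map_inv,
          mul_assoc] using hy
    · rintro ⟨x, hx, rfl⟩
      simpa [Sylow.coe_subgroup_smul, mem_pointwise_smul_iff_inv_smul_mem, MulAut.smul_def, ← map_inv,
          mul_assoc] using hx
  refine ⟨(k : G) * g, Sylow.smul_eq_iff_mem_normalizer.mp hk', ?_⟩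
  rw [show (k : G) * g * c.z * ((k : G) * g)⁻¹ = k * (g * c.z * g⁻¹) * (k : G)⁻¹ by group, hg,
    mem_centralizer_singleton_iff.mp k.2, mul_inv_cancel_right]

/-- `z` is not the only involution of a Sylow 2-subgroup. -/
theorem exists_invol_ne [IsSimpleGroup G] (hG : ¬ IsMulCommutative G) {S : Sylow 2 G}
    (hS : (S : Subgroup G) ≤ c.C) : ∃ w ∈ (S : Subgroup G), orderOf w = 2 ∧ w ≠ c.z := by
  by_contra hno
  push Not at hno
  obtain ⟨N, hN, hodd, hz⟩ := S0215.result S c.z c.orderOf_z (c.z_mem_sylow hS) fun g hg =>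
    hno _ hg (by rw [orderOf_conj, c.orderOf_z])
  rcases hN.eq_bot_or_eq_top with rfl | rfl
  · haveI : IsSimpleGroup G := inferInstance
    have hc : c.z ∈ center G := mem_center_iff.mpr fun g => by
      have h1 := mem_bot.mp (hz g)
      rw [mul_inv_eq_one, mul_inv_eq_iff_eq_mul] at h1
      exact h1.symm
    rcases (inferInstance : (center G).Normal).eq_bot_or_eq_top with e | e
    · rw [e, mem_bot] at hc; exact c.z_ne hc
    · exact hG ⟨⟨fun a b => mem_center_iff.mp (e ▸ mem_top b) a⟩⟩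
  · rw [card_top] at hodd
    have := orderOf_dvd_natCard c.z
    rw [c.orderOf_z] at this
    exact absurd hodd (Nat.not_odd_iff_even.mpr (even_iff_two_dvd.mpr this))

/-- Modulo `z`, a 2-subgroup of `C` normalised by an element of order three has that element fixed-point-free. -/
theorem orbit_prod {M : Subgroup G} (hMC : M ≤ c.C) (hM : IsPGroup 2 M) (hzM : c.z ∈ M) {a : G}
    (ha : a ∈ c.C) (ha3 : orderOf a = 3) (haM : a ∈ normalizer (M : Set G)) {x : G} (hx : x ∈ M) :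
    x * (a * x * a⁻¹) * (a * a * x * (a * a)⁻¹) ∈ c.Z2 := by
  haveI hn : (c.Z2.subgroupOf M).Normal :=
    normal_subgroupOf_of_le_normalizer fun m hm => c.Z2_normal (hMC hm)
  have hmem : ∀ m : M, m ∈ c.Z2.subgroupOf M ↔ (m : G) ∈ c.Z2 := fun m => mem_subgroupOf
  let f : M ≃* M := M.normalizerMonoidHom ⟨a, haM⟩
  have hf : ∀ m : M, (f m : G) = a * m * a⁻¹ := fun m => rfl
  let ψ : MulAut (M ⧸ c.Z2.subgroupOf M) := QuotientGroup.congr _ _ f (by
    ext m
    obtain ⟨m, rfl⟩ := f.surjective m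
    rw [hmem, hf]
    constructor
    · rintro ⟨m', hm', hm''⟩
      have e : m' = m := f.injective hm''
      exact (mem_normalizer_iff.mp (c.Z2_normal ha) _).mp ((hmem m).mp (e ▸ hm'))
    · intro h
      exact ⟨m, (hmem m).mpr ((mem_normalizer_iff.mp (c.Z2_normal ha) _).mpr h), rfl⟩)
  have hψ : ∀ m : M, ψ m = ((f m : M) : M ⧸ c.Z2.subgroupOf M) := fun m => rfl
  have ha' := mul_self_three ha3
  have hF : FpfThree.Fpf ψ := ⟨fun q => by
    obtain ⟨m, rfl⟩ := QuotientGroup.mk_surjective q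
    rw [hψ, hψ, hψ]
    congr 1
    refine Subtype.ext ?_
    rw [hf, hf, hf]
    calc a * (a * (a * (m : G) * a⁻¹) * a⁻¹) * a⁻¹ = a * a * a * m * (a * a * a)⁻¹ := by group
      _ = m := by rw [ha']; group,
    fun q hq => by
    obtain ⟨m, rfl⟩ := QuotientGroup.mk_surjective q
    rw [hψ, eq_comm, QuotientGroup.eq, hmem] at hq
    simp only [coe_mul, coe_inv, hf] at hq
    obtain ⟨k, hk, hc⟩ := exists_fixed_lift c.Z2_isTwo ha3 (c.Z2_normal ha) hq
    have h2 := c.two_fixed ha ha3 (mul_mem (hMC m.2) (c.Z2_le_C hk)) hc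
      (IsTwo.of_mem hM (mul_mem m.2 ((zpowers_le.mpr hzM : c.Z2 ≤ M) hk)))
    rw [QuotientGroup.eq_one_iff, hmem]
    exact ((Subgroup.mul_mem_cancel_right _ hk).mp h2)⟩
  have h1 := hF.prod ((⟨x, hx⟩ : M) : M ⧸ c.Z2.subgroupOf M)
  rw [hψ, hψ, ← QuotientGroup.mk_mul, ← QuotientGroup.mk_mul, QuotientGroup.eq_one_iff, hmem] at h1
  simp only [coe_mul, hf] at h1
  rwa [show a * a * x * (a * a)⁻¹ = a * (a * x * a⁻¹) * a⁻¹ by group]

/-- An involution commutes with its image under such an element. -/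
theorem comm_orbit {M : Subgroup G} (hMC : M ≤ c.C) (hM : IsPGroup 2 M) (hzM : c.z ∈ M) {a : G}
    (ha : a ∈ c.C) (ha3 : orderOf a = 3) (haM : a ∈ normalizer (M : Set G)) {x : G} (hx : x ∈ M)
    (hx2 : x * x = 1) : Commute x (a * x * a⁻¹) := by
  have h := c.orbit_prod hMC hM hzM ha ha3 haM hx
  set x' := a * x * a⁻¹ with hx'
  set x'' := a * a * x * (a * a)⁻¹ with hx''
  have h' : x' * x' = 1 := by rw [hx', conj_mul, hx2]; group
  have h'' : x'' * x'' = 1 := by rw [hx'', conj_mul, hx2]; group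
  have hC'' : x'' ∈ c.C := by rw [hx'']; exact mul_mem (mul_mem (mul_mem ha ha) (hMC hx)) (inv_mem (mul_mem ha ha))
  have hsq : x * x' * (x * x') = 1 := by
    rcases (c.mem_Z2).mp h with e | e
    · rw [eq_inv_of_mul_eq_one_left e, inv_eq_of_mul_eq_one_left h'', h'']
    · have e' : x * x' = c.z * x'' := by
        calc x * x' = x * x' * x'' * x''⁻¹ := by group
          _ = c.z * x'' := by rw [e, inv_eq_of_mul_eq_one_left h'']
      rw [e', show c.z * x'' * (c.z * x'') = c.z * (x'' * c.z) * x'' by group, (c.comm_z hC'').eq,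
        show c.z * (c.z * x'') * x'' = c.z * c.z * (x'' * x'') by group, c.z_sq, one_mul, h'']
  show x * x' = x' * x
  rw [eq_inv_of_mul_eq_one_left hsq, mul_inv_rev, inv_eq_of_mul_eq_one_left h', inv_eq_of_mul_eq_one_left hx2]

end Cfg

end Cfsg.Agent.Invol.CentSix
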