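import Cfsg.Agent.Lib.Invol.CentSix.GeoSolv
import Cfsg.Agent.Lib.Invol.TwoTimesAlt.FourMain
import Cfsg.Agent.Lib.Invol.HJ.NormV

/-!
# Another central involution, with `u` normalising the Sylow subgroup

The normaliser of the Sylow subgroup is a local overgroup, so the Sylow subgroup has order eight; the
centraliser is then `2 × A₄`, which no simple group has.
-/

set_option autoImplicit false
set_option linter.style.haveILetI false

namespace Cfsg.Agent.Invol.CentSix

open Subgroup

variable {G : Type*} [Group G] [Finite G] {c : Cfg G} {S : Sylow 2 G}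

/-- The normaliser of the Sylow subgroup, when it moves `z`. -/
theorem LHyp.of_normalizer (hS : (S : Subgroup G) ≤ c.C) (hu : c.u ∈ normalizer ((S : Subgroup G) : Set G))
    {b : G} (hb : orderOf b = 2) (hbc : ∀ x ∈ (S : Subgroup G), Commute x b) (hbz : b ≠ c.z)
    (small : ∀ K : Subgroup G, (S : Subgroup G) ≤ K → c.u ∈ K → K ≤ c.C → ∀ N ≤ K, K ≤ normalizer (N : Set G) →
      (∀ a ∈ N, orderOf a ≠ 3) → IsPGroup 2 N) :
    LHyp c S (normalizer ((S : Subgroup G) : Set G)) := by
  obtain ⟨n, hn, hnz⟩ := c.burnside hS hb hbc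
  exact ⟨hS, le_normalizer, hu, fun hle => hbz (by rw [← hnz, c.conj_z (hle hn)]),
    le_core2 le_normalizer le_rfl S.2 (c.z_mem_sylow hS), small⟩

namespace Cfg

namespace SolvShape

variable {d : c.SolvShape}

theorem no_center_nrm [IsSimpleGroup G] (hG : ¬ IsMulCommutative G) (D : d.UData S)
    (hS : (S : Subgroup G) ≤ c.C) (hK : d.K = ⊥) (hST : (S : Subgroup G) ≤ d.T) {b : G} (hb : orderOf b = 2)
    (hbc : ∀ x ∈ (S : Subgroup G), Commute x b) (hbz : b ≠ c.z) : False := by
  classical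
  haveI := Fact.mk Nat.prime_two
  have hu := d.normalizes_of_le hS hST
  have h8 := (LHyp.of_normalizer hS hu hb hbc hbz (D.geo hS hK).small).nrm hu
  have hSU : D.U = (S : Subgroup G) :=
    eq_of_le_of_card_ge (D.le.trans (d.T_le_sylow hS)) (by rw [h8, D.card])
  -- the four-group complementing `z`
  set e' := c.u * D.e * c.u⁻¹ with he'
  have he'U : e' ∈ D.U := D.U_conj c.u_mem_C D.e_mem
  set v := D.e * e' with hv
  have hvU : v ∈ D.U := mul_mem D.e_mem he'U
  have hvz : v ∉ c.Z2 := fun h => D.e_notMem (moved_mod d.T_le d.T_isTwo d.z_mem_T c.u_mem_C c.orderOf_u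
    (D.le D.e_mem) (by rwa [inv_eq_of_mul_eq_one_left (D.sq _ D.e_mem)]))
  set v' := c.u * v * c.u⁻¹ with hv'
  have hv'U : v' ∈ D.U := D.U_conj c.u_mem_C hvU
  have hv'z : v' ∉ c.Z2 := fun h => hvz ((mem_normalizer_iff.mp (c.Z2_normal c.u_mem_C) v).mpr h)
  have hvv'z : v⁻¹ * v' ∉ c.Z2 := fun h =>
    hvz (moved_mod d.T_le d.T_isTwo d.z_mem_T c.u_mem_C c.orderOf_u (D.le hvU) h)
  have hvsq := D.sq v hvU
  have hv'sq := D.sq v' hv'U
  have hvmem : ∀ {x : G}, x ∈ zpowers v ↔ x = 1 ∨ x = v := by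
    intro x
    constructor
    · rintro ⟨i, rfl⟩
      show v ^ i = 1 ∨ v ^ i = v
      obtain ⟨j, rfl | rfl⟩ := i.even_or_odd'
      · left; rw [zpow_mul, zpow_two, hvsq, one_zpow]
      · right; rw [zpow_add, zpow_mul, zpow_two, hvsq, one_zpow, one_mul, zpow_one]
    · rintro (rfl | rfl)
      · exact one_mem _
      · exact mem_zpowers _
  have hv'n : v' ∈ normalizer (zpowers v : Set G) := mem_normalizer_of_conj fun x hx => by
    rw [(D.U_comm hv'U ((zpowers_le.mpr hvU : zpowers v ≤ D.U) hx)).eq, mul_inv_cancel_right]; exact hx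
  have hv'2 : v' * v' ∈ zpowers v := by rw [hv'sq]; exact one_mem _
  have hv'v : v' ∉ zpowers v := fun h => by
    rcases hvmem.mp h with e | e
    · exact hv'z (by rw [e]; exact one_mem _)
    · exact hvv'z (by rw [e, inv_mul_cancel]; exact one_mem _)
  set V := zpowers v ⊔ zpowers v' with hV
  have hVU : V ≤ D.U := sup_le (zpowers_le.mpr hvU) (zpowers_le.mpr hv'U)
  have hV4 : Nat.card V = 4 := by
    rw [hV, card_sup_two hv'n hv'2 hv'v, Nat.card_zpowers, orderOf_eq_two hvsq (fun e => hvz (by rw [e]; exact one_mem _))]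
  have hzV : c.z ∉ V := fun h => by
    rcases (mem_sup_two hv'n hv'2).mp h with h1 | h1
    · rcases hvmem.mp h1 with e | e
      · exact c.z_ne e
      · exact hvz (e ▸ c.z_mem_Z2)
    · rcases hvmem.mp h1 with e | e
      · exact hv'z (by rw [inv_mul_eq_one.mp e]; exact c.z_mem_Z2)
      · refine hvv'z ?_
        have e' : c.z = v' * v := by rw [← e, mul_inv_cancel_left]
        rw [inv_eq_of_mul_eq_one_left hvsq, (D.U_comm hvU hv'U).eq, ← e']
        exact c.z_mem_Z2
  have huV : c.u ∈ normalizer (V : Set G) := mem_normalizer_of_conj fun x hx => by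
    have h2 : c.u * v' * c.u⁻¹ = (v * v') := by
      have hee : Commute D.e e' := D.U_comm D.e_mem he'U
      set e'' := c.u * e' * c.u⁻¹
      have hu3 := mul_self_three c.orderOf_u
      have hu'' : c.u * e'' * c.u⁻¹ = D.e := by
        calc c.u * e'' * c.u⁻¹ = c.u * c.u * c.u * D.e * (c.u * c.u * c.u)⁻¹ := by
              simp only [e'', he']; group
          _ = D.e := by rw [hu3]; group
      have he''U : e'' ∈ D.U := D.U_conj c.u_mem_C he'U
      have hv'e : v' = e' * e'' := by simp only [hv', hv, e'', he']; group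
      rw [hv'e, show c.u * (e' * e'') * c.u⁻¹ = e'' * (c.u * e'' * c.u⁻¹) by simp only [e'']; group, hu'', hv,
        show D.e * e' * (e' * e'') = D.e * (e' * e') * e'' by group, D.sq e' he'U, mul_one,
        (D.U_comm D.e_mem he''U).eq]
    have hle : V ≤ V.comap (MulAut.conj c.u).toMonoidHom := by
      refine sup_le (zpowers_le.mpr ?_) (zpowers_le.mpr ?_)
      · show c.u * v * c.u⁻¹ ∈ V
        exact mem_sup_right (mem_zpowers _)
      · show c.u * v' * c.u⁻¹ ∈ V
        rw [h2]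
        exact mul_mem (mem_sup_left (mem_zpowers _)) (mem_sup_right (mem_zpowers _))
    exact hle hx
  have hun : zpowers c.u ≤ normalizer (V : Set G) := zpowers_le.mpr huV
  set T0 := zpowers c.u ⊔ V with hT0
  have hcop : ∀ {x : G}, x ∈ D.U → x ∈ zpowers c.u → x = 1 := fun {x} hx hx' => by
    have h1 : orderOf x ∣ 2 := orderOf_dvd_of_pow_eq_one (by rw [pow_two]; exact D.sq x hx)
    have h2 : orderOf x ∣ 3 := c.orderOf_u ▸ orderOf_dvd_of_mem_zpowers hx'
    exact orderOf_eq_one_iff.mp (Nat.eq_one_of_dvd_coprimes (by norm_num : Nat.Coprime 2 3) h1 h2)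
  have h12 : Nat.card T0 = 12 := by
    have h := Grp.card_sup_mul_card_inf hun
    rw [show zpowers c.u ⊓ V = ⊥ from eq_bot_iff.mpr fun x hx => mem_bot.mpr (hcop (hVU hx.2) hx.1),
      card_bot, mul_one, Nat.card_zpowers, c.orderOf_u, hV4] at h
    exact h
  have hVT0 : V ≤ T0 := le_sup_right
  have huT0 : c.u ∈ T0 := mem_sup_left (mem_zpowers _)
  haveI : (V.subgroupOf T0).Normal := normal_subgroupOf_of_le_normalizer (sup_le hun le_normalizer)
  have hvT0 : v ∈ V := mem_sup_left (mem_zpowers _)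
  obtain ⟨e0⟩ := HJ.iso_alt_four h12 (V.subgroupOf T0)
    (by rw [Nat.card_congr (subgroupOfEquivOfLe hVT0).toEquiv, hV4]) (a := ⟨c.u, huT0⟩) (v := ⟨v, hVT0 hvT0⟩)
    (by rw [← Subgroup.orderOf_coe]; exact c.orderOf_u) (mem_subgroupOf.mpr hvT0)
    (fun e => hvv'z (by
      have e1 : c.u * v = v * c.u := congrArg Subtype.val e
      rw [hv', e1, mul_inv_cancel_right, inv_mul_cancel]
      exact one_mem _))
  have hT0C : T0 ≤ c.C := sup_le (zpowers_le.mpr c.u_mem_C) (hVU.trans D.U_le_C)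
  have hinf : zpowers c.z ⊓ T0 = ⊥ := by
    refine eq_bot_iff.mpr fun x hx => mem_bot.mpr ?_
    rcases c.mem_Z2.mp hx.1 with e | e
    · exact e
    exfalso
    have h1 : c.z ∈ ((zpowers c.u ⊔ V : Subgroup G) : Set G) := e ▸ hx.2
    rw [coe_mul_of_left_le_normalizer_right _ _ hun] at h1
    obtain ⟨a, ha, w, hw, haw⟩ := h1
    replace haw : a * w = c.z := haw
    have ha' : a ∈ D.U := by
      have : a = c.z * w⁻¹ := eq_mul_inv_of_mul_eq haw
      rw [this]; exact mul_mem D.z_mem (inv_mem (hVU hw))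
    rw [hcop ha' ha, one_mul] at haw
    exact hzV (haw ▸ hw)
  have hsup : zpowers c.z ⊔ T0 = c.C := by
    refine le_antisymm (sup_le c.Z2_le_C hT0C) ?_
    have hUle : D.U ≤ zpowers c.z ⊔ V := by
      refine (eq_of_le_of_card_ge (sup_le (zpowers_le.mpr D.z_mem) hVU) ?_).ge
      have hn : zpowers c.z ≤ normalizer (V : Set G) := zpowers_le.mpr (mem_normalizer_of_conj fun x hx => by
        rw [(D.U_comm D.z_mem (hVU hx)).eq, mul_inv_cancel_right]; exact hx)
      have h := Grp.card_sup_mul_card_inf hn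
      rw [show zpowers c.z ⊓ V = ⊥ from eq_bot_iff.mpr fun x hx => hinf ▸ (⟨hx.1, hVT0 hx.2⟩ : x ∈ zpowers c.z ⊓ T0),
        card_bot, mul_one, Nat.card_zpowers, c.orderOf_z, hV4] at h
      rw [h, D.card]
    refine d.eq_of_gen hS (by rw [hK]; exact bot_le) (mem_sup_right huT0) ?_
    rw [← hSU]
    exact hUle.trans (sup_le le_sup_left (hVT0.trans le_sup_right))
  have h2 : ∀ N : Subgroup G, N.Normal → N.index ≠ 2 := fun N hN e => by
    rcases hN.eq_bot_or_eq_top with rfl | rfl
    · rw [index_bot] at e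
      haveI : IsCyclic G := isCyclic_of_prime_card e
      exact hG IsCyclic.commutative
    · rw [index_top] at e
      omega
  have hJ : Cfsg.IsTwoCentralInvolution c.z :=
    ⟨c.orderOf_z, S, c.z_mem_sylow hS, fun x hx => c.mem_C.mp (hS hx)⟩
  have hd : Cfsg.IsInternalDirectProduct (zpowers c.z) T0 (centralizer ({c.z} : Set G)) :=
    ⟨c.Z2_le_C, hT0C, fun a ha w hw => (Z2_comm ha (hT0C hw)).eq, hinf, hsup⟩
  have h : TwoTimesAlt.Setup c.z T0 := ⟨h2, hJ, hd⟩
  have hns : ¬ Group.IsSolvable G := fun hs =>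
    hG ⟨⟨(IsSimpleGroup.comm_iff_isSolvable (G := G)).mpr hs⟩⟩
  obtain ⟨P, p, q, hs, f, hfa, hfb⟩ := TwoTimesAlt.exists_small h e0
    (Or.inl (by rw [nat_card_alternatingGroup, Nat.card_fin]; decide)) TwoTimesAlt.vfacts_four
  have pull : ∀ x : T0, (f x = TwoTimesAlt.a4 ∨ f x = TwoTimesAlt.b4 ∨ f x = TwoTimesAlt.a4 * TwoTimesAlt.b4) →
      TwoTimesAlt.InV p q x := by
    intro x hx
    rw [← hfa, ← hfb, ← map_mul, f.injective.eq_iff, f.injective.eq_iff, f.injective.eq_iff] at hx
    exact Or.inr hx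
  have hfour : TwoTimesAlt.Four c.z T0 P p q :=
    { hs with
      cardT4 := h12
      notSolvable := hns
      conjV := fun t => ⟨pull _ (by rw [map_mul, map_mul, map_inv, hfa]; exact (TwoTimesAlt.normal_four (f t)).1),
        pull _ (by rw [map_mul, map_mul, map_inv, hfb]; exact (TwoTimesAlt.normal_four (f t)).2)⟩ }
  obtain ⟨hG', hN⟩ := hfour.card_main
  rcases (normalClosure_normal (s := ({c.z} : Set G))).eq_bot_or_eq_top with e | e
  · rw [e, card_bot] at hN
    omega
  · rw [e, card_top, hG'] at hN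
    omega

end SolvShape

end Cfg

end Cfsg.Agent.Invol.CentSix
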