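import Cfsg.Agent.Lib.Invol.CentSix.GeoSolv
import Cfsg.Agent.Lib.Fus.M23U.Three.Transport
import Cfsg.Agent.S2858

/-!
# Another central involution, the Sylow subgroup outside `T`

The centraliser and a conjugate under the normaliser of the Sylow subgroup form an amalgam with active centre,
so the centraliser is `2 × S₄`; then the derived subgroup of the Sylow subgroup fixes a central involution.
-/

set_option autoImplicit false
set_option linter.style.haveILetI false

namespace Cfsg.Agent.Invol.CentSix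

open Subgroup

theorem perm4_center : ∀ a : Equiv.Perm (Fin 4), (∀ b, a * b = b * a) → a = 1 := by decide +kernel

theorem perm3_all : ∀ a s : Equiv.Perm (Fin 3), s * s * s = 1 → s ≠ 1 → a * a = 1 → a ≠ 1 →
    ∀ x, x = 1 ∨ x = s ∨ x = s * s ∨ x = a ∨ x = s * a ∨ x = s * s * a := perm3_gen

namespace Cfg

namespace SolvShape

variable {G : Type*} [Group G] [Finite G] {c : Cfg G} {d : c.SolvShape} {S : Sylow 2 G}

theorem ker_mem_T (hK : d.K = ⊥) {x : c.C} (hx : d.φ x = 1) : (x : G) ∈ d.T := by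
  refine d.mem_T.mpr ⟨x.2, hx, d.isTwo_of_no_three hK (N := d.φ.ker.map c.C.subtype) ?_ ?_ ⟨x, hx, rfl⟩⟩
  · exact map_subtype_le _
  · rintro _ ⟨y, hy, rfl⟩ h3
    have h4 : orderOf (⟨y, hy⟩ : d.φ.ker) = 3 := by rw [← Subgroup.orderOf_coe, ← Subgroup.orderOf_coe]; exact h3
    have h5 := Nat.eq_one_of_dvd_coprimes d.cop (_root_.orderOf_dvd_natCard (⟨y, hy⟩ : d.φ.ker)) (dvd_of_eq h4)
    omega

theorem T_eq_ker (hK : d.K = ⊥) : d.T = d.φ.ker.map c.C.subtype := by
  refine le_antisymm (fun x hx => ?_) ?_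
  · obtain ⟨h, h1, -⟩ := d.mem_T.mp hx
    exact ⟨⟨x, h⟩, h1, rfl⟩
  · rintro _ ⟨y, hy, rfl⟩
    exact d.ker_mem_T hK hy

theorem card_ker (hK : d.K = ⊥) : Nat.card d.φ.ker = Nat.card d.T := by
  rw [d.T_eq_ker hK, card_map_of_injective (subtype_injective _)]

theorem surj_of_outside (hS : (S : Subgroup G) ≤ c.C) {w : G} (hw : w ∈ (S : Subgroup G)) (hwT : w ∉ d.T) :
    Function.Surjective d.φ := by
  intro σ
  let W : c.C := ⟨w, hS hw⟩
  rcases perm3_gen (d.φ W) (d.φ c.uC) d.phi_u_three d.hu (d.phi_invol_of_isTwo (IsTwo.of_mem S.2 hw))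
    (fun e => hwT (d.mem_T_of_phi hS hw e)) σ with e | e | e | e | e | e <;> rw [e]
  · exact ⟨1, map_one _⟩
  · exact ⟨c.uC, rfl⟩
  · exact ⟨c.uC * c.uC, map_mul _ _ _⟩
  · exact ⟨W, rfl⟩
  · exact ⟨c.uC * W, map_mul _ _ _⟩
  · exact ⟨c.uC * c.uC * W, by rw [map_mul, map_mul]⟩

theorem no_center_pair (D : d.UData S) (hS : (S : Subgroup G) ≤ c.C) (hK : d.K = ⊥) {w : G}
    (hw : w ∈ (S : Subgroup G)) (hwT : w ∉ d.T) {b : G} (hbS : b ∈ (S : Subgroup G)) (hb : orderOf b = 2)
    (hbc : ∀ x ∈ (S : Subgroup G), Commute x b) (hbz : b ≠ c.z) : False := by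
  classical
  haveI := Fact.mk Nat.prime_two
  set P := D.geo hS hK
  obtain ⟨n, hn, hnz⟩ := c.burnside hS hb hbc
  obtain ⟨hb2, hb1⟩ := sq_of_orderOf_two hb
  have hbZ : b ∉ c.Z2 := fun h => (c.mem_Z2.mp h).elim hb1 hbz
  have hsurj := d.surj_of_outside hS hw hwT
  -- no element of order three in `C` fixes `b`
  have hfree : ∀ a ∈ c.C, orderOf a = 3 → ¬ Commute b a := fun a ha ha3 h =>
    hbZ (c.two_fixed ha ha3 (hS hbS) h (isTwo_invol hb2))
  let X2 : Subgroup G := c.C.map (MulAut.conj n).toMonoidHom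
  have hX2 : ∀ {x : G}, x ∈ X2 ↔ n⁻¹ * x * n ∈ c.C := fun {x} => by
    constructor
    · rintro ⟨a, ha, rfl⟩; simpa [mul_assoc] using ha
    · intro h
      refine ⟨_, h, ?_⟩
      show n * (n⁻¹ * x * n) * n⁻¹ = x
      group
  have hSn : ∀ {x : G}, x ∈ (S : Subgroup G) → n⁻¹ * x * n ∈ (S : Subgroup G) := fun {x} hx => by
    have := (mem_normalizer_iff.mp (inv_mem hn) x).mp hx
    rwa [inv_inv] at this
  have hX2S : (S : Subgroup G) ≤ X2 := fun x hx => hX2.mpr (hS (hSn hx))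
  have hinter : c.C ⊓ X2 = (S : Subgroup G) := by
    have hM2 : IsPGroup 2 ↥(c.C ⊓ X2) := isPGroup_of_isTwo fun y hy =>
      d.isTwo_of_no_three hK (N := c.C ⊓ X2) inf_le_left (fun a ha ha3 => hfree a ha.1 ha3 (by
        have h1 := (c.comm_z (hX2.mp ha.2)).map (MulAut.conj n).toMonoidHom
        simp only [MulEquiv.toMonoidHom_eq_coe, MonoidHom.coe_coe, MulAut.conj_apply] at h1
        rw [hnz, show n * (n⁻¹ * a * n) * n⁻¹ = a by group] at h1
        exact h1.symm)) hy
    exact S.3 hM2 (le_inf hS hX2S)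
  set Γ := c.C ⊔ X2
  have hnC : ∀ a : c.C, n * (a : G) * n⁻¹ ∈ Γ := fun a => mem_sup_right ⟨a, a.2, rfl⟩
  have hCG : ∀ a : c.C, (a : G) ∈ Γ := fun a => mem_sup_left a.2
  set Tm := (S : Subgroup G).subgroupOf Γ
  -- properties of a conjugate under the normaliser of the Sylow subgroup
  have props : ∀ (y : G), y ∈ normalizer ((S : Subgroup G) : Set G) → ∀ (g : c.C →* Γ),
      (∀ a, ((g a : Γ) : G) = y * a * y⁻¹) →
      g.range ⊓ centralizer (Cfsg.pCoreOf 2 g.range : Set Γ) ≤ Cfsg.pCoreOf 2 g.range ∧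
      (∃ Q : Sylow 2 ↥g.range, (Q : Subgroup ↥g.range) = Tm.subgroupOf g.range) ∧
      Nonempty (↥g.range ⧸ Cfsg.pCore 2 ↥g.range ≃* Equiv.Perm (Fin 3)) ∧
      ¬ g.range ≤ centralizer (Cfsg.omegaOne 2 (Tm ⊓ centralizer (Tm : Set Γ)) : Set Γ) := by
    intro y hy g hg
    have hinj : Function.Injective g := fun a a' e => by
      have e1 := congrArg (fun q : Γ => (q : G)) e
      simp only [hg] at e1
      exact Subtype.ext (mul_left_cancel (mul_right_cancel e1))
    let ψ : c.C ≃* g.range := MonoidHom.ofInjective hinj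
    have hψ : ∀ a, ((ψ a : g.range) : Γ) = g a := fun a => rfl
    have hcoreC : Cfsg.pCore 2 c.C = d.φ.ker := by
      refine le_antisymm (fun x hx => ?_) (Grp.le_pCore inferInstance
        ((d.T_isTwo.of_equiv (MulEquiv.subgroupCongr (d.T_eq_ker hK))).of_equiv
          (equivMapOfInjective d.φ.ker c.C.subtype (subtype_injective _)).symm))
      have hN : core2 c.C ≤ d.T := P.core _ (core2_le _) (core2_normal _) fun a ha ha3 => by
        obtain ⟨k, hk⟩ := IsTwo.of_mem (core2_isTwo c.C) ha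
        rw [ha3] at hk
        exact absurd (Nat.prime_three.dvd_of_dvd_pow (dvd_of_eq hk)) (by norm_num)
      obtain ⟨h, h1, -⟩ := d.mem_T.mp (hN ⟨x, hx, rfl⟩ : (x : G) ∈ d.T)
      exact h1
    have hcore : Cfsg.pCore 2 ↥g.range = d.φ.ker.map ψ.toMonoidHom := by
      rw [← hcoreC, Fus.M23U.Three.map_pCore]
    have hcoreOf : Cfsg.pCoreOf 2 g.range = d.φ.ker.map g := by
      rw [Cfsg.pCoreOf, hcore, Subgroup.map_map]
      rfl
    refine ⟨?_, ?_, ?_, ?_⟩
    · rw [hcoreOf]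
      rintro _ ⟨⟨a, rfl⟩, hc⟩
      refine mem_map_of_mem g ?_
      let M : Subgroup G := c.C ⊓ centralizer (d.T : Set G)
      have hMn : c.C ≤ normalizer (M : Set G) := fun x hx => mem_normalizer_of_conj fun m hm =>
        ⟨c.C.mul_mem (c.C.mul_mem hx hm.1) (c.C.inv_mem hx), mem_centralizer_iff.mpr fun t ht => by
          have h1 := (mem_normalizer_iff.mp (d.T_normal (inv_mem hx)) t).mp ht
          rw [inv_inv] at h1
          have h2 := (mem_centralizer_iff.mp hm.2 _ h1)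
          calc t * (x * m * x⁻¹) = x * ((x⁻¹ * t * x) * m) * x⁻¹ := by group
            _ = x * m * x⁻¹ * t := by rw [h2]; group⟩
      have hM3 : ∀ m ∈ M, orderOf m ≠ 3 := fun m hm hm3 => by
        have hc' : Commute D.e m := mem_centralizer_iff.mp hm.2 _ (D.le D.e_mem)
        exact D.e_notMem (c.two_fixed hm.1 hm3 (D.U_le_C D.e_mem) hc' (isTwo_invol (D.sq _ D.e_mem)))
      have haM : (a : G) ∈ M := ⟨a.2, mem_centralizer_iff.mpr fun t ht => by
        obtain ⟨h, h1, -⟩ := d.mem_T.mp ht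
        have h2 := mem_centralizer_iff.mp hc _ (mem_map_of_mem g (show (⟨t, h⟩ : c.C) ∈ d.φ.ker from h1))
        rw [← map_mul, ← map_mul] at h2
        exact congrArg Subtype.val (hinj h2)⟩
      obtain ⟨h, h1, -⟩ := d.mem_T.mp (P.core M inf_le_left hMn hM3 haM)
      exact h1
    · have hψs : Function.Surjective ψ.toMonoidHom := ψ.surjective
      refine ⟨(S.subtype hS).mapSurjective hψs, ?_⟩
      rw [Sylow.coe_mapSurjective, Sylow.coe_subtype]
      ext q
      rw [mem_subgroupOf, mem_subgroupOf]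
      constructor
      · rintro ⟨a, ha, rfl⟩
        show ((g a : Γ) : G) ∈ (S : Subgroup G)
        rw [hg]
        exact (mem_normalizer_iff.mp hy _).mp (mem_subgroupOf.mp ha)
      · intro hq
        obtain ⟨a, rfl⟩ := ψ.surjective q
        refine mem_map_of_mem _ (mem_subgroupOf.mpr ((mem_normalizer_iff.mp hy _).mpr ?_))
        rw [← hg]; exact hq
    · haveI : (d.φ.ker.map ψ.toMonoidHom).Normal := Normal.map inferInstance _ ψ.surjective
      exact ⟨(QuotientGroup.quotientMulEquivOfEq hcore).trans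
        ((QuotientGroup.congr d.φ.ker (d.φ.ker.map ψ.toMonoidHom) ψ rfl).symm.trans
          (QuotientGroup.quotientKerEquivOfSurjective d.φ hsurj))⟩
    · intro hle
      set b' := y * b * y⁻¹
      have hb'S : b' ∈ (S : Subgroup G) := (mem_normalizer_iff.mp hy b).mp hbS
      have hb'Γ : b' ∈ Γ := mem_sup_left (hS hb'S)
      have hmem : (⟨b', hb'Γ⟩ : Γ) ∈ Cfsg.omegaOne 2 (Tm ⊓ centralizer (Tm : Set Γ)) := by
        refine subset_closure ⟨⟨mem_subgroupOf.mpr hb'S, mem_centralizer_iff.mpr fun q hq => Subtype.ext ?_⟩,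
          Subtype.ext ?_⟩
        · have hq' : y⁻¹ * (q : G) * y ∈ (S : Subgroup G) := by
            have := (mem_normalizer_iff.mp (inv_mem hy) (q : G)).mp (mem_subgroupOf.mp hq)
            rwa [inv_inv] at this
          have h1 := (hbc _ hq').map (MulAut.conj y).toMonoidHom
          simp only [MulEquiv.toMonoidHom_eq_coe, MonoidHom.coe_coe, MulAut.conj_apply] at h1
          rw [show y * (y⁻¹ * (q : G) * y) * y⁻¹ = (q : G) by group] at h1
          exact h1
        · show b' ^ 2 = 1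
          rw [conj_pow, pow_two, hb2]; group
      have h2 := mem_centralizer_iff.mp (hle ⟨c.uC, rfl⟩) _ hmem
      have h3 := congrArg (fun q : Γ => (q : G)) h2
      simp only [coe_mul, hg] at h3
      refine hfree c.u c.u_mem_C c.orderOf_u ?_
      show b * c.u = c.u * b
      have h4 : y * (b * c.u) * y⁻¹ = y * (c.u * b) * y⁻¹ := by
        calc y * (b * c.u) * y⁻¹ = b' * (y * c.u * y⁻¹) := by simp only [b']; group
          _ = y * c.u * y⁻¹ * b' := h3
          _ = y * (c.u * b) * y⁻¹ := by simp only [b']; group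
      exact mul_left_cancel (mul_right_cancel h4)
  let g₁ : c.C →* Γ := c.C.subtype.codRestrict Γ hCG
  let g₂ : c.C →* Γ := ((MulAut.conj n).toMonoidHom.comp c.C.subtype).codRestrict Γ hnC
  have hg₁ : ∀ a, ((g₁ a : Γ) : G) = 1 * a * (1 : G)⁻¹ := fun a => by
    show (a : G) = _
    rw [one_mul, inv_one, mul_one]
  have hg₂ : ∀ a, ((g₂ a : Γ) : G) = n * a * n⁻¹ := fun a => rfl
  have hr1 : ∀ q : Γ, q ∈ g₁.range ↔ (q : G) ∈ c.C := fun q =>
    ⟨fun ⟨a, ha⟩ => ha ▸ a.2, fun h => ⟨⟨_, h⟩, Subtype.ext rfl⟩⟩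
  have hr2 : ∀ q : Γ, q ∈ g₂.range ↔ (q : G) ∈ X2 := fun q =>
    ⟨fun ⟨a, ha⟩ => ha ▸ ⟨a, a.2, rfl⟩, fun ⟨a, ha, e⟩ => ⟨⟨a, ha⟩, Subtype.ext e⟩⟩
  have hgen : g₁.range ⊔ g₂.range = ⊤ := by
    refine (Subgroup.eq_top_iff' _).mpr fun q => ?_
    obtain ⟨q, hq⟩ := q
    have hle : Γ ≤ (g₁.range ⊔ g₂.range).map Γ.subtype := sup_le
      (fun x hx => ⟨⟨x, mem_sup_left hx⟩, mem_sup_left ((hr1 _).mpr hx), rfl⟩)
      (fun x hx => ⟨⟨x, mem_sup_right hx⟩, mem_sup_right ((hr2 _).mpr hx), rfl⟩)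
    obtain ⟨q', hq', e⟩ := hle hq
    have : q' = ⟨q, hq⟩ := Subtype.ext e
    exact this ▸ hq'
  have hTm : Tm = g₁.range ⊓ g₂.range := by
    ext q
    rw [mem_inf, hr1, hr2, mem_subgroupOf, ← hinter]
    rfl
  obtain ⟨a1, a2, a4, a5⟩ := props 1 (one_mem _) g₁ hg₁
  obtain ⟨b1, b2, b4, b5⟩ := props n hn g₂ hg₂
  have h3 : ∀ N : Subgroup Γ, N.Normal → N ≤ Tm → N = ⊥ := by
    intro N hN hNT
    by_contra hne
    set M := N.map Γ.subtype
    have hMS : M ≤ (S : Subgroup G) := by rintro _ ⟨q, hq, rfl⟩; exact mem_subgroupOf.mp (hNT hq)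
    have hΓn : Γ ≤ normalizer (M : Set G) := fun x hx => mem_normalizer_of_conj fun m hm => by
      obtain ⟨q, hq, rfl⟩ := hm
      exact ⟨⟨x, hx⟩ * q * (⟨x, hx⟩ : Γ)⁻¹, hN.conj_mem q hq _, rfl⟩
    have hM2 : IsPGroup 2 M := S.2.to_le hMS
    have hM1 : M ≠ ⊥ := fun e => hne ((map_eq_bot_iff_of_injective _ (subtype_injective _)).mp e)
    -- a central involution of the Sylow subgroup in `M`
    obtain ⟨m, hmM, hm, hmc⟩ : ∃ m ∈ M, orderOf m = 2 ∧ ∀ x ∈ (S : Subgroup G), Commute x m := by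
      haveI : (M.subgroupOf (S : Subgroup G)).Normal :=
        normal_subgroupOf_of_le_normalizer ((hS.trans le_sup_left).trans hΓn)
      haveI : Nontrivial (S : Subgroup G) := ⟨⟨⟨b, hbS⟩, 1, fun e => hb1 (congrArg Subtype.val e)⟩⟩
      haveI : Group.IsNilpotent (S : Subgroup G) := S.2.isNilpotent
      have hmeet : M.subgroupOf (S : Subgroup G) ⊓ center (S : Subgroup G) ≠ ⊥ :=
        Grp.inf_center_ne_bot _ fun e => hM1 (eq_bot_iff.mpr fun x hx => by
          have h1 : (⟨x, hMS hx⟩ : (S : Subgroup G)) ∈ M.subgroupOf (S : Subgroup G) := mem_subgroupOf.mpr hx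
          rw [e, mem_bot] at h1
          exact mem_bot.mpr (congrArg Subtype.val h1))
      obtain ⟨k, hk0, hk⟩ := ((S.2.to_subgroup _).nontrivial_iff_card).mp ((nontrivial_iff_ne_bot _).mpr hmeet)
      obtain ⟨q, hq⟩ := exists_prime_orderOf_dvd_card'
        (G := ↥(M.subgroupOf (S : Subgroup G) ⊓ center (S : Subgroup G))) 2
        (by rw [hk]; exact dvd_pow_self 2 (by omega))
      rw [← Subgroup.orderOf_coe, ← Subgroup.orderOf_coe] at hq
      exact ⟨_, mem_subgroupOf.mp (mem_inf.mp q.2).1, hq,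
        fun x hx => congrArg Subtype.val (mem_center_iff.mp (mem_inf.mp q.2).2 ⟨x, hx⟩)⟩
    obtain ⟨hm2, hm1⟩ := sq_of_orderOf_two hm
    set L := normalizer (M : Set G)
    have hnotC : ¬ L ≤ c.C := fun hle => by
      have hCC : c.C = X2 := (eq_of_le_of_card_ge ((le_sup_right.trans hΓn).trans hle)
        (by rw [card_map_of_injective (MulEquiv.injective _)])).symm
      have h1 : c.u ∈ (S : Subgroup G) := hinter ▸ (⟨c.u_mem_C, hCC ▸ c.u_mem_C⟩ : c.u ∈ c.C ⊓ X2)
      obtain ⟨k, hk⟩ := IsTwo.of_mem S.2 h1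
      rw [c.orderOf_u] at hk
      exact absurd (Nat.prime_three.dvd_of_dvd_pow (dvd_of_eq hk)) (by norm_num)
    have hCn : c.C ≤ L := le_sup_left.trans hΓn
    have hzcore : c.z ∈ core2 L := by
      by_cases hM4 : ∀ x ∈ M, x = 1 ∨ x = m
      · exfalso
        have hfix : ∀ x ∈ L, x * m * x⁻¹ = m := fun x hx =>
          (hM4 _ ((mem_normalizer_iff.mp hx m).mp hmM)).resolve_left fun e => hm1 (conj_eq_one_iff.mp e)
        have hmu : Commute m c.u := (mul_inv_eq_iff_eq_mul.mp (hfix _ (hCn c.u_mem_C))).symm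
        rcases c.mem_Z2.mp (c.two_fixed c.u_mem_C c.orderOf_u (hS (hMS hmM)) hmu (isTwo_invol hm2)) with e | e
        · exact hm1 e
        · exact hnotC fun x hx => c.mem_C.mpr (mul_inv_eq_iff_eq_mul.mp (e ▸ hfix x hx))
      · push Not at hM4
        obtain ⟨x0, hx0, hx01, hx0m⟩ := hM4
        obtain ⟨k, hk, hkz⟩ := c.burnside hS hm hmc
        set Q := centralizer (M : Set G)
        -- the centraliser lies in the conjugate of `C` and has no element of order three
        let Q' : Subgroup G := Q.map (MulAut.conj k⁻¹).toMonoidHom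
        have hQ'C : Q' ≤ c.C := by
          rintro _ ⟨x, hx, rfl⟩
          refine c.mem_C.mpr ?_
          show k⁻¹ * x * k⁻¹⁻¹ * c.z = c.z * (k⁻¹ * x * k⁻¹⁻¹)
          have h1 := mem_centralizer_iff.mp hx m hmM
          rw [← hkz] at h1
          calc k⁻¹ * x * k⁻¹⁻¹ * c.z = k⁻¹ * (x * (k * c.z * k⁻¹)) * k := by group
            _ = c.z * (k⁻¹ * x * k⁻¹⁻¹) := by rw [← h1]; group
        have hQ'3 : ∀ a ∈ Q', orderOf a ≠ 3 := by
          rintro _ ⟨x, hx, rfl⟩ ha3
          have haC := hQ'C ⟨x, hx, rfl⟩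
          have hcomm : ∀ v ∈ M, k⁻¹ * v * k ∈ c.Z2 := fun v hv => by
            have hv' : k⁻¹ * v * k ∈ (S : Subgroup G) := by
              have := (mem_normalizer_iff.mp (inv_mem hk) v).mp (hMS hv)
              rwa [inv_inv] at this
            refine c.two_fixed haC ha3 (hS hv') ?_ (IsTwo.of_mem S.2 hv')
            have h1 := (show Commute v x from mem_centralizer_iff.mp hx v hv).map (MulAut.conj k⁻¹).toMonoidHom
            simp only [MulEquiv.toMonoidHom_eq_coe, MonoidHom.coe_coe, MulAut.conj_apply, inv_inv] at h1 ⊢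
            exact h1
          have hkm : k⁻¹ * m * k = c.z := by rw [← hkz]; group
          rcases c.mem_Z2.mp (hcomm x0 hx0) with e | e
          · exact hx01 (by
              calc x0 = k * (k⁻¹ * x0 * k) * k⁻¹ := by group
                _ = 1 := by rw [e]; group)
          · exact hx0m (by
              calc x0 = k * (k⁻¹ * x0 * k) * k⁻¹ := by group
                _ = k * (k⁻¹ * m * k) * k⁻¹ := by rw [e, hkm]
                _ = m := by group)
        have hQ2' : IsPGroup 2 Q' := isPGroup_of_isTwo fun _ hy => d.isTwo_of_no_three hK hQ'C hQ'3 hy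
        have hQ2 : IsPGroup 2 Q :=
          hQ2'.of_equiv (equivMapOfInjective Q _ (MulEquiv.injective _)).symm
        have hQn : L ≤ normalizer (Q : Set G) := fun x hx => mem_normalizer_of_conj fun q hq =>
          mem_centralizer_iff.mpr fun v hv => by
            have h1 := (mem_normalizer_iff.mp (inv_mem hx) v).mp hv
            rw [inv_inv] at h1
            have h2 := mem_centralizer_iff.mp hq _ h1
            calc v * (x * q * x⁻¹) = x * ((x⁻¹ * v * x) * q) * x⁻¹ := by group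
              _ = x * q * x⁻¹ * v := by rw [h2]; group
        exact le_core2 (centralizer_le_normalizer _) hQn hQ2
          (mem_centralizer_iff.mpr fun v hv => c.mem_C.mp (hS (hMS hv)))
    have hL : LHyp c S L := ⟨hS, hS.trans hCn, hCn c.u_mem_C, hnotC, hzcore, P.small⟩
    exact hbz ((hL.out (d.T_le_sylow hS) (d.card_sylow_eq hS hw hwT) d.u_normalizes
      fun R hR hu => d.le_T_of_normalized hS hR hu).2 b hbS hb hbc)
  have hdec := S2858.result g₁.range g₂.range hgen Tm hTm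
    (by rintro Q (rfl | rfl); exacts [a1, b1]) (by rintro Q (rfl | rfl); exacts [a2, b2]) h3
    (by rintro Q (rfl | rfl); exacts [a4, b4]) (by rintro Q (rfl | rfl); exacts [a5, b5])
  have hi1 : Function.Injective g₁ := fun a a' e => Subtype.ext (congrArg (fun q : Γ => (q : G)) e)
  let ψ₁ : c.C ≃* g₁.range := MonoidHom.ofInjective hi1
  rcases hdec with ⟨he, -⟩ | ⟨he, -⟩
  · obtain ⟨e⟩ := he
    let zC : c.C := ⟨c.z, c.z_mem_C⟩
    have h1 : ∀ σ, (ψ₁.trans e) zC * σ = σ * (ψ₁.trans e) zC := fun σ => by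
      obtain ⟨a, rfl⟩ := (ψ₁.trans e).surjective σ
      rw [← map_mul, ← map_mul]
      congr 1
      exact Subtype.ext (c.comm_z a.2).symm
    have h2 := perm4_center _ h1
    rw [← map_one (ψ₁.trans e)] at h2
    exact c.z_ne (congrArg Subtype.val ((ψ₁.trans e).injective h2))
  · obtain ⟨e⟩ := he
    have hC48 : Nat.card c.C = 48 := by
      rw [Nat.card_congr (ψ₁.trans e).toEquiv, Nat.card_prod, Nat.card_perm, Nat.card_fin, Nat.card_eq_fintype_card]
      rfl
    have hT8 : Nat.card d.T = 8 := by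
      have h := d.φ.ker.card_mul_index
      rw [index_ker, MonoidHom.range_eq_top.mpr hsurj, card_top, Nat.card_perm, Nat.card_fin, d.card_ker hK, hC48] at h
      simp [Nat.factorial] at h
      omega
    have hTU : D.U = d.T := eq_of_le_of_card_ge D.le (by rw [hT8, D.card])
    have hwC := hS hw
    -- `b` lies in `U` and `w` moves exactly the other classes
    have hnotcent : ∀ {x : G}, x ∈ (S : Subgroup G) → x ∉ d.T → ∃ v ∈ D.U, x * v * x⁻¹ ≠ v := by
      intro x hx hxT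
      by_contra hno
      push Not at hno
      let M : Subgroup G := c.C ⊓ centralizer (D.U : Set G)
      have hMn : c.C ≤ normalizer (M : Set G) := fun y hy => mem_normalizer_of_conj fun m hm =>
        ⟨c.C.mul_mem (c.C.mul_mem hy hm.1) (c.C.inv_mem hy), mem_centralizer_iff.mpr fun t ht => by
          have h1 := D.U_conj (inv_mem hy) ht
          rw [inv_inv] at h1
          have h2 := (mem_centralizer_iff.mp hm.2 _ h1)
          calc t * (y * m * y⁻¹) = y * ((y⁻¹ * t * y) * m) * y⁻¹ := by group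
            _ = y * m * y⁻¹ * t := by rw [h2]; group⟩
      refine hxT (P.core M inf_le_left hMn (fun m hm hm3 => ?_) ⟨hS hx, mem_centralizer_iff.mpr fun t ht => ?_⟩)
      · have hc' : Commute D.e m := mem_centralizer_iff.mp hm.2 _ D.e_mem
        exact D.e_notMem (c.two_fixed hm.1 hm3 (D.U_le_C D.e_mem) hc' (isTwo_invol (D.sq _ D.e_mem)))
      · exact (mul_inv_eq_iff_eq_mul.mp (hno t ht)).symm
    have hbU : b ∈ D.U := by
      by_contra hbU
      obtain ⟨v, hv, hne⟩ := hnotcent hbS (fun h => hbU (hTU ▸ h))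
      exact hne (mul_inv_eq_iff_eq_mul.mpr (hbc v (d.T_le_sylow hS (D.le hv))).eq.symm)
    obtain ⟨v, hv, hvne⟩ := hnotcent hw hwT
    set cc := w * v * w⁻¹ * v⁻¹ with hcc
    have hccU : cc ∈ D.U := mul_mem (D.U_conj hwC hv) (inv_mem hv)
    have hcc1 : cc ≠ 1 := fun e => hvne (mul_inv_eq_one.mp e)
    have hw2 : w * w ∈ D.U := by
      have h1 := d.diff_mem_T hS hw (inv_mem hw) hwT (fun h => hwT (inv_mem_iff.mp h))
      rw [inv_inv] at h1
      exact hTU ▸ h1
    let θ : D.U →* D.U :=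
      { toFun := fun x => ⟨w * x * w⁻¹ * (x : G)⁻¹, mul_mem (D.U_conj hwC x.2) (inv_mem x.2)⟩
        map_one' := Subtype.ext (by simp)
        map_mul' := fun x y => Subtype.ext (by
          show w * ((x : G) * y) * w⁻¹ * ((x : G) * y)⁻¹ = w * x * w⁻¹ * (x : G)⁻¹ * (w * y * w⁻¹ * (y : G)⁻¹)
          have hc := D.U_comm (inv_mem x.2) (mul_mem (D.U_conj hwC y.2) (inv_mem y.2))
          calc w * ((x : G) * y) * w⁻¹ * ((x : G) * y)⁻¹
              = w * x * w⁻¹ * (w * y * w⁻¹ * (y : G)⁻¹ * (x : G)⁻¹) := by group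
            _ = _ := by rw [← hc.eq]; group) }
    have hfix : ∀ {x : G}, x ∈ (S : Subgroup G) → Commute w x → x ∈ D.U → w * x * w⁻¹ * x⁻¹ = 1 :=
      fun _ h _ => by rw [h.eq, mul_inv_cancel_right, mul_inv_cancel]
    have hrange : ∀ x ∈ D.U, w * x * w⁻¹ * x⁻¹ = 1 ∨ w * x * w⁻¹ * x⁻¹ = cc := by
      set Z4 := c.Z2 ⊔ zpowers b
      have hb2' : b * b ∈ c.Z2 := by rw [hb2]; exact one_mem _
      have h4 : Nat.card Z4 = 4 := by rw [card_sup_two (c.Z2_normal (hS hbS)) hb2' hbZ, c.card_Z2]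
      have hker : Z4.subgroupOf D.U ≤ θ.ker := by
        intro x hx
        refine Subtype.ext ?_
        show w * (x : G) * w⁻¹ * (x : G)⁻¹ = 1
        have hle : Z4 ≤ centralizer ({w} : Set G) := sup_le
          (zpowers_le.mpr (mem_centralizer_singleton_iff.mpr (c.comm_z hwC).symm.eq))
          (zpowers_le.mpr (mem_centralizer_singleton_iff.mpr (hbc w hw).symm.eq))
        have h1 := mem_centralizer_singleton_iff.mp (hle (mem_subgroupOf.mp hx))
        rw [← h1, mul_inv_cancel_right, mul_inv_cancel]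
      have hZU : Z4 ≤ D.U := sup_le (zpowers_le.mpr D.z_mem) (zpowers_le.mpr hbU)
      have hr : Nat.card θ.range ≤ 2 := by
        have h1 := card_le_of_le hker
        rw [Nat.card_congr (subgroupOfEquivOfLe hZU).toEquiv, h4] at h1
        have h2 := θ.ker.card_mul_index
        rw [index_ker, D.card] at h2
        nlinarith
      intro x hx
      by_contra hno
      push Not at hno
      let f : Fin 3 → θ.range := ![1, ⟨θ ⟨v, hv⟩, ⟨_, rfl⟩⟩, ⟨θ ⟨x, hx⟩, ⟨_, rfl⟩⟩]
      have hf : Function.Injective f := by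
        intro i j hij
        have h1 := congrArg (fun q : θ.range => (((q : D.U) : G))) hij
        fin_cases i <;> fin_cases j <;> simp [f, θ] at h1 ⊢ <;>
          first
          | exact hcc1 h1 | exact hcc1 h1.symm | exact hno.1 h1 | exact hno.1 h1.symm
          | exact hno.2 h1 | exact hno.2 h1.symm
      have := Nat.card_le_card_of_injective f hf
      rw [Nat.card_fin] at this
      omega
    have hccz : cc ≠ c.z := by
      intro hcz
      have hfixz : ∀ x ∈ D.U, w * x * w⁻¹ * x⁻¹ ∈ c.Z2 := fun x hx => by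
        rcases hrange x hx with e | e <;> rw [e]
        · exact one_mem _
        · rw [hcz]; exact c.z_mem_Z2
      refine hwT (P.core _ ?_ ?_ ?_ (?_ : w ∈ ?_))
      · exact inf_le_left (a := c.C) (b :=
          { carrier := {y | y ∈ c.C ∧ ∀ x ∈ D.U, y * x * y⁻¹ * x⁻¹ ∈ c.Z2}
            one_mem' := ⟨one_mem _, fun x _ => by simp⟩
            mul_mem' := fun {p q} hp hq => ⟨mul_mem hp.1 hq.1, fun x hx => by
              have h1 := mul_mem ((mem_normalizer_iff.mp (c.Z2_normal hp.1) _).mp (hq.2 x hx)) (hp.2 x hx)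
              rwa [show p * (q * x * q⁻¹ * x⁻¹) * p⁻¹ * (p * x * p⁻¹ * x⁻¹) = p * q * x * (p * q)⁻¹ * x⁻¹ by group] at h1⟩
            inv_mem' := fun {p} hp => ⟨inv_mem hp.1, fun x hx => by
              have h1 := (mem_normalizer_iff.mp (c.Z2_normal (inv_mem hp.1)) _).mp (inv_mem (hp.2 x hx))
              rwa [show p⁻¹ * (p * x * p⁻¹ * x⁻¹)⁻¹ * p⁻¹⁻¹ = p⁻¹ * x * p⁻¹⁻¹ * x⁻¹ by group] at h1⟩ })
      · intro g hg
        refine mem_normalizer_of_conj fun y hy => ⟨c.C.mul_mem (c.C.mul_mem hg hy.1) (c.C.inv_mem hg), c.C.mul_mem (c.C.mul_mem hg hy.1) (c.C.inv_mem hg), fun x hx => ?_⟩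
        have h1 := (mem_normalizer_iff.mp (c.Z2_normal hg) _).mp (hy.2.2 _ (D.U_conj (inv_mem hg) hx))
        rwa [show g * (y * (g⁻¹ * x * g⁻¹⁻¹) * y⁻¹ * (g⁻¹ * x * g⁻¹⁻¹)⁻¹) * g⁻¹
          = g * y * g⁻¹ * x * (g * y * g⁻¹)⁻¹ * x⁻¹ by group] at h1
      · intro a ha ha3
        refine D.e_notMem (moved_mod d.T_le d.T_isTwo d.z_mem_T ha.1 ha3 (D.le D.e_mem) ?_)
        have h2 := (mem_normalizer_iff.mp (c.Z2_normal (inv_mem (D.U_le_C D.e_mem))) _).mp (ha.2.2 _ D.e_mem)
        rwa [inv_inv, show D.e⁻¹ * (a * D.e * a⁻¹ * D.e⁻¹) * D.e = D.e⁻¹ * (a * D.e * a⁻¹) by group] at h2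
      · exact ⟨hwC, hwC, hfixz⟩
    -- all commutators of the Sylow subgroup are powers of `cc`
    have hccw : Commute w cc := by
      refine mul_inv_eq_iff_eq_mul.mp ?_
      have h1 : w * (w * v * w⁻¹) * w⁻¹ = v := by
        rw [show w * (w * v * w⁻¹) * w⁻¹ = (w * w) * v * (w * w)⁻¹ by group, (D.U_comm hw2 hv).eq, mul_inv_cancel_right]
      rw [hcc, show w * (w * v * w⁻¹ * v⁻¹) * w⁻¹ = w * (w * v * w⁻¹) * w⁻¹ * (w * v * w⁻¹)⁻¹ by group, h1,
        (D.U_comm hv (inv_mem (D.U_conj hwC hv))).eq, inv_eq_of_mul_eq_one_left (D.sq v hv),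
        inv_eq_of_mul_eq_one_left (D.sq _ (D.U_conj hwC hv))]
    have hccS : cc ∈ (S : Subgroup G) := d.T_le_sylow hS (D.le hccU)
    have hsplit : ∀ x ∈ (S : Subgroup G), x ∈ D.U ∨ w⁻¹ * x ∈ D.U := fun x hx => by
      by_cases hxT : x ∈ d.T
      · exact Or.inl (hTU ▸ hxT)
      · exact Or.inr (hTU ▸ d.diff_mem_T hS hx hw hxT hwT)
    have hcccent : ∀ x ∈ (S : Subgroup G), Commute x cc := fun x hx => by
      rcases hsplit x hx with h | h
      · exact D.U_comm h hccU
      · have h1 := hccw.mul_left (D.U_comm h hccU)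
        rwa [mul_inv_cancel_left] at h1
    have hcomm : ∀ x ∈ (S : Subgroup G), ∀ y ∈ (S : Subgroup G), x * y * x⁻¹ * y⁻¹ = 1 ∨ x * y * x⁻¹ * y⁻¹ = cc := by
      have hcc2 : cc⁻¹ = cc := inv_eq_of_mul_eq_one_left (D.sq cc hccU)
      have hA : ∀ x ∈ (S : Subgroup G), ∀ y ∈ D.U, x * y * x⁻¹ * y⁻¹ = 1 ∨ x * y * x⁻¹ * y⁻¹ = cc := by
        intro x hx y hy
        rcases hsplit x hx with h | h
        · left; rw [(D.U_comm h hy).eq, mul_inv_cancel_right, mul_inv_cancel]
        · have e1 : x * y * x⁻¹ * y⁻¹ = w * y * w⁻¹ * y⁻¹ := by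
            calc x * y * x⁻¹ * y⁻¹ = w * ((w⁻¹ * x) * y * (w⁻¹ * x)⁻¹) * w⁻¹ * y⁻¹ := by group
              _ = w * y * w⁻¹ * y⁻¹ := by rw [(D.U_comm h hy).eq, mul_inv_cancel_right]
          rw [e1]; exact hrange y hy
      intro x hx y hy
      rcases hsplit y hy with h | h
      · exact hA x hx y h
      rcases hsplit x hx with h' | h'
      · rw [show x * y * x⁻¹ * y⁻¹ = (y * x * y⁻¹ * x⁻¹)⁻¹ by group]
        rcases hA y hy x h' with e | e <;> rw [e]
        · left; exact inv_one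
        · right; exact hcc2
      · have ht : x⁻¹ * y ∈ D.U := by
          rw [show x⁻¹ * y = (w⁻¹ * x)⁻¹ * (w⁻¹ * y) by group]
          exact mul_mem (inv_mem h') h
        have e1 : x * y * x⁻¹ * y⁻¹ = x * (x * (x⁻¹ * y) * x⁻¹ * (x⁻¹ * y)⁻¹) * x⁻¹ := by group
        rw [e1]
        rcases hA x hx _ ht with e | e <;> rw [e]
        · left; group
        · right; rw [(hcccent x hx).eq, mul_inv_cancel_right]
    obtain ⟨k, hk, hkz⟩ := c.burnside hS (orderOf_eq_two (D.sq cc hccU) hcc1) hcccent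
    have hkc : k⁻¹ * cc * k = cc := by
      have hki := inv_mem hk
      have h1 := hcomm _ ((mem_normalizer_iff.mp hki w).mp hw) _
        ((mem_normalizer_iff.mp hki v).mp (d.T_le_sylow hS (D.le hv)))
      rw [inv_inv, show k⁻¹ * w * k * (k⁻¹ * v * k) * (k⁻¹ * w * k)⁻¹ * (k⁻¹ * v * k)⁻¹ = k⁻¹ * cc * k by
        rw [hcc]; group] at h1
      refine h1.resolve_left fun e => hcc1 ?_
      calc cc = k * (k⁻¹ * cc * k) * k⁻¹ := by group
        _ = 1 := by rw [e]; group
    refine hccz ?_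
    rw [← hkc, ← hkz]
    group

end SolvShape

end Cfg

end Cfsg.Agent.Invol.CentSix
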