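import Cfsg.Agent.Lib.Invol.CentSix.CenterPair
import Cfsg.Agent.Lib.Invol.M12.M12Side
import Cfsg.Agent.Lib.Grp.Frattini
import Cfsg.Agent.S3344

/-!
# The soluble shape with `z` the only central involution

`T` is extraspecial of order 32, so the group is one of three with two classes of involutions.
-/

set_option autoImplicit false
set_option linter.style.haveILetI false

namespace Cfsg.Agent.Invol.CentSix

open Subgroup

theorem perm_conj_support {n : ℕ} {a b : alternatingGroup (Fin n)} (h : IsConj a b) :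
    (a : Equiv.Perm (Fin n)).support.card = (b : Equiv.Perm (Fin n)).support.card := by
  obtain ⟨g, hg⟩ := isConj_iff.mp h
  rw [← hg]
  show _ = ((g : Equiv.Perm (Fin n)) * (a : Equiv.Perm (Fin n)) * (g : Equiv.Perm (Fin n))⁻¹).support.card
  rw [Equiv.Perm.card_support_conj]

def two8 : alternatingGroup (Fin 8) :=
  ⟨Equiv.swap 0 1 * Equiv.swap 2 3, Equiv.Perm.mem_alternatingGroup.mpr (by decide +kernel)⟩

def four8 : alternatingGroup (Fin 8) :=
  ⟨Equiv.swap 0 1 * Equiv.swap 2 3 * (Equiv.swap 4 5 * Equiv.swap 6 7),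
    Equiv.Perm.mem_alternatingGroup.mpr (by decide +kernel)⟩

def two9 : alternatingGroup (Fin 9) :=
  ⟨Equiv.swap 0 1 * Equiv.swap 2 3, Equiv.Perm.mem_alternatingGroup.mpr (by decide +kernel)⟩

def four9 : alternatingGroup (Fin 9) :=
  ⟨Equiv.swap 0 1 * Equiv.swap 2 3 * (Equiv.swap 4 5 * Equiv.swap 6 7),
    Equiv.Perm.mem_alternatingGroup.mpr (by decide +kernel)⟩

theorem facts8 : two8 * two8 = 1 ∧ two8 ≠ 1 ∧ four8 * four8 = 1 ∧ four8 ≠ 1 ∧
    (two8 : Equiv.Perm (Fin 8)).support.card ≠ (four8 : Equiv.Perm (Fin 8)).support.card := by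
  decide +kernel

theorem facts9 : two9 * two9 = 1 ∧ two9 ≠ 1 ∧ four9 * four9 = 1 ∧ four9 ≠ 1 ∧
    (two9 : Equiv.Perm (Fin 9)).support.card ≠ (four9 : Equiv.Perm (Fin 9)).support.card := by
  decide +kernel

theorem one_class_transfer {G H : Type*} [Group G] [Group H]
    (one : ∀ a b : G, orderOf a = 2 → orderOf b = 2 → IsConj a b) (e : G ≃* H) {a b : H}
    (ha : orderOf a = 2) (hb : orderOf b = 2) : IsConj a b := by
  have h := e.toMonoidHom.map_isConj (one (e.symm a) (e.symm b) (by rw [MulEquiv.orderOf_eq, ha])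
    (by rw [MulEquiv.orderOf_eq, hb]))
  simpa using h

namespace Cfg

namespace SolvShape

variable {G : Type*} [Group G] [Finite G] {c : Cfg G} {d : c.SolvShape} {S : Sylow 2 G}

theorem pCore_eq_ker (D : d.UData S) (hS : (S : Subgroup G) ≤ c.C) (hK : d.K = ⊥) :
    Cfsg.pCore 2 c.C = d.φ.ker := by
  refine le_antisymm (fun x hx => ?_) (Grp.le_pCore inferInstance
    ((d.T_isTwo.of_equiv (MulEquiv.subgroupCongr (d.T_eq_ker hK))).of_equiv
      (equivMapOfInjective d.φ.ker c.C.subtype (subtype_injective _)).symm))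
  have hN : core2 c.C ≤ d.T := (D.geo hS hK).core _ (core2_le _) (core2_normal _) fun a ha ha3 => by
    obtain ⟨k, hk⟩ := IsTwo.of_mem (core2_isTwo c.C) ha
    rw [ha3] at hk
    exact absurd (Nat.prime_three.dvd_of_dvd_pow (dvd_of_eq hk)) (by norm_num)
  obtain ⟨h, h1, -⟩ := d.mem_T.mp (hN ⟨x, hx, rfl⟩ : (x : G) ∈ d.T)
  exact h1

theorem no_omega [IsSimpleGroup G] (hG : ¬ IsMulCommutative G) (D : d.UData S) (hS : (S : Subgroup G) ≤ c.C)
    (hK : d.K = ⊥) (hΩ : OmegaZ c S) : False := by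
  classical
  haveI := Fact.mk Nat.prime_two
  haveI := Fact.mk Nat.prime_three
  have h32 := D.card_T hS hK hΩ
  obtain ⟨w, hw, hwT⟩ := D.exists_outside hS hK hΩ
  -- no element is fixed modulo `U`
  have fixU : ∀ n : G, n ∈ c.C → orderOf n = 3 → ∀ x ∈ d.T, x⁻¹ * (n * x * n⁻¹) ∈ D.U → x ∈ D.U := by
    intro n hn hn3 x hx h
    obtain ⟨m, hm, hc⟩ := exists_fixed_lift (d.T_isTwo.to_le D.le) hn3 (D.normal hn) h
    have hxm : x * m ∈ d.T := mul_mem hx (D.le hm)
    have h2 := c.two_fixed hn hn3 (d.T_le hxm) hc (IsTwo.of_mem d.T_isTwo hxm)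
    exact (Subgroup.mul_mem_cancel_right _ hm).mp ((zpowers_le.mpr D.z_mem : c.Z2 ≤ D.U) h2)
  haveI hUn : (D.U.subgroupOf d.T).Normal := normal_subgroupOf_of_le_normalizer (d.T_le.trans D.normal)
  have hidx : (D.U.subgroupOf d.T).index = 4 := by
    have h := (D.U.subgroupOf d.T).card_mul_index
    rw [Nat.card_congr (subgroupOfEquivOfLe D.le).toEquiv, D.card, h32] at h
    omega
  obtain ⟨t, ht, htU⟩ : ∃ t ∈ d.T, t ∉ D.U := by
    by_contra hno
    push Not at hno
    have := card_le_of_le (show d.T ≤ D.U from hno)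
    rw [h32, D.card] at this
    omega
  set t' := c.u * t * c.u⁻¹ with ht'
  have ht'T : t' ∈ d.T := (mem_normalizer_iff.mp d.u_normalizes t).mp ht
  have ht'U : t' ∉ D.U := fun h => htU ((mem_normalizer_iff.mp (D.normal c.u_mem_C) t).mpr h)
  set t'' := c.u * t' * c.u⁻¹ with ht''
  have ht''T : t'' ∈ d.T := (mem_normalizer_iff.mp d.u_normalizes t').mp ht'T
  have ht''U : t'' ∉ D.U := fun h => ht'U ((mem_normalizer_iff.mp (D.normal c.u_mem_C) t').mpr h)
  have htt' : t⁻¹ * t' ∉ D.U := fun h => htU (fixU _ c.u_mem_C c.orderOf_u t ht h)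
  have ht't'' : t'⁻¹ * t'' ∉ D.U := fun h => ht'U (fixU _ c.u_mem_C c.orderOf_u t' ht'T h)
  have htt'' : t⁻¹ * t'' ∉ D.U := fun h => htU (by
    refine fixU _ (mul_mem c.u_mem_C c.u_mem_C) (orderOf_eq_three ?_ ?_) t ht ?_
    · rw [show c.u * c.u * (c.u * c.u) * (c.u * c.u) = c.u * c.u * c.u * (c.u * c.u * c.u) by group,
        mul_self_three c.orderOf_u, one_mul]
    · intro e
      have h3 := mul_self_three c.orderOf_u
      rw [e, one_mul] at h3
      have := c.orderOf_u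
      rw [h3, orderOf_one] at this
      omega
    · rwa [show c.u * c.u * t * (c.u * c.u)⁻¹ = t'' by rw [ht'', ht']; group])
  -- the four cosets
  have cases4 : ∀ y ∈ d.T, y ∈ D.U ∨ t⁻¹ * y ∈ D.U ∨ t'⁻¹ * y ∈ D.U ∨ t''⁻¹ * y ∈ D.U := by
    intro y hy
    let r : Fin 4 → d.T := ![1, ⟨t, ht⟩, ⟨t', ht'T⟩, ⟨t'', ht''T⟩]
    let f : Fin 4 → d.T ⧸ D.U.subgroupOf d.T := fun i => (r i : d.T ⧸ D.U.subgroupOf d.T)
    have hf : Function.Injective f := by
      intro i j h
      simp only [f, QuotientGroup.eq, mem_subgroupOf, coe_mul, coe_inv] at h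
      fin_cases i <;> fin_cases j <;> simp [r] at h ⊢ <;>
        first
        | exact htU h | exact ht'U h | exact ht''U h
        | exact htt' h | exact ht't'' h | exact htt'' h
        | exact htt' (by simpa using inv_mem h) | exact ht't'' (by simpa using inv_mem h)
        | exact htt'' (by simpa using inv_mem h)
    obtain ⟨i, hi⟩ := (hf.bijective_of_nat_card_le (by rw [← index_eq_card, hidx, Nat.card_fin])).2
      ((⟨y, hy⟩ : d.T) : d.T ⧸ D.U.subgroupOf d.T)
    simp only [f, QuotientGroup.eq, mem_subgroupOf, coe_mul, coe_inv] at hi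
    fin_cases i <;> simp [r] at hi
    · exact Or.inl hi
    · exact Or.inr (Or.inl hi)
    · exact Or.inr (Or.inr (Or.inl hi))
    · exact Or.inr (Or.inr (Or.inr hi))
  have hZn : ∀ {g x : G}, g ∈ c.C → x ∈ c.Z2 → g * x * g⁻¹ ∈ c.Z2 := fun hg hx =>
    (mem_normalizer_iff.mp (c.Z2_normal hg) _).mp hx
  -- commutators modulo `z`
  have cmul : ∀ {a p q : G}, a ∈ d.T → p ∈ d.T → a * p * a⁻¹ * p⁻¹ ∈ c.Z2 → a * q * a⁻¹ * q⁻¹ ∈ c.Z2 →
      a * (p * q) * a⁻¹ * (p * q)⁻¹ ∈ c.Z2 := by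
    intro a p q ha hp h1 h2
    rw [show a * (p * q) * a⁻¹ * (p * q)⁻¹ = a * p * a⁻¹ * p⁻¹ * (p * (a * q * a⁻¹ * q⁻¹) * p⁻¹) by group]
    exact mul_mem h1 (hZn (d.T_le hp) h2)
  have cU : ∀ {a v : G}, a ∈ d.T → v ∈ D.U → a * v * a⁻¹ * v⁻¹ ∈ c.Z2 := fun {a v} ha hv => by
    rw [show a * v * a⁻¹ * v⁻¹ = (v * a * v⁻¹ * a⁻¹)⁻¹ by group]
    exact inv_mem (D.comm v hv a ha)
  -- `t''` is congruent to the product
  obtain ⟨v, hv, hv''⟩ : ∃ v ∈ D.U, t'' = t * t' * v := by
    refine ⟨(t * t')⁻¹ * t'', ?_, (mul_inv_cancel_left _ _).symm⟩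
    have hn : ∀ {a x : G}, a ∈ d.T → x ∈ D.U → a * x * a⁻¹ ∈ D.U := fun ha hx => D.U_conj (d.T_le ha) hx
    rcases cases4 (t * t') (mul_mem ht ht'T) with h | h | h | h
    · exfalso
      -- then the images of `t` and `t''` agree
      have h1 := D.U_conj c.u_mem_C h
      rw [show c.u * (t * t') * c.u⁻¹ = t' * t'' by rw [ht'', ht']; group] at h1
      refine htt'' ?_
      rw [show t⁻¹ * t'' = (t' * (t * t') * t'⁻¹)⁻¹ * (t' * t'') by group]
      exact mul_mem (inv_mem (hn ht'T h)) h1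
    · exfalso
      rw [inv_mul_cancel_left] at h
      exact ht'U h
    · exfalso
      have h1 := hn ht'T h
      rw [show t' * (t'⁻¹ * (t * t')) * t'⁻¹ = t by group] at h1
      exact htU h1
    · have := inv_mem h
      rwa [mul_inv_rev, inv_inv] at this
  set m := t * t' * t⁻¹ * t'⁻¹ with hm
  have hmU : m ∈ D.U := by
    have hcomm : commutator d.T ≤ D.U.subgroupOf d.T := by
      haveI : IsMulCommutative (d.T ⧸ D.U.subgroupOf d.T) := by
        refine ⟨⟨fun a b => ?_⟩⟩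
        letI := IsPGroup.commGroupOfCardEqPrimeSq (p := 2) (G := d.T ⧸ D.U.subgroupOf d.T)
          (by rw [← index_eq_card, hidx]; rfl)
        exact mul_comm a b
      exact Subgroup.Normal.quotient_commutative_iff_commutator_le.mp inferInstance
    exact mem_subgroupOf.mp (hcomm (commutator_mem_commutator (mem_top (⟨t, ht⟩ : d.T)) (mem_top ⟨t', ht'T⟩)))
  have hmz : m ∈ c.Z2 := by
    refine moved_mod d.T_le d.T_isTwo d.z_mem_T c.u_mem_C c.orderOf_u (D.le hmU) ?_
    have h1 : c.u * m * c.u⁻¹ = t' * t'' * t'⁻¹ * t''⁻¹ := by rw [hm, ht'', ht']; group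
    have hK : t' * (t' * v) * t'⁻¹ * (t' * v)⁻¹ ∈ c.Z2 := cmul ht'T ht'T (by simp) (cU ht'T hv)
    have h2 : c.u * m * c.u⁻¹ = m⁻¹ * (t * (t' * (t' * v) * t'⁻¹ * (t' * v)⁻¹) * t⁻¹) := by
      rw [h1, hv'', hm]; group
    rw [h2, inv_eq_of_mul_eq_one_left (D.sq m hmU), ← mul_assoc, D.sq m hmU, one_mul]
    exact hZn (d.T_le ht) hK
  have htc : ∀ y ∈ d.T, t * y * t⁻¹ * y⁻¹ ∈ c.Z2 := by
    intro y hy
    rcases cases4 y hy with h | h | h | h
    · exact cU ht h
    · rw [show y = t * (t⁻¹ * y) by group]; exact cmul ht ht (by simp) (cU ht h)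
    · rw [show y = t' * (t'⁻¹ * y) by group]; exact cmul ht ht'T hmz (cU ht h)
    · rw [show y = t'' * (t''⁻¹ * y) by group]
      refine cmul ht ht''T ?_ (cU ht h)
      rw [hv'']
      exact cmul ht (mul_mem ht ht'T) (cmul ht ht (by simp) hmz) (cU ht hv)
  have conj_c : ∀ {a : G}, a ∈ d.T → (∀ y ∈ d.T, a * y * a⁻¹ * y⁻¹ ∈ c.Z2) →
      ∀ y ∈ d.T, (c.u * a * c.u⁻¹) * y * (c.u * a * c.u⁻¹)⁻¹ * y⁻¹ ∈ c.Z2 := by
    intro a _ ha y hy
    have hy' := (mem_normalizer_iff.mp (inv_mem d.u_normalizes) y).mp hy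
    rw [inv_inv] at hy'
    have h := hZn c.u_mem_C (ha _ hy')
    rwa [show c.u * (a * (c.u⁻¹ * y * c.u) * a⁻¹ * (c.u⁻¹ * y * c.u)⁻¹) * c.u⁻¹
      = c.u * a * c.u⁻¹ * y * (c.u * a * c.u⁻¹)⁻¹ * y⁻¹ by group] at h
  have ht'c := conj_c ht htc
  have ht''c := conj_c ht'T ht'c
  have hab : ∀ x ∈ d.T, ∀ y ∈ d.T, x * y * x⁻¹ * y⁻¹ ∈ c.Z2 := by
    intro x hx y hy
    have key : ∀ {a : G}, a ∈ d.T → (∀ y ∈ d.T, a * y * a⁻¹ * y⁻¹ ∈ c.Z2) → a⁻¹ * x ∈ D.U →
        x * y * x⁻¹ * y⁻¹ ∈ c.Z2 := fun {a} ha hac h => by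
      rw [show x * y * x⁻¹ * y⁻¹ = a * ((a⁻¹ * x) * y * (a⁻¹ * x)⁻¹ * y⁻¹) * a⁻¹ * (a * y * a⁻¹ * y⁻¹) by group]
      exact mul_mem (hZn (d.T_le ha) (D.comm _ h y hy)) (hac y hy)
    rcases cases4 x hx with h | h | h | h
    · exact D.comm x h y hy
    · exact key ht htc h
    · exact key ht'T ht'c h
    · exact key ht''T ht''c h
  -- the centre
  have hcenter : ∀ y ∈ d.T, (∀ x ∈ d.T, Commute y x) → y ∈ c.Z2 := by
    intro y hy hyc
    by_cases hyU : y ∈ D.U
    · by_contra hyz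
      obtain ⟨s, hs, hsy⟩ := D.moved hS hK hΩ hyU hyz
      rw [← (hyc s hs).eq, mul_inv_cancel_right] at hsy
      exact c.z_ne (mul_eq_right.mp hsy.symm)
    exfalso
    -- otherwise all cosets have central representatives
    refine D.not_central hS hK hΩ fun a ha x hx => ?_
    set y' := c.u * y * c.u⁻¹ with hy'
    have hy'T : y' ∈ d.T := (mem_normalizer_iff.mp d.u_normalizes y).mp hy
    have hy'c : ∀ x ∈ d.T, Commute y' x := fun x hx => by
      have hx' := (mem_normalizer_iff.mp (inv_mem d.u_normalizes) x).mp hx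
      rw [inv_inv] at hx'
      have h := (hyc _ hx').map (MulAut.conj c.u).toMonoidHom
      simp only [MulEquiv.toMonoidHom_eq_coe, MonoidHom.coe_coe, MulAut.conj_apply] at h
      rwa [show c.u * (c.u⁻¹ * x * c.u) * c.u⁻¹ = x by group] at h
    have hy'U : y' ∉ D.U := fun h => hyU ((mem_normalizer_iff.mp (D.normal c.u_mem_C) y).mpr h)
    have hyy' : y⁻¹ * y' ∉ D.U := fun h => hyU (fixU _ c.u_mem_C c.orderOf_u y hy h)
    let r : Fin 3 → d.T := ![1, ⟨y, hy⟩, ⟨y', hy'T⟩]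
    let X := D.U.subgroupOf d.T
    let K : Subgroup G := centralizer ({a} : Set G) ⊓ d.T
    have hUK : X ≤ K.subgroupOf d.T := fun q hq => mem_subgroupOf.mpr
      ⟨mem_centralizer_singleton_iff.mpr (D.U_comm (mem_subgroupOf.mp hq) ha).eq, q.2⟩
    have hKi : (K.subgroupOf d.T).index ∣ 4 := hidx ▸ index_dvd_of_le hUK
    have hxK : x ∈ K := by
      by_contra hxK
      -- more than half of the cosets
      have hrK : ∀ i, (r i : G) ∈ K := by
        intro i
        fin_cases i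
        · show ((1 : d.T) : G) ∈ K
          exact one_mem _
        · show y ∈ K
          exact ⟨mem_centralizer_singleton_iff.mpr (hyc a (D.le ha)).eq, hy⟩
        · show y' ∈ K
          exact ⟨mem_centralizer_singleton_iff.mpr (hy'c a (D.le ha)).eq, hy'T⟩
      let f : Fin 3 → (K.subgroupOf d.T) ⧸ X.subgroupOf (K.subgroupOf d.T) :=
        fun i => ((⟨r i, mem_subgroupOf.mpr (hrK i)⟩ : K.subgroupOf d.T) : _)
      have hf : Function.Injective f := by
        intro i j h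
        simp only [f, QuotientGroup.eq, mem_subgroupOf, coe_mul, coe_inv, X] at h
        fin_cases i <;> fin_cases j <;> simp [r] at h ⊢ <;>
          first
          | exact hyU h | exact hy'U h | exact hyy' h | exact hyy' (by simpa using inv_mem h)
      have h3 := Nat.card_le_card_of_injective f hf
      rw [Nat.card_fin, ← index_eq_card] at h3
      have hmul : X.relIndex (K.subgroupOf d.T) * (K.subgroupOf d.T).index = 4 := by
        rw [relIndex_mul_index hUK]; exact hidx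
      have h4 : (K.subgroupOf d.T).index ≠ 1 := fun e =>
        hxK (mem_subgroupOf.mp ((index_eq_one.mp e).symm ▸ mem_top (⟨x, hx⟩ : d.T) : (⟨x, hx⟩ : d.T) ∈ K.subgroupOf d.T))
      have h5 : 3 ≤ X.relIndex (K.subgroupOf d.T) := h3
      have h6 : (K.subgroupOf d.T).index ≠ 0 := index_ne_zero_of_finite
      nlinarith [show 2 ≤ (K.subgroupOf d.T).index by omega]
    exact (show Commute a x from (mem_centralizer_singleton_iff.mp hxK.1).symm)
  have hsq : ∀ x ∈ d.T, x * x ∈ c.Z2 := by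
    intro x hx
    refine hcenter _ (mul_mem hx hx) fun y hy => ?_
    have h := hab x hx y hy
    set k := x * y * x⁻¹ * y⁻¹ with hk
    have hkx : Commute k x := Z2_comm h (d.T_le hx)
    refine mul_inv_eq_iff_eq_mul.mp ?_
    calc x * x * y * (x * x)⁻¹ = x * (k * y) * x⁻¹ := by rw [hk]; group
      _ = k * (x * y * x⁻¹) := by rw [← mul_assoc, ← hkx.eq]; group
      _ = k * (k * y) := by rw [hk]; group
      _ = y := by rw [← mul_assoc, Z2_sq h, one_mul]
  -- the extraspecial group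
  have hcenter' : center d.T = c.Z2.subgroupOf d.T := by
    ext q
    rw [mem_center_iff, mem_subgroupOf]
    exact ⟨fun h => hcenter _ q.2 fun x hx => (congrArg Subtype.val (h ⟨x, hx⟩)).symm,
      fun h g => Subtype.ext ((Z2_comm h (d.T_le g.2)).symm.eq)⟩
  have hZcard : Nat.card (center d.T) = 2 := by
    rw [hcenter', Nat.card_congr (subgroupOfEquivOfLe d.Z2_le_T).toEquiv, c.card_Z2]
  have hcle : commutator d.T ≤ center d.T := by
    rw [hcenter', _root_.commutator_def, commutator_le]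
    intro p _ q _
    exact mem_subgroupOf.mpr (by simpa [commutatorElement_def] using hab p p.2 q q.2)
  have hceq : commutator d.T = center d.T := by
    refine eq_of_le_of_card_ge hcle ?_
    rw [hZcard]
    have hne : commutator d.T ≠ ⊥ := fun e => D.not_central hS hK hΩ fun a ha x hx => by
      have h1 : (⟨a, D.le ha⟩ : d.T) * ⟨x, hx⟩ * (⟨a, D.le ha⟩ : d.T)⁻¹ * (⟨x, hx⟩ : d.T)⁻¹ ∈ commutator d.T := by
        rw [← commutatorElement_def, _root_.commutator_def]
        exact commutator_mem_commutator (mem_top _) (mem_top _)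
      rw [e, mem_bot] at h1
      exact mul_inv_eq_iff_eq_mul.mp (mul_inv_eq_one.mp (congrArg Subtype.val h1))
    exact (one_lt_card_iff_ne_bot _).mpr hne
  have hfr : frattini d.T = center d.T := by
    refine le_antisymm (Grp.frattini_le_of_elementary Nat.prime_two hcle fun q => ?_)
      (hceq ▸ Grp.pGroup_commutator_le_frattini d.T_isTwo)
    rw [hcenter', mem_subgroupOf, SubmonoidClass.coe_pow, pow_two]
    exact hsq q q.2
  have hQex : Cfsg.IsExtraspecial 2 d.T := ⟨⟨d.T_isTwo, hfr, hceq⟩, hZcard⟩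
  have hcore : Cfsg.pCore 2 c.C = d.φ.ker := d.pCore_eq_ker D hS hK
  have hQ : d.T = (Cfsg.pCore 2 c.C).map c.C.subtype := by rw [hcore]; exact d.T_eq_ker hK
  have hsurj := d.surj_of_outside hS hw hwT
  haveI : (Cfsg.pCore 2 c.C).Normal := Grp.pCore_isNormal
  let e₁ : c.C ⧸ Cfsg.pCore 2 c.C ≃* Equiv.Perm (Fin 3) :=
    (QuotientGroup.quotientMulEquivOfEq hcore).trans (QuotientGroup.quotientKerEquivOfSurjective d.φ hsurj)
  obtain ⟨X⟩ : Nonempty (Sylow 3 c.C) := inferInstance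
  have hX : d.T ⊓ centralizer (((X : Subgroup c.C).map c.C.subtype : Subgroup G) : Set G) = zpowers c.z := by
    refine le_antisymm (fun x hx => ?_) ?_
    · have hX3 : 3 ∣ Nat.card (X : Subgroup c.C) := by
        refine X.dvd_card_of_dvd_card ?_
        rw [← orderOf_uC c]; exact _root_.orderOf_dvd_natCard _
      obtain ⟨a, ha⟩ := exists_prime_orderOf_dvd_card' (G := (X : Subgroup c.C)) 3 hX3
      rw [← Subgroup.orderOf_coe, ← Subgroup.orderOf_coe] at ha
      have hc' := mem_centralizer_iff.mp hx.2 _ (mem_map_of_mem c.C.subtype a.2)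
      exact c.two_fixed (a.1 : c.C).2 ha (d.T_le hx.1) hc'.symm (IsTwo.of_mem d.T_isTwo hx.1)
    · refine zpowers_le.mpr ⟨d.z_mem_T, mem_centralizer_iff.mpr ?_⟩
      rintro _ ⟨a, -, rfl⟩
      exact (c.comm_z a.2).eq
  obtain ⟨g, hg⟩ := c.exists_conj_invol ((D.geo hS hK).orderOf_e)
  rcases S3344.result c.z c.orderOf_z c.C rfl d.T hQ hQex h32 e₁ X hX
    ⟨g, by rw [hg]; exact D.le D.e_mem, by rw [hg]; exact (D.geo hS hK).e_ne_z⟩ with
    ⟨N, hN, hNc, -, hN8, -⟩ | he | he | he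
  · rcases hN.eq_bot_or_eq_top with rfl | rfl
    · rw [card_bot] at hN8; omega
    · exact hG ⟨⟨fun a b => congrArg Subtype.val (hNc.is_comm.comm ⟨a, mem_top a⟩ ⟨b, mem_top b⟩)⟩⟩
  · obtain ⟨e⟩ := he
    obtain ⟨h1, h2, h3, h4, h5⟩ := facts8
    exact h5 (perm_conj_support (one_class_transfer c.one e (orderOf_eq_two h1 h2) (orderOf_eq_two h3 h4)))
  · obtain ⟨e⟩ := he
    obtain ⟨h1, h2, h3, h4, h5⟩ := facts9
    exact h5 (perm_conj_support (one_class_transfer c.one e (orderOf_eq_two h1 h2) (orderOf_eq_two h3 h4)))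
  · obtain ⟨e⟩ := he
    let h := M12.settingM12
    exact h.w_not_conj (one_class_transfer c.one e
      ((h.sq_iff M12.const_lt.2.2.2.1).2 (Or.inr (Or.inr (Or.inl M12.consts_ok.2.2.2.1)))) h.ord_z)

end SolvShape

end Cfg

end Cfsg.Agent.Invol.CentSix
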