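import Cfsg.Agent.Lib.Invol.CentSix.Basic
import Cfsg.Agent.Lib.Fus.SupersolubleMetacyclic
import Cfsg.Agent.Lib.Grp.Frattini

/-!
# The Frobenius group of order 21 on groups of exponent two

An element `u` of order three acting on an element `g` of order seven by squaring bounds the module by
the cube of the fixed points of `u`.
-/

set_option autoImplicit false
set_option linter.style.haveILetI false

namespace Cfsg.Agent.Invol.CentSix.Frob

open Subgroup

theorem seven {Q : Type*} [Group Q] (g : MulAut Q) (hg : g ^ 7 = 1) (v : Q) :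
    g (g (g (g (g (g (g v)))))) = v := by
  have := DFunLike.congr_fun hg v
  simpa [pow_succ, MulAut.mul_apply] using this

section Abelian

variable {A : Type*} [CommGroup A] (hA : ∀ v : A, v * v = 1) (g u : MulAut A)
  (hg : g ^ 7 = 1) (hu : ∀ v, u (u (u v)) = v) (hgu : ∀ v, u (g v) = g (g (u v)))

/-- The trace to the fixed points of `u`. -/
def tr : A →* A where
  toFun v := v * u v * u (u v)
  map_one' := by simp
  map_mul' a b := by simp only [map_mul]; ac_rfl

include hu in
theorem tr_fixed (v : A) : u (tr u v) = tr u v := by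
  show u (v * u v * u (u v)) = v * u v * u (u v)
  rw [map_mul, map_mul, hu]; ac_rfl

include hA hg hgu in
theorem fixed_of_tr {v : A} (h0 : tr u v = 1) (h1 : tr u (g v) = 1) (h2 : tr u (g (g v)) = 1) : g v = v := by
  change v * u v * u (u v) = 1 at h0
  change g v * u (g v) * u (u (g v)) = 1 at h1
  change g (g v) * u (g (g v)) * u (u (g (g v))) = 1 at h2
  simp only [hgu] at h1 h2
  have hx : u (u v) = v * u v := by
    have h := eq_inv_of_mul_eq_one_right h0
    rwa [inv_eq_of_mul_eq_one_right (hA (v * u v))] at h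
  rw [hx] at h1 h2
  simp only [map_mul, seven g hg] at h1 h2
  set w := u v
  have key : ∀ a b : A, a * b = 1 → a = b := fun a b h => by
    rw [eq_inv_of_mul_eq_one_left h, inv_eq_of_mul_eq_one_right (hA b)]
  -- `X = gv · g⁴v`
  set X := g v * g (g (g (g v))) with hX
  have e1 : X = g (g w) * g (g (g (g w))) := key _ _ (by rw [← h1, hX]; ac_rfl)
  have e2 : g (g v) * g v = g (g (g (g w))) * g w := key _ _ (by rw [← h2]; ac_rfl)
  have e3 : g X * g (g (g (g X))) = g (g X) * g (g (g (g X))) := by
    have hl : g X * g (g (g (g X))) = g (g v) * g v := by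
      simp only [hX, map_mul, seven g hg]
      calc g (g v) * g (g (g (g (g v)))) * (g (g (g (g (g v)))) * g v)
          = g (g v) * g v * (g (g (g (g (g v)))) * g (g (g (g (g v))))) := by ac_rfl
        _ = _ := by rw [hA, mul_one]
    have hr : g (g X) * g (g (g (g X))) = g (g (g (g w))) * g w := by
      rw [e1]
      simp only [map_mul, seven g hg]
      calc g (g (g (g w))) * g (g (g (g (g (g w))))) * (g (g (g (g (g (g w))))) * g w)
          = g (g (g (g w))) * g w * (g (g (g (g (g (g w))))) * g (g (g (g (g (g w)))))) := by ac_rfl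
        _ = _ := by rw [hA, mul_one]
    rw [hl, hr, e2]
  have e4 : g X = X := g.injective (mul_right_cancel e3).symm
  have e5 : g (g (g X)) = X := by rw [e4, e4, e4]
  simp only [hX, map_mul, seven g hg] at e5
  have e6 : g (g (g (g v))) * v = g (g (g (g v))) * g v := e5.trans (mul_comm _ _)
  exact (mul_left_cancel e6).symm

include hA hg hu hgu in
/-- With one non-trivial fixed point of `u`, a module without fixed points of `g` has order at most eight. -/
theorem card_le [Finite A] (z : A) (hfix : ∀ v, u v = v → v = 1 ∨ v = z) (hfpf : ∀ v, g v = v → v = 1) :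
    Nat.card A ≤ 8 := by
  classical
  let f : A → Bool × Bool × Bool := fun v =>
    (decide (tr u v = 1), decide (tr u (g v) = 1), decide (tr u (g (g v)) = 1))
  have hval : ∀ a b, decide (tr u a = 1) = decide (tr u b = 1) → tr u (a * b) = 1 := by
    intro a b hab
    rw [map_mul]
    rcases hfix _ (tr_fixed u hu a) with ea | ea <;> rcases hfix _ (tr_fixed u hu b) with eb | eb
    · rw [ea, eb, one_mul]
    · have hb : tr u b = 1 := by simpa [ea] using hab
      rw [ea, hb, one_mul]
    · have ha : tr u a = 1 := by simpa [eb] using hab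
      rw [eb, ha, one_mul]
    · rw [ea, eb, hA]
  have hf : Function.Injective f := by
    intro a b hab
    simp only [f, Prod.mk.injEq] at hab
    have h := hfpf (a * b) (fixed_of_tr hA g u hg hgu (hval _ _ hab.1)
      (by rw [map_mul]; exact hval _ _ hab.2.1) (by rw [map_mul, map_mul]; exact hval _ _ hab.2.2))
    rw [eq_inv_of_mul_eq_one_left h, inv_eq_of_mul_eq_one_right (hA b)]
  simpa using Nat.card_le_card_of_injective f hf

end Abelian

/-- The exponent two form of `fixed_of_tr` with fixed-point-free `u`. -/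
theorem fixed_of_fpf {A : Type*} [Group A] (hA : ∀ v : A, v * v = 1) (g u : MulAut A) (hg : g ^ 7 = 1)
    (hu : ∀ v, u (u (u v)) = v) (hgu : ∀ v, u (g v) = g (g (u v))) (hfix : ∀ v, u v = v → v = 1) (v : A) :
    g v = v :=
  letI : CommGroup A :=
    { (inferInstance : Group A) with
      mul_comm := fun a b => by
        rw [← inv_eq_of_mul_eq_one_right (hA (a * b)), mul_inv_rev, inv_eq_of_mul_eq_one_right (hA a),
          inv_eq_of_mul_eq_one_right (hA b)] }
  fixed_of_tr hA g u hg hgu (hfix _ (tr_fixed u hu _)) (hfix _ (tr_fixed u hu _)) (hfix _ (tr_fixed u hu _))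

/-- An automorphism of order seven of a 2-group, squared by a fixed-point-free automorphism of order three,
is trivial. -/
theorem eq_one {Q : Type*} [Group Q] [Finite Q] (hQ : IsPGroup 2 Q) (g u : MulAut Q) (hg : g ^ 7 = 1)
    (hu : ∀ v, u (u (u v)) = v) (hgu : ∀ v, u (g v) = g (g (u v))) (hfix : ∀ v, u v = v → v = 1) : g = 1 := by
  classical
  haveI := Fact.mk Nat.prime_two
  set F := frattini Q
  have hinv : ∀ e : MulAut Q, ∀ x ∈ F, e x ∈ F := fun e x hx => by
    have h' := (Subgroup.characteristic_iff_map_eq.mp (inferInstance : F.Characteristic)) e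
    rw [← h']; exact mem_map_of_mem _ hx
  have hmap : ∀ e : MulAut Q, F.map (e : Q →* Q) = F := fun e =>
    Subgroup.characteristic_iff_map_eq.mp (inferInstance : F.Characteristic) e
  let A := Q ⧸ F
  have hsq : ∀ v : A, v * v = 1 := fun v => by
    obtain ⟨x, rfl⟩ := QuotientGroup.mk_surjective v
    rw [← QuotientGroup.mk_mul, QuotientGroup.eq_one_iff, ← pow_two]
    exact Cfsg.Agent.Grp.pGroup_pow_mem_frattini hQ x
  let g' : MulAut A := QuotientGroup.congr F F g (hmap g)
  let u' : MulAut A := QuotientGroup.congr F F u (hmap u)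
  have hg' : ∀ x : Q, g' x = ((g x : Q) : A) := fun x => rfl
  have hu' : ∀ x : Q, u' x = ((u x : Q) : A) := fun x => rfl
  have hg7 : g' ^ 7 = 1 := by
    refine MulEquiv.ext fun v => ?_
    obtain ⟨x, rfl⟩ := QuotientGroup.mk_surjective v
    simp only [pow_succ, pow_zero, one_mul, MulAut.mul_apply, MulAut.one_apply, hg', seven g hg]
  have hu3 : ∀ v, u' (u' (u' v)) = v := fun v => by
    obtain ⟨x, rfl⟩ := QuotientGroup.mk_surjective v
    rw [hu', hu', hu', hu]
  have hgu' : ∀ v, u' (g' v) = g' (g' (u' v)) := fun v => by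
    obtain ⟨x, rfl⟩ := QuotientGroup.mk_surjective v
    rw [hg', hu', hu', hg', hg', hgu]
  have hfix' : ∀ v, u' v = v → v = 1 := by
    intro v hv
    obtain ⟨x, rfl⟩ := QuotientGroup.mk_surjective v
    rw [hu', eq_comm, QuotientGroup.eq] at hv
    cases nonempty_fintype F
    let σ : F → F := fun m => ⟨x⁻¹ * u x * u m, mul_mem hv (hinv u _ m.2)⟩
    have h3 : ∀ m, σ (σ (σ m)) = m := fun m => Subtype.ext (by
      simp only [σ, map_mul, map_inv, hu]
      group)
    let e : Equiv.Perm F := ⟨σ, fun m => σ (σ m), h3, h3⟩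
    haveI := Fact.mk Nat.prime_three
    obtain ⟨m, hm⟩ := Equiv.Perm.exists_fixed_point_of_prime (α := F) (p := 3) (n := 1) (σ := e) (by
      intro hd
      rw [← Nat.card_eq_fintype_card] at hd
      obtain ⟨k, hk⟩ := IsPGroup.iff_card.mp (hQ.to_subgroup F)
      rw [hk] at hd
      exact absurd (Nat.prime_three.dvd_of_dvd_pow hd) (by norm_num)) (by
        ext m
        simp only [pow_one]
        show ((σ (σ (σ m))) : Q) = m
        rw [h3])
    have h := congrArg Subtype.val hm
    simp only [e, Equiv.coe_fn_mk, σ] at h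
    have hxm : x * (m : Q) = 1 := hfix _ (by
      rw [map_mul]
      calc u x * u m = x * (x⁻¹ * u x * u m) := by group
        _ = x * m := by rw [h])
    rw [QuotientGroup.eq_one_iff, eq_inv_of_mul_eq_one_left hxm]
    exact inv_mem m.2
  have htriv : ∀ v : A, g' v = v := fixed_of_fpf hsq g' u' hg7 hu3 hgu' hfix'
  refine Cfsg.Agent.Fus.SuperMeta.eq_one_of_coprime_frattini hQ (m := 7) (by norm_num) hg fun x => ?_
  have := htriv x
  rw [hg', eq_comm, QuotientGroup.eq] at this
  exact this

variable {G : Type*} [Group G] [Finite G]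

/-- The action of a normalising element on a normal quotient. -/
theorem exists_aut {R V : Subgroup G} [(V.subgroupOf R).Normal] {a : G} (haR : a ∈ normalizer (R : Set G))
    (haV : a ∈ normalizer (V : Set G)) :
    ∃ e : MulAut (R ⧸ V.subgroupOf R), ∀ x : R, e x =
      ((⟨a * x * a⁻¹, (mem_normalizer_iff.mp haR _).mp x.2⟩ : R) : R ⧸ V.subgroupOf R) := by
  let f : R ≃* R := R.normalizerMonoidHom ⟨a, haR⟩
  have hf : ∀ m : R, (f m : G) = a * m * a⁻¹ := fun m => rfl
  refine ⟨QuotientGroup.congr _ _ f ?_, fun x => rfl⟩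
  ext m
  obtain ⟨m, rfl⟩ := f.surjective m
  rw [mem_subgroupOf, hf]
  constructor
  · rintro ⟨m', hm', hm''⟩
    have e : m' = m := f.injective hm''
    exact (mem_normalizer_iff.mp haV _).mp (mem_subgroupOf.mp (e ▸ hm'))
  · intro h
    exact ⟨m, mem_subgroupOf.mpr ((mem_normalizer_iff.mp haV _).mpr h), rfl⟩

/-- An element of order seven, squared by an element of order three whose fixed points lie in `V`, centralises
the quotient `R/V`. -/
theorem trivial_mod {R V : Subgroup G} (hR : IsPGroup 2 R) (hVR : V ≤ R)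
    (hRV : R ≤ normalizer (V : Set G)) {g u : G} (hg : orderOf g = 7) (hu : orderOf u = 3)
    (hgu : u * g * u⁻¹ = g ^ 2 ∨ u * g * u⁻¹ = g ^ 4)
    (hgR : g ∈ normalizer (R : Set G)) (hgV : g ∈ normalizer (V : Set G))
    (huR : u ∈ normalizer (R : Set G)) (huV : u ∈ normalizer (V : Set G))
    (hfix : ∀ x ∈ R, Commute x u → x ∈ V) : ∀ x ∈ R, x⁻¹ * (g * x * g⁻¹) ∈ V := by
  -- normalise to `u g u⁻¹ = g²`
  obtain ⟨w, hw, hwR, hwV, hgw, hwfix⟩ : ∃ w : G, orderOf w = 3 ∧ w ∈ normalizer (R : Set G) ∧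
      w ∈ normalizer (V : Set G) ∧ w * g * w⁻¹ = g ^ 2 ∧ ∀ x ∈ R, Commute x w → x ∈ V := by
    rcases hgu with e | e
    · exact ⟨u, hu, huR, huV, e, hfix⟩
    · refine ⟨u⁻¹, by rw [orderOf_inv, hu], inv_mem huR, inv_mem huV, ?_,
        fun x hx hc => hfix x hx (by simpa using hc.inv_right)⟩
      have h8 : u * g ^ 2 * u⁻¹ = g := by
        rw [← conj_pow, e, ← pow_mul, show 4 * 2 = 7 + 1 by rfl, pow_succ, ← hg, pow_orderOf_eq_one, one_mul]
      conv_lhs => rw [← h8]
      group
  haveI : (V.subgroupOf R).Normal := normal_subgroupOf_of_le_normalizer hRV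
  obtain ⟨eg, heg⟩ := exists_aut hgR hgV
  obtain ⟨ew, hew⟩ := exists_aut hwR hwV
  have hg7 : eg ^ 7 = 1 := by
    refine MulEquiv.ext fun v => ?_
    obtain ⟨x, rfl⟩ := QuotientGroup.mk_surjective v
    simp only [pow_succ, pow_zero, one_mul, MulAut.mul_apply, MulAut.one_apply, heg]
    congr 1
    refine Subtype.ext ?_
    show _ = (x : G)
    simp only
    calc g * (g * (g * (g * (g * (g * (g * (x : G) * g⁻¹) * g⁻¹) * g⁻¹) * g⁻¹) * g⁻¹) * g⁻¹) * g⁻¹
        = g ^ 7 * x * (g ^ 7)⁻¹ := by simp only [pow_succ, pow_zero, one_mul]; group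
      _ = x := by rw [← hg, pow_orderOf_eq_one]; group
  have hw3 : ∀ v, ew (ew (ew v)) = v := fun v => by
    obtain ⟨x, rfl⟩ := QuotientGroup.mk_surjective v
    rw [hew, hew, hew]
    congr 1
    refine Subtype.ext ?_
    show w * (w * (w * (x : G) * w⁻¹) * w⁻¹) * w⁻¹ = x
    calc w * (w * (w * (x : G) * w⁻¹) * w⁻¹) * w⁻¹ = w * w * w * x * (w * w * w)⁻¹ := by group
      _ = x := by rw [mul_self_three hw]; group
  have hgw' : ∀ v, ew (eg v) = eg (eg (ew v)) := fun v => by
    obtain ⟨x, rfl⟩ := QuotientGroup.mk_surjective v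
    rw [heg, hew, hew, heg, heg]
    congr 1
    refine Subtype.ext ?_
    show w * (g * (x : G) * g⁻¹) * w⁻¹ = g * (g * (w * x * w⁻¹) * g⁻¹) * g⁻¹
    calc w * (g * (x : G) * g⁻¹) * w⁻¹ = (w * g * w⁻¹) * (w * x * w⁻¹) * (w * g * w⁻¹)⁻¹ := by group
      _ = _ := by rw [hgw, pow_two]; group
  have hf : ∀ v, ew v = v → v = 1 := by
    intro v hv
    obtain ⟨x, rfl⟩ := QuotientGroup.mk_surjective v
    rw [hew, eq_comm, QuotientGroup.eq, mem_subgroupOf] at hv
    obtain ⟨m, hm, hc⟩ := exists_fixed_lift (hR.to_le hVR) hw hwV hv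
    rw [QuotientGroup.eq_one_iff, mem_subgroupOf]
    exact (Subgroup.mul_mem_cancel_right _ hm).mp (hwfix _ (mul_mem x.2 (hVR hm)) hc)
  have h1 := eq_one (hR.to_quotient (V.subgroupOf R)) eg ew hg7 hw3 hgw' hf
  intro x hx
  have := DFunLike.congr_fun h1 ((⟨x, hx⟩ : R) : R ⧸ V.subgroupOf R)
  rw [heg, MulAut.one_apply, eq_comm, QuotientGroup.eq, mem_subgroupOf] at this
  exact this

end Cfsg.Agent.Invol.CentSix.Frob
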