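import Cfsg.Agent.Lib.Invol.CentSix.LocalMain
import Cfsg.Agent.Lib.Invol.CentSix.Two

/-!
# The incidence geometry of the involutions

`W` is an elementary normal subgroup of `C` inside the normal 2-subgroup `T`; two involutions are collinear if
one lies in the conjugate of `W` belonging to the other. If this relation preserves the conjugates of `T` up to
distance two then the connected component generates an elementary subgroup whose normaliser is not inside `C`.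
-/

set_option autoImplicit false
set_option linter.style.haveILetI false

namespace Cfsg.Agent.Invol.CentSix

open Subgroup

variable {G : Type*} [Group G]

/-- An elementary normal subgroup of `C` with a vector fixed exactly by the Sylow subgroup modulo `z`. -/
structure Geo (c : Cfg G) (S : Sylow 2 G) where
  /-- The normal 2-subgroup. -/
  T : Subgroup G
  /-- The elementary subgroup. -/
  W : Subgroup G
  /-- The vector. -/
  e : G
  hS : (S : Subgroup G) ≤ c.C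
  T_le : T ≤ (S : Subgroup G)
  T_normal : c.C ≤ normalizer (T : Set G)
  W_le : W ≤ T
  W_normal : c.C ≤ normalizer (W : Set G)
  z_mem : c.z ∈ W
  W_card : 8 ≤ Nat.card W
  W_sq : ∀ x ∈ W, x * x = 1
  W_T : ∀ w ∈ W, ∀ t ∈ T, w * t * w⁻¹ * t⁻¹ ∈ c.Z2
  e_mem : e ∈ W
  e_notMem : e ∉ c.Z2
  fixed : ∀ s ∈ (S : Subgroup G), s * e * s⁻¹ * e⁻¹ ∈ c.Z2
  fix : ∀ x ∈ c.C, x * e * x⁻¹ * e⁻¹ ∈ c.Z2 → x ∈ (S : Subgroup G)
  trans : ∀ x ∈ W, x ∉ c.Z2 → ∃ g ∈ c.C, (g * e * g⁻¹)⁻¹ * x ∈ c.Z2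
  core : ∀ N : Subgroup G, N ≤ c.C → c.C ≤ normalizer (N : Set G) → (∀ a ∈ N, orderOf a ≠ 3) → N ≤ T
  small : ∀ K : Subgroup G, (S : Subgroup G) ≤ K → c.u ∈ K → K ≤ c.C → ∀ N ≤ K, K ≤ normalizer (N : Set G) →
    (∀ a ∈ N, orderOf a ≠ 3) → IsPGroup 2 N

/-- `z` is the only central involution of the Sylow subgroup. -/
def OmegaZ (c : Cfg G) (S : Sylow 2 G) : Prop :=
  ∀ b ∈ (S : Subgroup G), orderOf b = 2 → (∀ x ∈ (S : Subgroup G), Commute x b) → b = c.z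

namespace Geo

variable {c : Cfg G} {S : Sylow 2 G} (P : Geo c S)

theorem W_comm {x y : G} (hx : x ∈ P.W) (hy : y ∈ P.W) : Commute x y := by
  have h := P.W_sq _ (mul_mem hx hy)
  show x * y = y * x
  rw [eq_inv_of_mul_eq_one_left h, mul_inv_rev, inv_eq_of_mul_eq_one_left (P.W_sq x hx),
    inv_eq_of_mul_eq_one_left (P.W_sq y hy)]

theorem W_conj {g x : G} (hg : g ∈ c.C) (hx : x ∈ P.W) : g * x * g⁻¹ ∈ P.W :=
  (mem_normalizer_iff.mp (P.W_normal hg) x).mp hx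

theorem e_sq : P.e * P.e = 1 := P.W_sq _ P.e_mem

theorem e_ne_one : P.e ≠ 1 := fun h => P.e_notMem (by rw [h]; exact one_mem _)

theorem e_ne_z : P.e ≠ c.z := fun h => P.e_notMem (by rw [h]; exact c.z_mem_Z2)

theorem e_mem_S : P.e ∈ (S : Subgroup G) := P.T_le (P.W_le P.e_mem)

theorem e_mem_C : P.e ∈ c.C := P.hS P.e_mem_S

theorem orderOf_e : orderOf P.e = 2 := orderOf_eq_two P.e_sq P.e_ne_one

theorem comm_z_e : Commute c.z P.e := (c.comm_z P.e_mem_C).symm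

theorem mem_S_of_comm {x : G} (hx : x ∈ c.C) (h : Commute x P.e) : x ∈ (S : Subgroup G) :=
  P.fix x hx (by rw [h.eq, mul_inv_cancel_right, mul_inv_cancel]; exact one_mem _)

theorem exists_swap (hΩ : OmegaZ c S) : ∃ s ∈ (S : Subgroup G), s * P.e * s⁻¹ = c.z * P.e := by
  by_contra hno
  push Not at hno
  refine P.e_ne_z (hΩ _ P.e_mem_S P.orderOf_e fun x hx => ?_)
  rcases c.mem_Z2.mp (P.fixed x hx) with h | h
  · exact mul_inv_eq_iff_eq_mul.mp (mul_inv_eq_one.mp h)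
  · refine absurd ?_ (hno x hx)
    rw [← h]; group

theorem swap_or {s x : G} (hs : s ∈ (S : Subgroup G)) (hse : s * P.e * s⁻¹ = c.z * P.e)
    (hx : x ∈ (S : Subgroup G)) : Commute x P.e ∨ Commute (s⁻¹ * x) P.e := by
  rcases c.mem_Z2.mp (P.fixed x hx) with h | h
  · exact Or.inl (mul_inv_eq_iff_eq_mul.mp (mul_inv_eq_one.mp h))
  · refine Or.inr (mul_inv_eq_iff_eq_mul.mp ?_)
    have h' : x * P.e * x⁻¹ = s * P.e * s⁻¹ := by rw [hse, ← h]; group
    calc s⁻¹ * x * P.e * (s⁻¹ * x)⁻¹ = s⁻¹ * (x * P.e * x⁻¹) * s := by group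
      _ = P.e := by rw [h']; group

variable [Finite G]

theorem exists_move (hΩ : OmegaZ c S) : ∃ g : G, g * P.e * g⁻¹ = P.e ∧ g * c.z * g⁻¹ = c.z * P.e := by
  haveI := Fact.mk Nat.prime_two
  obtain ⟨s, hs, hse⟩ := P.exists_swap hΩ
  obtain ⟨k, hk⟩ := c.exists_conj_invol P.orderOf_e
  set B := centralizer ({P.e} : Set G)
  set D := (S : Subgroup G) ⊓ B
  have hmemD : ∀ {x : G}, x ∈ D ↔ x ∈ (S : Subgroup G) ∧ Commute x P.e := fun {x} => by
    show x ∈ (S : Subgroup G) ∧ x ∈ B ↔ _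
    rw [mem_centralizer_singleton_iff]; rfl
  have hkB : (k • S : Sylow 2 G).toSubgroup ≤ B := by
    intro x hx
    rw [Sylow.coe_subgroup_smul, mem_pointwise_smul_iff_inv_smul_mem, ← map_inv] at hx
    have h1 := (c.comm_z (P.hS hx)).map (MulAut.conj k).toMonoidHom
    simp only [MulEquiv.toMonoidHom_eq_coe, MonoidHom.coe_coe, MulAut.smul_def, MulAut.conj_apply, inv_inv,
      hk] at h1
    rw [mem_centralizer_singleton_iff]
    simpa [mul_assoc] using h1.eq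
  obtain ⟨Q, hQ⟩ := ((S.2.to_le (inf_le_left : D ≤ (S : Subgroup G))).of_equiv
    (subgroupOfEquivOfLe (inf_le_right : D ≤ B)).symm).exists_le_sylow
  have hQcard : Nat.card (Q : Subgroup B) = Nat.card (S : Subgroup G) := by
    rw [Sylow.card_eq_multiplicity, ← ((k • S).subtype hkB).card_eq_multiplicity, Sylow.coe_subtype,
      Nat.card_congr (subgroupOfEquivOfLe hkB).toEquiv]
    rw [Sylow.card_eq_multiplicity, Sylow.card_eq_multiplicity]
  set D' := (D.subgroupOf B).subgroupOf (Q : Subgroup B)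
  have hD' : D' < ⊤ := by
    refine lt_top_iff_ne_top.mpr fun h => ?_
    have hle : (Q : Subgroup B) ≤ D.subgroupOf B := subgroupOf_eq_top.mp h
    have h1 := card_le_of_le hle
    rw [hQcard, Nat.card_congr (subgroupOfEquivOfLe (inf_le_right : D ≤ B)).toEquiv] at h1
    have hDS : D = (S : Subgroup G) := eq_of_le_of_card_ge inf_le_left h1
    have hc : Commute s P.e := (hmemD.mp (hDS ▸ hs)).2
    rw [hc.eq, mul_inv_cancel_right] at hse
    exact c.z_ne (mul_eq_right.mp hse.symm)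
  haveI : Group.IsNilpotent (Q : Subgroup B) := Q.2.isNilpotent
  obtain ⟨g, hgn, hgD⟩ := SetLike.exists_of_lt (normalizerCondition_of_isNilpotent D' hD')
  set g₀ : G := ((g : B) : G)
  have hge : Commute g₀ P.e := mem_centralizer_singleton_iff.mp (g : B).2
  have hgC : g₀ ∉ c.C := fun h => hgD (mem_subgroupOf.mpr (mem_subgroupOf.mpr
    (hmemD.mpr ⟨P.mem_S_of_comm h hge, hge⟩)))
  have hgDn : ∀ d ∈ D, g₀ * d * g₀⁻¹ ∈ D ∧ g₀⁻¹ * d * g₀ ∈ D := by
    intro d hd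
    have hdB : d ∈ B := hd.2
    have hdQ : (⟨d, hdB⟩ : B) ∈ (Q : Subgroup B) := hQ (mem_subgroupOf.mpr hd)
    have hmem : (⟨⟨d, hdB⟩, hdQ⟩ : (Q : Subgroup B)) ∈ D' := mem_subgroupOf.mpr (mem_subgroupOf.mpr hd)
    have h1 := mem_subgroupOf.mp (mem_subgroupOf.mp ((mem_normalizer_iff.mp hgn _).mp hmem))
    have h2 := mem_subgroupOf.mp (mem_subgroupOf.mp ((mem_normalizer_iff.mp (inv_mem hgn) _).mp hmem))
    rw [inv_inv] at h2
    exact ⟨h1, h2⟩
  have hzD : c.z ∈ D := hmemD.mpr ⟨P.T_le (P.W_le P.z_mem), P.comm_z_e⟩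
  set b := g₀ * c.z * g₀⁻¹ with hb
  have hbD : b ∈ D := (hgDn _ hzD).1
  have hb2 : b * b = 1 := by rw [hb, conj_mul, c.z_sq]; group
  have hbc : ∀ d ∈ D, Commute d b := fun d hd => by
    have h1 := (c.comm_z (P.hS (hgDn d hd).2.1)).map (MulAut.conj g₀).toMonoidHom
    simp only [MulEquiv.toMonoidHom_eq_coe, MonoidHom.coe_coe, MulAut.conj_apply] at h1
    rwa [show g₀ * (g₀⁻¹ * d * g₀) * g₀⁻¹ = d by group] at h1
  have hsn : ∀ d ∈ D, s * d * s⁻¹ ∈ D := fun d hd => by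
    obtain ⟨hdS, hde⟩ := hmemD.mp hd
    refine hmemD.mpr ⟨mul_mem (mul_mem hs hdS) (inv_mem hs), ?_⟩
    have h1 := hde.map (MulAut.conj s).toMonoidHom
    simp only [MulEquiv.toMonoidHom_eq_coe, MonoidHom.coe_coe, MulAut.conj_apply, hse] at h1
    have h2 := (c.comm_z (P.hS (mul_mem (mul_mem hs hdS) (inv_mem hs)))).mul_right h1
    rwa [← mul_assoc, c.z_sq, one_mul] at h2
  set b' := s * b * s⁻¹ with hb'
  have hb'D : b' ∈ D := hsn b hbD
  have hb'2 : b' * b' = 1 := by rw [hb', conj_mul, hb2]; group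
  have hbb : Commute b' b := hbc b' hb'D
  set m := b' * b⁻¹ with hm
  have hm2 : m * m = 1 := by
    rw [hm, inv_eq_of_mul_eq_one_left hb2, show b' * b * (b' * b) = b' * (b * b') * b by group, ← hbb.eq,
      show b' * (b' * b) * b = b' * b' * (b * b) by group, hb'2, hb2, one_mul]
  have hs2 : s * s ∈ D := by
    refine hmemD.mpr ⟨mul_mem hs hs, mul_inv_eq_iff_eq_mul.mp ?_⟩
    rw [show s * s * P.e * (s * s)⁻¹ = s * (s * P.e * s⁻¹) * s⁻¹ by group, hse,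
      show s * (c.z * P.e) * s⁻¹ = s * c.z * s⁻¹ * (s * P.e * s⁻¹) by group, c.conj_z (P.hS hs), hse, ← mul_assoc,
      c.z_sq, one_mul]
  have hb'' : s * b' * s⁻¹ = b := by
    rw [hb', show s * (s * b * s⁻¹) * s⁻¹ = s * s * b * (s * s)⁻¹ by group, (hbc _ hs2).eq, mul_inv_cancel_right]
  have hb'c : ∀ d ∈ D, Commute d b' := fun d hd => by
    have hd' : s⁻¹ * d * s ∈ D := by
      obtain ⟨hdS, hde⟩ := hmemD.mp hd
      refine hmemD.mpr ⟨mul_mem (mul_mem (inv_mem hs) hdS) hs, ?_⟩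
      have h1 := ((c.comm_z (P.hS hdS)).mul_right hde).map (MulAut.conj s⁻¹).toMonoidHom
      simp only [MulEquiv.toMonoidHom_eq_coe, MonoidHom.coe_coe, MulAut.conj_apply, inv_inv] at h1
      rwa [show s⁻¹ * (c.z * P.e) * s = P.e by rw [← hse]; group] at h1
    have h1 := (hbc _ hd').map (MulAut.conj s).toMonoidHom
    simp only [MulEquiv.toMonoidHom_eq_coe, MonoidHom.coe_coe, MulAut.conj_apply] at h1
    rwa [show s * (s⁻¹ * d * s) * s⁻¹ = d by group] at h1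
  have hmc : ∀ x ∈ (S : Subgroup G), Commute x m := by
    have hms : Commute s m := by
      refine mul_inv_eq_iff_eq_mul.mp ?_
      rw [hm, show s * (b' * b⁻¹) * s⁻¹ = s * b' * s⁻¹ * (s * b * s⁻¹)⁻¹ by group, hb'', ← hb',
        inv_eq_of_mul_eq_one_left hb'2, inv_eq_of_mul_eq_one_left hb2, hbb.eq]
    have hmd : ∀ d ∈ D, Commute d m := fun d hd => (hb'c d hd).mul_right (hbc d hd).inv_right
    intro x hx
    rcases P.swap_or hs hse hx with h | h
    · exact hmd x (hmemD.mpr ⟨hx, h⟩)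
    · have h1 := hms.mul_left (hmd _ (hmemD.mpr ⟨mul_mem (inv_mem hs) hx, h⟩))
      rwa [mul_inv_cancel_left] at h1
  have hcentral : ∀ a ∈ D, a * a = 1 → (∀ d ∈ D, Commute d a) → s * a * s⁻¹ = a → a = 1 ∨ a = c.z := by
    intro a ha ha2 hac has
    refine or_iff_not_imp_left.mpr fun ha1 => hΩ a ha.1 (orderOf_eq_two ha2 ha1) fun x hx => ?_
    rcases P.swap_or hs hse hx with h | h
    · exact hac x (hmemD.mpr ⟨hx, h⟩)
    · have h1 := (show Commute s a from mul_inv_eq_iff_eq_mul.mp has).mul_left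
        (hac _ (hmemD.mpr ⟨mul_mem (inv_mem hs) hx, h⟩))
      rwa [mul_inv_cancel_left] at h1
  have hb1 : b ≠ 1 := fun h => c.z_ne (conj_eq_one_iff.mp h)
  have hbz : b ≠ c.z := fun h => hgC (c.mem_C.mpr (mul_inv_eq_iff_eq_mul.mp h))
  have hbe : b ≠ P.e := fun h => P.e_ne_z (by
    have h1 : g₀ * c.z * g₀⁻¹ = g₀ * P.e * g₀⁻¹ := by rw [← hb, h, hge.eq, mul_inv_cancel_right]
    exact (mul_left_cancel (mul_right_cancel h1)).symm)
  have hm' : m = c.z := by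
    have hmS : m ∈ (S : Subgroup G) := mul_mem hb'D.1 (inv_mem hbD.1)
    refine hΩ m hmS (orderOf_eq_two hm2 fun h => ?_) hmc
    rcases hcentral b hbD hb2 hbc (mul_inv_eq_one.mp h) with e1 | e1
    · exact hb1 e1
    · exact hbz e1
  have hfix : s * (b * P.e) * s⁻¹ = b * P.e := by
    rw [show s * (b * P.e) * s⁻¹ = b' * (s * P.e * s⁻¹) by rw [hb']; group, hse,
      show b' = c.z * b by rw [← hm', hm]; group, show c.z * b * (c.z * P.e) = c.z * (b * c.z) * P.e by group,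
      (c.comm_z (P.hS hbD.1)).eq, ← mul_assoc c.z, c.z_sq, one_mul]
  refine ⟨g₀, by rw [hge.eq, mul_inv_cancel_right], ?_⟩
  have heD : P.e ∈ D := hmemD.mpr ⟨P.e_mem_S, Commute.refl _⟩
  have hbe' : Commute b P.e := (hmemD.mp hbD).2
  rcases hcentral (b * P.e) (mul_mem hbD heD) (by
      rw [show b * P.e * (b * P.e) = b * (P.e * b) * P.e by group, ← hbe'.eq,
        show b * (b * P.e) * P.e = b * b * (P.e * P.e) by group, hb2, P.e_sq, one_mul])
      (fun d hd => (hbc d hd).mul_right (hmemD.mp hd).2) hfix with e1 | e1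
  · exact absurd (by rw [eq_inv_of_mul_eq_one_left e1, inv_eq_of_mul_eq_one_left P.e_sq]) hbe
  · rw [← hb, ← e1, mul_assoc, P.e_sq, mul_one]

/-- An element exchanging `z` and `e`. -/
theorem exists_h (hΩ : OmegaZ c S) : ∃ h : G, h * c.z * h⁻¹ = P.e ∧ h * P.e * h⁻¹ = c.z := by
  obtain ⟨g, hge, hgz⟩ := P.exists_move hΩ
  obtain ⟨s, hs, hse⟩ := P.exists_swap hΩ
  have hgze : g * (c.z * P.e) * g⁻¹ = c.z := by
    rw [show g * (c.z * P.e) * g⁻¹ = g * c.z * g⁻¹ * (g * P.e * g⁻¹) by group, hgz, hge, mul_assoc, P.e_sq, mul_one]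
  have hsze : s * (c.z * P.e) * s⁻¹ = P.e := by
    rw [show s * (c.z * P.e) * s⁻¹ = s * c.z * s⁻¹ * (s * P.e * s⁻¹) by group, c.conj_z (P.hS hs), hse, ← mul_assoc,
      c.z_sq, one_mul]
  refine ⟨g * s * g, ?_, ?_⟩
  · rw [show g * s * g * c.z * (g * s * g)⁻¹ = g * (s * (g * c.z * g⁻¹) * s⁻¹) * g⁻¹ by group, hgz, hsze, hge]
  · rw [show g * s * g * P.e * (g * s * g)⁻¹ = g * (s * (g * P.e * g⁻¹) * s⁻¹) * g⁻¹ by group, hge, hse, hgze]

/-- Membership of the conjugate of `W` belonging to `p`. -/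
def MemW (p x : G) : Prop := ∃ k : G, k * c.z * k⁻¹ = p ∧ k⁻¹ * x * k ∈ P.W

/-- Membership of the conjugate of `T` belonging to `p`. -/
def MemT (p x : G) : Prop := ∃ k : G, k * c.z * k⁻¹ = p ∧ k⁻¹ * x * k ∈ P.T

omit [Finite G] in
theorem mem_C_of_conj {k l : G} (h : k * c.z * k⁻¹ = l * c.z * l⁻¹) : l⁻¹ * k ∈ c.C := by
  refine c.mem_C.mpr ?_
  calc l⁻¹ * k * c.z = l⁻¹ * (k * c.z * k⁻¹) * k := by group
    _ = c.z * (l⁻¹ * k) := by rw [h]; group

omit [Finite G] in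
theorem memW_iff {k p x : G} (hk : k * c.z * k⁻¹ = p) : P.MemW p x ↔ k⁻¹ * x * k ∈ P.W := by
  refine ⟨fun ⟨l, hl, h⟩ => ?_, fun h => ⟨k, hk, h⟩⟩
  have h1 := P.W_conj (inv_mem (mem_C_of_conj (hk.trans hl.symm))) h
  rwa [show (l⁻¹ * k)⁻¹ * (l⁻¹ * x * l) * (l⁻¹ * k)⁻¹⁻¹ = k⁻¹ * x * k by group] at h1

omit [Finite G] in
theorem memT_iff {k p x : G} (hk : k * c.z * k⁻¹ = p) : P.MemT p x ↔ k⁻¹ * x * k ∈ P.T := by
  refine ⟨fun ⟨l, hl, h⟩ => ?_, fun h => ⟨k, hk, h⟩⟩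
  have h1 := (mem_normalizer_iff.mp (P.T_normal (inv_mem (mem_C_of_conj (hk.trans hl.symm)))) _).mp h
  rwa [show (l⁻¹ * k)⁻¹ * (l⁻¹ * x * l) * (l⁻¹ * k)⁻¹⁻¹ = k⁻¹ * x * k by group] at h1

omit [Finite G] in
theorem memW_z {x : G} : P.MemW c.z x ↔ x ∈ P.W := by
  rw [P.memW_iff (k := 1) (by simp)]; simp

omit [Finite G] in
theorem memT_z {x : G} : P.MemT c.z x ↔ x ∈ P.T := by
  rw [P.memT_iff (k := 1) (by simp)]; simp

omit [Finite G] in
theorem memW_conj (g : G) {p x : G} (h : P.MemW p x) : P.MemW (g * p * g⁻¹) (g * x * g⁻¹) := by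
  obtain ⟨k, hk, h⟩ := h
  refine ⟨g * k, by rw [← hk]; group, ?_⟩
  rwa [show (g * k)⁻¹ * (g * x * g⁻¹) * (g * k) = k⁻¹ * x * k by group]

omit [Finite G] in
theorem memW_unconj (g : G) {p x : G} (h : P.MemW (g * p * g⁻¹) x) : P.MemW p (g⁻¹ * x * g) := by
  have h1 := P.memW_conj g⁻¹ h
  rwa [show g⁻¹ * (g * p * g⁻¹) * g⁻¹⁻¹ = p by group, inv_inv] at h1

omit [Finite G] in
theorem memW_sq {p x : G} (h : P.MemW p x) : x * x = 1 := by
  obtain ⟨k, -, h⟩ := h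
  calc x * x = k * ((k⁻¹ * x * k) * (k⁻¹ * x * k)) * k⁻¹ := by group
    _ = 1 := by rw [P.W_sq _ h]; group

omit [Finite G] in
theorem memW_comm {p x y : G} (hx : P.MemW p x) (hy : P.MemW p y) : Commute x y := by
  obtain ⟨k, hk, h⟩ := hx
  have h1 := (P.W_comm h ((P.memW_iff hk).mp hy)).map (MulAut.conj k).toMonoidHom
  simp only [MulEquiv.toMonoidHom_eq_coe, MonoidHom.coe_coe, MulAut.conj_apply] at h1
  rwa [show k * (k⁻¹ * x * k) * k⁻¹ = x by group, show k * (k⁻¹ * y * k) * k⁻¹ = y by group] at h1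

omit [Finite G] in
theorem memW_self {k p : G} (hk : k * c.z * k⁻¹ = p) : P.MemW p p := by
  refine ⟨k, hk, ?_⟩
  rw [← hk, show k⁻¹ * (k * c.z * k⁻¹) * k = c.z by group]
  exact P.z_mem

omit [Finite G] in
theorem memW_mul {p x y : G} (hx : P.MemW p x) (hy : P.MemW p y) : P.MemW p (x * y) := by
  obtain ⟨k, hk, h⟩ := hx
  refine ⟨k, hk, ?_⟩
  rw [show k⁻¹ * (x * y) * k = k⁻¹ * x * k * (k⁻¹ * y * k) by group]
  exact mul_mem h ((P.memW_iff hk).mp hy)

omit [Finite G] in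
theorem memW_inv {p x : G} (hx : P.MemW p x) : P.MemW p x⁻¹ := by
  rwa [inv_eq_of_mul_eq_one_left (P.memW_sq hx)]

omit [Finite G] in
/-- An element commuting with `p` normalises its conjugate of `W`. -/
theorem memW_conj_self {p g x : G} (hg : Commute g p) (hx : P.MemW p x) : P.MemW p (g * x * g⁻¹) := by
  have h := P.memW_conj g hx
  rwa [hg.eq, mul_inv_cancel_right] at h

/-- Collinear involutions. -/
def Coll (p q : G) : Prop := P.MemW p q ∧ q ≠ p ∧ q ≠ 1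

omit [Finite G] in
theorem coll_conj (g : G) {p q : G} (h : P.Coll p q) : P.Coll (g * p * g⁻¹) (g * q * g⁻¹) :=
  ⟨P.memW_conj g h.1, fun e => h.2.1 (mul_left_cancel (mul_right_cancel e)), fun e => h.2.2 (conj_eq_one_iff.mp e)⟩

theorem frame (hΩ : OmegaZ c S) {p q : G} (h : P.Coll p q) :
    ∃ K : G, K * c.z * K⁻¹ = p ∧ K * P.e * K⁻¹ = q := by
  obtain ⟨⟨k, hk, hq⟩, hqp, hq1⟩ := h
  have hnz : k⁻¹ * q * k ∉ c.Z2 := fun hm => by
    rcases c.mem_Z2.mp hm with e | e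
    · exact hq1 (by
        calc q = k * (k⁻¹ * q * k) * k⁻¹ := by group
          _ = 1 := by rw [e]; group)
    · exact hqp (by
        calc q = k * (k⁻¹ * q * k) * k⁻¹ := by group
          _ = p := by rw [e, hk])
  obtain ⟨g, hg, h⟩ := P.trans _ hq hnz
  rcases c.mem_Z2.mp h with e | e
  · refine ⟨k * g, ?_, ?_⟩
    · rw [show k * g * c.z * (k * g)⁻¹ = k * (g * c.z * g⁻¹) * k⁻¹ by group, c.conj_z hg, hk]
    · rw [show k * g * P.e * (k * g)⁻¹ = k * (g * P.e * g⁻¹) * k⁻¹ by group, inv_mul_eq_one.mp e]; group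
  · obtain ⟨s, hs, hse⟩ := P.exists_swap hΩ
    refine ⟨k * g * s, ?_, ?_⟩
    · rw [show k * g * s * c.z * (k * g * s)⁻¹ = k * (g * (s * c.z * s⁻¹) * g⁻¹) * k⁻¹ by group,
        c.conj_z (P.hS hs), c.conj_z hg, hk]
    · rw [show k * g * s * P.e * (k * g * s)⁻¹ = k * (g * (s * P.e * s⁻¹) * g⁻¹) * k⁻¹ by group, hse,
        show g * (c.z * P.e) * g⁻¹ = g * c.z * g⁻¹ * (g * P.e * g⁻¹) by group, c.conj_z hg,
        ((c.comm_z (mul_mem (mul_mem hg P.e_mem_C) (inv_mem hg))).symm).eq, ← e]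
      group

theorem coll_symm (hΩ : OmegaZ c S) {p q : G} (h : P.Coll p q) : P.Coll q p := by
  obtain ⟨K, hKz, hKe⟩ := P.frame hΩ h
  obtain ⟨j, hjz, hje⟩ := P.exists_h hΩ
  refine ⟨⟨K * j, ?_, ?_⟩, h.2.1.symm, fun e => c.z_ne (conj_eq_one_iff.mp (hKz.trans e))⟩
  · rw [show K * j * c.z * (K * j)⁻¹ = K * (j * c.z * j⁻¹) * K⁻¹ by group, hjz, hKe]
  · rw [show (K * j)⁻¹ * p * (K * j) = j⁻¹ * (K⁻¹ * p * K) * j by group,
      show K⁻¹ * p * K = c.z by rw [← hKz]; group,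
      show j⁻¹ * c.z * j = P.e by rw [← hje]; group]
    exact P.e_mem

theorem coll_e (hΩ : OmegaZ c S) : P.Coll P.e c.z :=
  P.coll_symm hΩ ⟨P.memW_z.mpr P.e_mem, P.e_ne_z, P.e_ne_one⟩

/-- The conjugate of `W` belonging to `e` lies in `T`. -/
def Near : Prop := ∀ x, P.MemW P.e x → x ∈ P.T

/-- The same at distance two. -/
def Near2 : Prop := ∀ p x, P.Coll p P.e → P.MemW p x → x ∈ P.T

theorem memT_of_coll (hΩ : OmegaZ c S) (h1 : P.Near) {p q x : G} (h : P.Coll p q) (hx : P.MemW q x) :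
    P.MemT p x := by
  obtain ⟨K, hKz, hKe⟩ := P.frame hΩ h
  refine ⟨K, hKz, h1 _ ?_⟩
  rw [← hKe] at hx
  exact P.memW_unconj K hx

theorem memT_of_coll2 (hΩ : OmegaZ c S) (h2 : P.Near2) {p q r x : G} (hpq : P.Coll p q) (hqr : P.Coll q r)
    (hx : P.MemW p x) : P.MemT r x := by
  obtain ⟨K, hKz, hKe⟩ := P.frame hΩ (P.coll_symm hΩ hqr)
  refine ⟨K, hKz, h2 (K⁻¹ * p * K) _ ?_ ?_⟩
  · have h := P.coll_conj K⁻¹ hpq
    rwa [inv_inv, show K⁻¹ * q * K = P.e by rw [← hKe]; group] at h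
  · have h := P.memW_conj K⁻¹ hx
    rwa [inv_inv] at h

omit [Finite G] in
theorem comm_memW_memT {p x y : G} (hx : P.MemW p x) (hy : P.MemT p y) :
    x * y * x⁻¹ * y⁻¹ = 1 ∨ x * y * x⁻¹ * y⁻¹ = p := by
  obtain ⟨k, hk, h⟩ := hx
  have hy' := (P.memT_iff hk).mp hy
  rcases c.mem_Z2.mp (P.W_T _ h _ hy') with e | e
  · left
    calc x * y * x⁻¹ * y⁻¹ = k * (k⁻¹ * x * k * (k⁻¹ * y * k) * (k⁻¹ * x * k)⁻¹ * (k⁻¹ * y * k)⁻¹) * k⁻¹ := by group
      _ = 1 := by rw [e]; group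
  · right
    calc x * y * x⁻¹ * y⁻¹ = k * (k⁻¹ * x * k * (k⁻¹ * y * k) * (k⁻¹ * x * k)⁻¹ * (k⁻¹ * y * k)⁻¹) * k⁻¹ := by group
      _ = p := by rw [e, hk]

omit [Finite G] in
theorem comm_of_memT {p q x y : G} (hpq : p ≠ q) (hx : P.MemW p x) (hy : P.MemW q y) (hxT : P.MemT q x)
    (hyT : P.MemT p y) : Commute x y := by
  rcases P.comm_memW_memT hx hyT with e | e
  · exact mul_inv_eq_iff_eq_mul.mp (mul_inv_eq_one.mp e)
  rcases P.comm_memW_memT hy hxT with e' | e'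
  · exact (show Commute y x from mul_inv_eq_iff_eq_mul.mp (mul_inv_eq_one.mp e')).symm
  refine absurd ?_ hpq
  have hq2 : q * q = 1 := by
    obtain ⟨k, hk, -⟩ := hy
    rw [← hk, conj_mul, c.z_sq]; group
  rw [← e, show x * y * x⁻¹ * y⁻¹ = (y * x * y⁻¹ * x⁻¹)⁻¹ by group, e', inv_eq_of_mul_eq_one_left hq2]

theorem comm_of_coll (hΩ : OmegaZ c S) (h1 : P.Near) {p q x y : G} (h : P.Coll p q) (hx : P.MemW p x)
    (hy : P.MemW q y) : Commute x y :=
  P.comm_of_memT h.2.1.symm hx hy (P.memT_of_coll hΩ h1 (P.coll_symm hΩ h) hx) (P.memT_of_coll hΩ h1 h hy)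

/-- An element of `C` outside `T` moves `W` modulo `z`. -/
theorem exists_moved {x : G} (hx : x ∈ c.C) (hxT : x ∉ P.T) : ∃ w ∈ P.W, x * w * x⁻¹ * w⁻¹ ∉ c.Z2 := by
  by_contra hno
  push Not at hno
  let M : Subgroup G :=
    { carrier := {x | x ∈ c.C ∧ ∀ w ∈ P.W, x * w * x⁻¹ * w⁻¹ ∈ c.Z2}
      one_mem' := ⟨one_mem _, fun w _ => by simp⟩
      mul_mem' := fun {a b} ha hb => ⟨mul_mem ha.1 hb.1, fun w hw => by
        have h1 := (mem_normalizer_iff.mp (c.Z2_normal ha.1) _).mp (hb.2 w hw)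
        have h2 := mul_mem h1 (ha.2 w hw)
        rwa [show a * (b * w * b⁻¹ * w⁻¹) * a⁻¹ * (a * w * a⁻¹ * w⁻¹) = a * b * w * (a * b)⁻¹ * w⁻¹ by group] at h2⟩
      inv_mem' := fun {a} ha => ⟨inv_mem ha.1, fun w hw => by
        have h1 := (mem_normalizer_iff.mp (c.Z2_normal (inv_mem ha.1)) _).mp (inv_mem (ha.2 w hw))
        rwa [show a⁻¹ * (a * w * a⁻¹ * w⁻¹)⁻¹ * a⁻¹⁻¹ = a⁻¹ * w * a⁻¹⁻¹ * w⁻¹ by group] at h1⟩ }
  have hn : c.C ≤ normalizer (M : Set G) := fun g hg => Cfg.mem_normalizer_of_conj fun a ha => by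
    refine ⟨mul_mem (mul_mem hg ha.1) (inv_mem hg), fun w hw => ?_⟩
    have h1 := (mem_normalizer_iff.mp (c.Z2_normal hg) _).mp (ha.2 _ (P.W_conj (inv_mem hg) hw))
    rwa [show g * (a * (g⁻¹ * w * g⁻¹⁻¹) * a⁻¹ * (g⁻¹ * w * g⁻¹⁻¹)⁻¹) * g⁻¹
      = g * a * g⁻¹ * w * (g * a * g⁻¹)⁻¹ * w⁻¹ by group] at h1
  refine hxT (P.core M (fun a ha => ha.1) hn (fun a ha ha3 => ?_) ⟨hx, hno⟩)
  refine P.e_notMem (Cfg.moved_mod (T := P.T) (P.T_le.trans P.hS) (S.2.to_le P.T_le) (P.W_le P.z_mem) ha.1 ha3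
    (P.W_le P.e_mem) ?_)
  have h1 := ha.2 _ P.e_mem
  have h2 := (mem_normalizer_iff.mp (c.Z2_normal (inv_mem P.e_mem_C)) _).mp h1
  rwa [inv_inv, show P.e⁻¹ * (a * P.e * a⁻¹ * P.e⁻¹) * P.e = P.e⁻¹ * (a * P.e * a⁻¹) by group] at h2

/-- At most this distance. -/
def Dist : ℕ → G → G → Prop
  | 0, p, q => p = q
  | n + 1, p, q => Dist n p q ∨ ∃ r, Dist n p r ∧ P.Coll r q

omit [Finite G] in
theorem dist_conj (g : G) : ∀ (n : ℕ) {p q : G}, P.Dist n p q → P.Dist n (g * p * g⁻¹) (g * q * g⁻¹)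
  | 0, _, _, h => by rw [show _ = _ from h]; rfl
  | n + 1, _, _, h => by
    rcases h with h | ⟨r, h1, h2⟩
    · exact Or.inl (dist_conj g n h)
    · exact Or.inr ⟨_, dist_conj g n h1, P.coll_conj g h2⟩

omit [Finite G] in
theorem dist_cons : ∀ (n : ℕ) {p r q : G}, P.Coll p r → P.Dist n r q → P.Dist (n + 1) p q
  | 0, p, _, _, h1, h => Or.inr ⟨p, rfl, (show _ = _ from h) ▸ h1⟩
  | n + 1, _, _, _, h1, h => by
    rcases h with h | ⟨s, h2, h3⟩
    · exact Or.inl (dist_cons n h1 h)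
    · exact Or.inr ⟨s, dist_cons n h1 h2, h3⟩

omit [Finite G] in
theorem dist_first : ∀ (n : ℕ) {p q : G}, P.Dist (n + 1) p q →
    P.Dist n p q ∨ ∃ r, P.Coll p r ∧ P.Dist n r q
  | 0, _, q, h => by
    rcases h with h | ⟨r, h1, h2⟩
    · exact Or.inl h
    · refine Or.inr ⟨q, ?_, rfl⟩
      exact (show _ = _ from h1).symm ▸ h2
  | n + 1, _, _, h => by
    rcases h with h | ⟨r, h1, h2⟩
    · exact Or.inl h
    · rcases dist_first n h1 with h3 | ⟨s, h3, h4⟩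
      · exact Or.inl (Or.inr ⟨r, h3, h2⟩)
      · exact Or.inr ⟨s, h3, Or.inr ⟨r, h4, h2⟩⟩

theorem dist_symm (hΩ : OmegaZ c S) : ∀ (n : ℕ) {p q : G}, P.Dist n p q → P.Dist n q p
  | 0, _, _, h => (show _ = _ from h).symm
  | n + 1, _, _, h => by
    rcases h with h | ⟨r, h1, h2⟩
    · exact Or.inl (dist_symm hΩ n h)
    · exact P.dist_cons n (P.coll_symm hΩ h2) (dist_symm hΩ n h1)

omit [Finite G] in
theorem dist_mono {n m : ℕ} (h : n ≤ m) {p q : G} (hd : P.Dist n p q) : P.Dist m p q := by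
  induction h with
  | refl => exact hd
  | step _ ih => exact Or.inl ih

omit [Finite G] in
theorem dist_trans {n : ℕ} : ∀ (m : ℕ) {p q r : G}, P.Dist n p q → P.Dist m q r → P.Dist (n + m) p r
  | 0, _, _, _, h, h' => (show _ = _ from h') ▸ h
  | m + 1, _, _, _, h, h' => by
    rcases h' with h' | ⟨s, h1, h2⟩
    · exact Or.inl (dist_trans m h h')
    · exact Or.inr ⟨s, dist_trans m h h1, h2⟩

/-- Conjugates of `W` lie in conjugates of `T` within a component. -/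
theorem memT_of_dist (hΩ : OmegaZ c S) (h1 : P.Near) (h2 : P.Near2) :
    ∀ (n : ℕ) {p q x : G}, P.Dist n p q → P.MemW p x → P.MemT q x
  | 0, _, _, _, h, hx => by
    obtain ⟨k, hk, hx⟩ := hx
    exact ⟨k, hk.trans h, P.W_le hx⟩
  | n + 1, p, q, x, h, hx => by
    have ih : ∀ {a b v w : G}, P.Dist n a b → P.MemW a v → P.MemW b w → Commute v w := by
      intro a b v w hd hv hw
      by_cases hab : a = b
      · exact P.memW_comm hv (hab ▸ hw)
      · exact P.comm_of_memT hab hv hw (memT_of_dist hΩ h1 h2 n hd hv)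
          (memT_of_dist hΩ h1 h2 n (P.dist_symm hΩ n hd) hw)
    rcases P.dist_first n h with hd | ⟨r', hpr, hr'q⟩
    · exact memT_of_dist hΩ h1 h2 n hd hx
    rcases h with hd | ⟨r, hpr', hrq⟩
    · exact memT_of_dist hΩ h1 h2 n hd hx
    have hxq : Commute x q := ih hpr' hx hrq.1
    obtain ⟨K, hK, -⟩ := (P.coll_symm hΩ hrq).1
    by_contra hxT
    have hxC : K⁻¹ * x * K ∈ c.C := c.mem_C.mpr (by
      calc K⁻¹ * x * K * c.z = K⁻¹ * (x * (K * c.z * K⁻¹)) * K := by group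
        _ = c.z * (K⁻¹ * x * K) := by rw [hK, hxq.eq, ← hK]; group)
    obtain ⟨w, hw, hne⟩ := P.exists_moved hxC fun h' => hxT ⟨K, hK, h'⟩
    set y := K * w * K⁻¹ with hy
    have hyW : P.MemW q y := ⟨K, hK, by rwa [hy, show K⁻¹ * (K * w * K⁻¹) * K = w by group]⟩
    set c0 := x * y * x⁻¹ * y⁻¹ with hc0
    have hc0q : P.MemW q c0 := P.memW_mul (P.memW_conj_self hxq hyW) (P.memW_inv hyW)
    have hyp : Commute y p := ih (P.dist_symm hΩ n hr'q) hyW (P.coll_symm hΩ hpr).1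
    have hc0p : P.MemW p c0 := by
      rw [hc0, show x * y * x⁻¹ * y⁻¹ = x * (y * x⁻¹ * y⁻¹) by group]
      exact P.memW_mul hx (P.memW_conj_self hyp (P.memW_inv hx))
    have hK0 : K⁻¹ * c0 * K = K⁻¹ * x * K * w * (K⁻¹ * x * K)⁻¹ * w⁻¹ := by rw [hc0, hy]; group
    have hc01 : c0 ≠ 1 := fun e => hne (by
      rw [← hK0, e, mul_one, inv_mul_cancel]; exact one_mem _)
    have hc0nq : c0 ≠ q := fun e => hne (by
      rw [← hK0, e, ← hK, show K⁻¹ * (K * c.z * K⁻¹) * K = c.z by group]; exact c.z_mem_Z2)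
    have hqc : P.Coll q c0 := ⟨hc0q, hc0nq, hc01⟩
    by_cases hcp : c0 = p
    · exact hxT (P.memT_of_coll hΩ h1 (hcp ▸ hqc) hx)
    · exact hxT (P.memT_of_coll2 hΩ h2 ⟨hc0p, hcp, hc01⟩ (P.coll_symm hΩ hqc) hx)

theorem comm_of_dist (hΩ : OmegaZ c S) (h1 : P.Near) (h2 : P.Near2) {n : ℕ} {p q x y : G} (hd : P.Dist n p q)
    (hx : P.MemW p x) (hy : P.MemW q y) : Commute x y := by
  by_cases hpq : p = q
  · exact P.memW_comm hx (hpq ▸ hy)
  · exact P.comm_of_memT hpq hx hy (P.memT_of_dist hΩ h1 h2 n hd hx)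
      (P.memT_of_dist hΩ h1 h2 n (P.dist_symm hΩ n hd) hy)

/-- The component generates a local overgroup of the Sylow subgroup. -/
theorem exists_local (hΩ : OmegaZ c S) (h1 : P.Near) (h2 : P.Near2) : ∃ L, LHyp c S L := by
  set X : Set G := {x | ∃ p n, P.Dist n c.z p ∧ P.MemW p x}
  set N := closure X
  have hXc : ∀ x ∈ X, ∀ y ∈ X, Commute x y := by
    rintro x ⟨p, n, hp, hx⟩ y ⟨q, m, hq, hy⟩
    exact P.comm_of_dist hΩ h1 h2 (P.dist_trans m (P.dist_symm hΩ n hp) hq) hx hy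
  have hN2 : IsPGroup 2 N := by
    refine fun v => ⟨1, Subtype.ext ?_⟩
    obtain ⟨v, hv⟩ := v
    show v ^ (2 ^ 1) = 1
    rw [pow_one]
    have key : v * v = 1 ∧ ∀ x ∈ X, Commute v x := by
      induction hv using closure_induction with
      | mem x hx => exact ⟨by obtain ⟨p, n, -, h⟩ := hx; exact P.memW_sq h, hXc x hx⟩
      | one => exact ⟨one_mul 1, fun x _ => Commute.one_left x⟩
      | mul a b ha hb iha ihb =>
        refine ⟨?_, fun x hx => (iha.2 x hx).mul_left (ihb.2 x hx)⟩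
        have hab : Commute a b := mem_centralizer_iff.mp ((closure_le (centralizer {a})).mpr
          (fun x hx => mem_centralizer_singleton_iff.mpr (iha.2 x hx).symm.eq) hb) a rfl
        rw [show a * b * (a * b) = a * (b * a) * b by group, ← hab.eq,
          show a * (a * b) * b = a * a * (b * b) by group, iha.1, ihb.1, one_mul]
      | inv a ha iha => exact ⟨by rw [← mul_inv_rev, iha.1, inv_one], fun x hx => (iha.2 x hx).inv_left⟩
    rw [pow_two, key.1]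
  have hzN : c.z ∈ N := subset_closure ⟨c.z, 0, rfl, P.memW_z.mpr P.z_mem⟩
  have mk : ∀ g : G, (∀ p n, P.Dist n c.z p → ∃ m, P.Dist m c.z (g * p * g⁻¹)) → g ∈ normalizer (N : Set G) := by
    intro g hg
    refine Cfg.mem_normalizer_of_conj fun x hx => ?_
    have hle : N ≤ N.comap (MulAut.conj g).toMonoidHom := by
      refine (closure_le _).mpr ?_
      rintro y ⟨p, n, hp, hy⟩
      obtain ⟨m, hm⟩ := hg p n hp
      exact subset_closure ⟨_, m, hm, P.memW_conj g hy⟩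
    exact hle hx
  have hC : c.C ≤ normalizer (N : Set G) := fun g hg => mk g fun p n hp => ⟨n, by
    have := P.dist_conj g n hp
    rwa [c.conj_z hg] at this⟩
  obtain ⟨j, hjz, hje⟩ := P.exists_h hΩ
  have hj : j ∈ normalizer (N : Set G) := mk j fun p n hp => ⟨n + 1, by
    have := P.dist_conj j n hp
    rw [hjz] at this
    exact P.dist_cons n ⟨P.memW_z.mpr P.e_mem, P.e_ne_z, P.e_ne_one⟩ this⟩
  refine ⟨normalizer (N : Set G), P.hS, P.hS.trans hC, hC c.u_mem_C, fun hle => ?_, le_core2 le_normalizer le_rfl hN2 hzN, P.small⟩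
  have h3 := c.conj_z (hle hj)
  rw [hjz] at h3
  exact P.e_ne_z h3

include P in
/-- If `u` normalises the Sylow subgroup there is no local overgroup. -/
theorem no_local (hΩ : OmegaZ c S) (hu : c.u ∈ normalizer ((S : Subgroup G) : Set G)) {L : Subgroup G}
    (h : LHyp c S L) : False := by
  have h8 := h.nrm hu
  have hWS : P.W = (S : Subgroup G) := eq_of_le_of_card_ge (P.W_le.trans P.T_le) (h8.le.trans P.W_card)
  exact P.e_ne_z (hΩ _ P.e_mem_S P.orderOf_e fun x hx => P.W_comm (hWS ▸ hx) P.e_mem)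

end Geo

end Cfsg.Agent.Invol.CentSix
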