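import Cfsg.Agent.Lib.Invol.CentSix.Geo
import Cfsg.Agent.Lib.Invol.CentSix.AltU

/-!
# The shape with the alternating group: the centre of the Sylow subgroup has another involution
-/

set_option autoImplicit false
set_option linter.style.haveILetI false

namespace Cfsg.Agent.Invol.CentSix

open Subgroup

namespace Geo

variable {G : Type*} [Group G] [Finite G] {c : Cfg G} {S : Sylow 2 G} (P : Geo c S)

theorem mem_S_near (hΩ : OmegaZ c S) {x : G} (hx : P.MemW P.e x) : x ∈ (S : Subgroup G) ∧ Commute x P.e := by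
  obtain ⟨j, hjz, -⟩ := P.exists_h hΩ
  have hc : Commute x P.e := P.memW_comm hx (P.memW_self hjz)
  exact ⟨P.mem_S_of_comm (c.mem_C.mpr (P.memW_comm hx (P.coll_e hΩ).1)) hc, hc⟩

theorem mem_S_near2 (hΩ : OmegaZ c S) (h1 : P.Near) {p x : G} (hp : P.Coll p P.e) (hx : P.MemW p x) :
    x ∈ (S : Subgroup G) ∧ Commute x P.e := by
  have hc : Commute x P.e := P.memW_comm hx hp.1
  exact ⟨P.mem_S_of_comm (c.mem_C.mpr (P.comm_of_coll hΩ h1 hp hx (P.coll_e hΩ).1)) hc, hc⟩

end Geo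

namespace Cfg

namespace AltShape

variable {G : Type*} [Group G] [Finite G] {c : Cfg G} {d : c.AltShape}

namespace UAlt

variable {D : d.SData} (Q : UAlt D)

/-- The geometry of the shape. -/
noncomputable def geo : Geo c D.S where
  T := d.T
  W := Q.W
  e := Q.a
  hS := D.le
  T_le := D.T_le
  T_normal := d.T_normal
  W_le := Q.W_le
  W_normal := Q.W_normal
  z_mem := Q.z_mem_W
  W_card := by rw [Q.card_W]; norm_num
  W_sq := fun _ => Q.W_sq
  W_T := fun w hw t ht => (Q.W_inY w hw).2.2 t ht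
  e_mem := Q.U_le_W Q.a_mem
  e_notMem := Q.a_notMem
  fixed := fun s hs => by
    have h1 := inv_mem ((Q.inY _ Q.a_mem).2.2 s hs)
    rwa [show (Q.a * s * Q.a⁻¹ * s⁻¹)⁻¹ = s * Q.a * s⁻¹ * Q.a⁻¹ by group] at h1
  fix := fun _ => Q.fix_mem
  trans := fun _ => Q.trans
  core := fun _ => d.core
  small := fun _ hS hu hK _ hN hn h3 => D.small hS hu hK hN hn h3

include Q in
theorem no_omega (hΩ : OmegaZ c D.S) : False := by
  classical
  set P := Q.geo
  obtain ⟨j, hjz, hje⟩ := P.exists_h hΩ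
  obtain ⟨g, hge, hgz⟩ := P.exists_move hΩ
  obtain ⟨s, hs, hse⟩ := P.exists_swap hΩ
  by_cases h1 : P.Near
  · have h2 : P.Near2 := by
      intro p x hp hx
      by_contra hxT
      obtain ⟨hxS, hxe⟩ := P.mem_S_near2 hΩ h1 hp hx
      have hxC := D.le hxS
      refine Q.move hxC (IsTwo.of_mem D.S.2 hxS) hxT P.e_mem_C (by rw [P.e_sq]; exact one_mem _) fun w hw => ?_
      have he2 : ∀ {v : G}, P.MemW c.z v → j⁻¹ * v * j ∈ d.T := fun hv =>
        (P.memT_iff hjz).mp (P.memT_of_coll hΩ h1 (P.coll_e hΩ) hv)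
      have hx' : j⁻¹ * x * j ∈ d.T :=
        (P.memT_iff hjz).mp (P.memT_of_coll hΩ h1 (P.coll_symm hΩ hp) hx)
      have h3 := d.comm_T hx' (he2 (P.memW_z.mpr hw))
      rw [show j⁻¹ * x * j * (j⁻¹ * w * j) * (j⁻¹ * x * j)⁻¹ * (j⁻¹ * w * j)⁻¹ = j⁻¹ * (x * w * x⁻¹ * w⁻¹) * j by
        group] at h3
      rcases c.mem_Z2.mp h3 with e | e
      · rw [show x * w * x⁻¹ * w⁻¹ = j * (j⁻¹ * (x * w * x⁻¹ * w⁻¹) * j) * j⁻¹ by group, e, mul_one, mul_inv_cancel]
        exact one_mem _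
      · rw [show x * w * x⁻¹ * w⁻¹ = j * (j⁻¹ * (x * w * x⁻¹ * w⁻¹) * j) * j⁻¹ by group, e, hjz]
        exact mem_sup_right (mem_zpowers _)
    obtain ⟨L, hL⟩ := P.exists_local hΩ h1 h2
    exact P.no_local hΩ D.u_mem hL
  · simp only [Geo.Near, not_forall] at h1
    obtain ⟨x, hx, hxT⟩ := h1
    obtain ⟨hxS, hxe⟩ := P.mem_S_near hΩ hx
    have hxC := D.le hxS
    -- `U` is the intersection with the conjugate belonging to `e`
    let We : Subgroup G := P.W.map (MulAut.conj j).toMonoidHom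
    have hWe : ∀ v, v ∈ We ↔ P.MemW P.e v := fun v => by
      rw [P.memW_iff hjz]
      constructor
      · rintro ⟨w, hw, rfl⟩
        simpa [mul_assoc] using hw
      · intro hv
        refine ⟨_, hv, ?_⟩
        show j * (j⁻¹ * v * j) * j⁻¹ = v
        group
    have hzWe : c.z ∈ We := (hWe _).mpr (P.coll_e hΩ).1
    have hcomm : ∀ p ∈ Q.W, x * p * x⁻¹ * p⁻¹ ∈ Q.U ⊓ We := fun p hp => by
      refine ⟨Q.comm_mem_U hxS hxT hp, (hWe _).mpr ?_⟩
      rw [show x * p * x⁻¹ * p⁻¹ = x * (p * x⁻¹ * p⁻¹) by group]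
      exact P.memW_mul hx (P.memW_conj_self (P.W_comm hp P.e_mem) (P.memW_inv hx))
    obtain ⟨p, hp, q, hq, hp', hq', hpq'⟩ := Q.gen hxS hxT
    have hUWe : Q.U ≤ We := by
      set a := x * p * x⁻¹ * p⁻¹
      set b := x * q * x⁻¹ * q⁻¹
      have haI := hcomm p hp
      have hbI := hcomm q hq
      have haC := Q.le_C haI.1
      have hbC := Q.le_C hbI.1
      have ha2 : a * a ∈ c.Z2 := by rw [Q.W_sq (Q.U_le_W haI.1)]; exact one_mem _
      have hbn : b ∈ normalizer ((c.Z2 ⊔ zpowers a : Subgroup G) : Set G) := Cfg.mem_normalizer_of_conj fun v hv => by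
        have hvW : v ∈ Q.W := (sup_le (zpowers_le.mpr Q.z_mem_W) (zpowers_le.mpr (Q.U_le_W haI.1)) : _ ≤ Q.W) hv
        rw [(Q.W_comm (Q.U_le_W hbI.1) hvW).eq, mul_inv_cancel_right]; exact hv
      have hb2 : b * b ∈ c.Z2 ⊔ zpowers a := by rw [Q.W_sq (Q.U_le_W hbI.1)]; exact one_mem _
      have hbM : b ∉ c.Z2 ⊔ zpowers a := fun h => by
        rcases (Cfg.mem_Z2_sup haC ha2).mp h with h' | h'
        · exact hq' h'
        · refine hpq' ?_
          rwa [inv_eq_of_mul_eq_one_left (Q.W_sq (Q.U_le_W haI.1))] at h'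
      have h8 : Nat.card ↥(c.Z2 ⊔ zpowers a ⊔ zpowers b) = 8 := by
        rw [card_sup_two hbn hb2 hbM, card_sup_two (c.Z2_normal haC) ha2 hp', c.card_Z2]
      have hle : c.Z2 ⊔ zpowers a ⊔ zpowers b ≤ Q.U ⊓ We := sup_le (sup_le
        (zpowers_le.mpr ⟨Q.z_mem, hzWe⟩) (zpowers_le.mpr haI)) (zpowers_le.mpr hbI)
      have := eq_of_le_of_card_ge (inf_le_left : Q.U ⊓ We ≤ Q.U)
        (by rw [Q.card, ← h8]; exact card_le_of_le hle)
      exact this ▸ inf_le_right
    have hinfU : ∀ v ∈ Q.W, P.MemW P.e v → v ∈ Q.U := fun v hv hve => Q.fixed_mem_U hxS hxT hv (by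
      rw [(P.memW_comm hx hve).eq, mul_inv_cancel_right, mul_inv_cancel]; exact one_mem _)
    -- `U` lies in the conjugate belonging to the third involution
    have hUze : ∀ v ∈ Q.U, P.MemW (c.z * P.e) v := fun v hv => by
      have hv' : s⁻¹ * v * s ∈ Q.U := by
        have := (mem_normalizer_iff.mp (inv_mem (Q.S_norm hs)) v).mp hv
        rwa [inv_inv] at this
      have h := P.memW_conj s ((hWe _).mp (hUWe hv'))
      rwa [hse, show s * (s⁻¹ * v * s) * s⁻¹ = v by group] at h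
    have hgU : g ∈ normalizer (Q.U : Set G) := by
      have hgi : g⁻¹ ∈ normalizer (Q.U : Set G) := Cfg.mem_normalizer_of_conj fun v hv => by
        rw [inv_inv]
        refine hinfU _ (P.memW_z.mp (P.memW_unconj g ?_)) (P.memW_unconj g ?_)
        · rw [hgz]; exact hUze v hv
        · rw [hge]; exact (hWe v).mp (hUWe hv)
      have := inv_mem hgi
      rwa [inv_inv] at this
    have hU2 : IsPGroup 2 Q.U := D.S.2.to_le Q.le_S
    have hL : LHyp c D.S (normalizer (Q.U : Set G)) := ⟨D.le, Q.S_norm, Q.u_norm, fun hle => P.e_ne_one (by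
      have h3 := c.conj_z (hle hgU)
      rw [hgz] at h3
      simpa using h3), le_core2 le_normalizer le_rfl hU2 Q.z_mem, P.small⟩
    exact P.no_local hΩ D.u_mem hL

end UAlt

end AltShape

end Cfg

end Cfsg.Agent.Invol.CentSix
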