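import Cfsg.Agent.Lib.Invol.CentSix.Shapes
import Cfsg.Agent.Lib.Grp.Cores
import Cfsg.Agent.Lib.Grp.Frattini

/-!
# The soluble shape of the centraliser

The 2-part `T` and the part `K` of order prime to six of the nilpotent kernel.
-/

set_option autoImplicit false
set_option linter.style.haveILetI false

namespace Cfsg.Agent.Invol.CentSix

open Subgroup

theorem perm3_six : ∀ a : Equiv.Perm (Fin 3), a * a * a * a * a * a = 1 := by decide +kernel

theorem perm3_commutator : ∀ a s : Equiv.Perm (Fin 3), a * a = 1 → a ≠ 1 → s * s * s = 1 → s ≠ 1 →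
    a * s * a⁻¹ * s⁻¹ ≠ 1 ∧ (a * s * a⁻¹ * s⁻¹) * (a * s * a⁻¹ * s⁻¹) * (a * s * a⁻¹ * s⁻¹) = 1 ∧
      a * s * a⁻¹ = s⁻¹ := by
  decide +kernel

theorem perm3_unique_aux : ∀ a b : Equiv.Perm (Fin 3),
    (a * a = 1 ∧ a ≠ 1 ∧ b * b = 1 ∧ b ≠ 1 ∧ a * b * (a * b) = 1) → a = b := by
  decide +kernel

theorem perm3_unique (a b : Equiv.Perm (Fin 3)) (ha : a * a = 1) (ha1 : a ≠ 1) (hb : b * b = 1) (hb1 : b ≠ 1)
    (hab : a * b * (a * b) = 1) : a = b := perm3_unique_aux a b ⟨ha, ha1, hb, hb1, hab⟩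

theorem perm3_gen : ∀ a s : Equiv.Perm (Fin 3), s * s * s = 1 → s ≠ 1 → a * a = 1 → a ≠ 1 →
    ∀ x, x = 1 ∨ x = s ∨ x = s * s ∨ x = a ∨ x = s * a ∨ x = s * s * a := by
  decide +kernel

theorem perm3_rot : ∀ s x : Equiv.Perm (Fin 3), s * s * s = 1 → s ≠ 1 → x * x * x = 1 →
    x = 1 ∨ x = s ∨ x = s * s := by
  decide +kernel

variable {G : Type*} [Group G]

/-- A power coprime part. -/
theorem mem_of_pow_mem {M : Subgroup G} {x : G} {a b : ℕ} (hab : a.Coprime b) (ha : x ^ a ∈ M) (hb : x ^ b ∈ M) :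
    x ∈ M := by
  have h := Nat.gcd_eq_gcd_ab a b
  rw [hab] at h
  have e : x = (x ^ a) ^ Nat.gcdA a b * (x ^ b) ^ Nat.gcdB a b := by
    rw [← zpow_natCast, ← zpow_natCast, ← zpow_mul, ← zpow_mul, ← zpow_add, ← h, Nat.cast_one, zpow_one]
  rw [e]
  exact mul_mem (zpow_mem ha _) (zpow_mem hb _)

/-- Splitting an element by the 2-part of its order. -/
theorem exists_two_split [Finite G] (x : G) : ∃ k m : ℕ, Odd m ∧ orderOf x = 2 ^ k * m := by
  obtain ⟨k, m, hm, he⟩ := Nat.exists_eq_two_pow_mul_odd (orderOf_pos x).ne'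
  exact ⟨k, m, hm, he⟩

theorem isTwo_pow_odd [Finite G] (x : G) {k m : ℕ} (he : orderOf x = 2 ^ k * m) : IsTwo (x ^ m) := by
  have h : (x ^ m) ^ (2 ^ k) = 1 := by rw [← pow_mul, mul_comm, ← he, pow_orderOf_eq_one]
  obtain ⟨j, -, hj⟩ := (Nat.dvd_prime_pow Nat.prime_two).mp (orderOf_dvd_of_pow_eq_one h)
  exact ⟨j, hj⟩

namespace Cfg

variable {c : Cfg G}

theorem orderOf_uC (c : Cfg G) : orderOf c.uC = 3 := by
  rw [← Subgroup.orderOf_coe]; exact c.orderOf_u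

namespace SolvShape

variable (d : c.SolvShape)

/-- The kernel inside the group. -/
def incl : d.φ.ker →* G := c.C.subtype.comp d.φ.ker.subtype

theorem incl_injective : Function.Injective d.incl := (subtype_injective _).comp (subtype_injective _)

/-- The 2-part of the kernel. -/
def T : Subgroup G := (Cfsg.pCore 2 d.φ.ker).map d.incl

/-- The part of order prime to six. -/
def K : Subgroup G := (Cfsg.pPrimeCore 2 d.φ.ker).map d.incl

theorem phi_u_three : d.φ c.uC * d.φ c.uC * d.φ c.uC = 1 := by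
  rw [← map_mul, ← map_mul, show c.uC * c.uC * c.uC = 1 from Subtype.ext (mul_self_three c.orderOf_u), map_one]

theorem T_le : d.T ≤ c.C := by
  rintro _ ⟨x, -, rfl⟩; exact (x : c.C).2

theorem K_le : d.K ≤ c.C := by
  rintro _ ⟨x, -, rfl⟩; exact (x : c.C).2

theorem normal_map {M : Subgroup d.φ.ker} (hM : M.Characteristic) : c.C ≤ normalizer ((M.map d.incl : Subgroup G) : Set G) := by
  haveI : (M.map d.φ.ker.subtype).Normal := inferInstance
  intro g hg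
  rw [mem_normalizer_iff]
  have key : ∀ a (ha : a ∈ c.C), ∀ x ∈ M.map d.incl, a * x * a⁻¹ ∈ M.map d.incl := by
    rintro a ha _ ⟨x, hx, rfl⟩
    obtain ⟨y, hy, hy'⟩ := (inferInstance : (M.map d.φ.ker.subtype).Normal).conj_mem _
      (mem_map_of_mem _ hx) (⟨a, ha⟩ : c.C)
    exact ⟨y, hy, congrArg Subtype.val hy'⟩
  refine fun x => ⟨key g hg x, fun hx => ?_⟩
  have := key g⁻¹ (inv_mem hg) _ hx
  rwa [show g⁻¹ * (g * x * g⁻¹) * g⁻¹⁻¹ = x by group] at this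

theorem T_normal : c.C ≤ normalizer (d.T : Set G) := d.normal_map inferInstance

theorem K_normal : c.C ≤ normalizer (d.K : Set G) := d.normal_map inferInstance

variable [Finite G]

theorem T_isTwo : IsPGroup 2 d.T := Grp.pCore_isPGroup.map _

theorem ker_sylow_two : ∀ x : d.φ.ker, IsTwo x → x ∈ Cfsg.pCore 2 d.φ.ker := by
  haveI := Fact.mk Nat.prime_two
  haveI := d.nil
  intro x hx
  obtain ⟨k, hk⟩ := hx
  obtain ⟨P, hP⟩ := (IsPGroup.of_card (p := 2) (n := k) (G := zpowers x)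
    (by rw [Nat.card_zpowers, hk])).exists_le_sylow
  have hn : (P : Subgroup d.φ.ker).Normal := Grp.isNilpotent_iff_sylow_normal.mp d.nil 2 inferInstance P
  exact Grp.le_pCore hn P.2 (hP (mem_zpowers x))

theorem ker_odd : ∀ x : d.φ.ker, Odd (orderOf x) → x ∈ Cfsg.pPrimeCore 2 d.φ.ker := by
  haveI := d.nil
  set O := Cfsg.pPrimeCore 2 d.φ.ker
  haveI : O.Normal := Grp.pPrimeCore_isNormal
  intro x hx
  obtain ⟨k, hk⟩ : ∃ k, O.index = 2 ^ k := by
    refine ⟨_, Nat.eq_prime_pow_of_unique_prime_dvd O.index_ne_zero_of_finite fun {q} hq hqd => ?_⟩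
    by_contra hq2
    haveI := Fact.mk hq
    obtain ⟨P⟩ : Nonempty (Sylow q d.φ.ker) := inferInstance
    have hn : (P : Subgroup d.φ.ker).Normal := Grp.isNilpotent_iff_sylow_normal.mp d.nil q inferInstance P
    have hle : (P : Subgroup d.φ.ker) ≤ O := by
      refine Grp.le_pPrimeCore hn ?_
      obtain ⟨j, hj⟩ := IsPGroup.iff_card.mp P.2
      rw [hj]
      exact Nat.Coprime.pow_left j ((Nat.coprime_primes hq Nat.prime_two).mpr hq2)
    exact P.not_dvd_index (hqd.trans (index_dvd_of_le hle))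
  have h1 : x ^ (2 ^ k) ∈ O := by rw [← hk]; exact pow_index_mem O x
  have h2 : x ^ orderOf x ∈ O := by rw [pow_orderOf_eq_one]; exact one_mem _
  exact mem_of_pow_mem (Nat.Coprime.pow_left k (Nat.coprime_two_left.mpr hx)) h1 h2

theorem phi_invol_of_isTwo {x : c.C} (hx : IsTwo (x : G)) : d.φ x * d.φ x = 1 := by
  obtain ⟨k, hk⟩ := hx
  have h6 : d.φ x ^ 6 = 1 := by simpa [pow_succ] using perm3_six (d.φ x)
  have h2 : d.φ x ^ (2 ^ k) = 1 := by
    rw [← map_pow, show x ^ (2 ^ k) = 1 by rw [← hk, Subgroup.orderOf_coe, pow_orderOf_eq_one], map_one]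
  have hg : orderOf (d.φ x) ∣ Nat.gcd 6 (2 ^ k) :=
    Nat.dvd_gcd (orderOf_dvd_of_pow_eq_one h6) (orderOf_dvd_of_pow_eq_one h2)
  have : Nat.gcd 6 (2 ^ k) ∣ 2 := by
    refine Nat.Coprime.dvd_of_dvd_mul_left ?_ (show Nat.gcd 6 (2 ^ k) ∣ 3 * 2 from Nat.gcd_dvd_left _ _)
    exact Nat.Coprime.coprime_dvd_left (Nat.gcd_dvd_right _ _) (Nat.Coprime.pow_left k (by norm_num))
  rw [← pow_two]
  exact orderOf_dvd_iff_pow_eq_one.mp (hg.trans this)

theorem mem_T {x : G} : x ∈ d.T ↔ ∃ h : x ∈ c.C, d.φ ⟨x, h⟩ = 1 ∧ IsTwo x := by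
  constructor
  · rintro ⟨y, hy, rfl⟩
    exact ⟨(y : c.C).2, y.2, IsTwo.of_mem d.T_isTwo ⟨y, hy, rfl⟩⟩
  · rintro ⟨h, hφ, ⟨k, hk⟩⟩
    refine ⟨⟨⟨x, h⟩, hφ⟩, d.ker_sylow_two _ ⟨k, ?_⟩, rfl⟩
    rw [← Subgroup.orderOf_coe, ← Subgroup.orderOf_coe]; exact hk

theorem mem_K {x : G} : x ∈ d.K ↔ x ∈ c.C ∧ (orderOf x).Coprime 6 := by
  haveI := Fact.mk Nat.prime_two
  constructor
  · rintro ⟨y, hy, rfl⟩
    refine ⟨(y : c.C).2, ?_⟩
    rw [orderOf_injective _ d.incl_injective, show 6 = 2 * 3 by rfl]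
    refine Nat.Coprime.mul_right ?_ ?_
    · exact Grp.pPrimeCore_coprime.coprime_dvd_left (Subgroup.orderOf_dvd_natCard _ hy)
    · exact d.cop.coprime_dvd_left (_root_.orderOf_dvd_natCard y)
  · rintro ⟨h, h6⟩
    have hφ : d.φ ⟨x, h⟩ = 1 := by
      refine orderOf_eq_one_iff.mp (Nat.eq_one_of_dvd_coprimes h6
        ((orderOf_map_dvd d.φ _).trans (dvd_of_eq (by rw [← Subgroup.orderOf_coe]))) ?_)
      exact orderOf_dvd_of_pow_eq_one (by simpa [pow_succ] using perm3_six (d.φ ⟨x, h⟩))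
    refine ⟨⟨⟨x, h⟩, hφ⟩, d.ker_odd _ ?_, rfl⟩
    rw [← Subgroup.orderOf_coe, ← Subgroup.orderOf_coe, ← Nat.coprime_two_left]
    exact Nat.coprime_comm.mp (h6.coprime_dvd_right (by norm_num))

theorem T_comm_K {t k : G} (ht : t ∈ d.T) (hk : k ∈ d.K) : Commute t k := by
  haveI := Fact.mk Nat.prime_two
  haveI : (Cfsg.pPrimeCore 2 d.φ.ker).Normal := Grp.pPrimeCore_isNormal
  haveI : (Cfsg.pCore 2 d.φ.ker).Normal := Grp.pCore_isNormal
  obtain ⟨a, ha, rfl⟩ := ht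
  obtain ⟨b, hb, rfl⟩ := hk
  have hcop : (Nat.card (Cfsg.pCore 2 d.φ.ker)).Coprime (Nat.card (Cfsg.pPrimeCore 2 d.φ.ker)) := by
    obtain ⟨j, hj⟩ := IsPGroup.iff_card.mp (Grp.pCore_isPGroup (p := 2) (G := d.φ.ker))
    rw [hj]
    exact Nat.Coprime.pow_left j (Nat.coprime_comm.mp Grp.pPrimeCore_coprime)
  exact (Commute.map (show Commute a b from
    (mem_centralizer_iff.mp (Grp.commute_of_coprime_normal hcop ha) b hb).symm) d.incl)

theorem z_mem_T : c.z ∈ d.T := by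
  refine d.mem_T.mpr ⟨c.z_mem_C, ?_, c.isTwo_z⟩
  by_contra hne
  have hz2 : d.φ ⟨c.z, c.z_mem_C⟩ * d.φ ⟨c.z, c.z_mem_C⟩ = 1 := d.phi_invol_of_isTwo c.isTwo_z
  refine (perm3_commutator _ _ hz2 hne d.phi_u_three d.hu).1 ?_
  rw [← map_inv, ← map_inv, ← map_mul, ← map_mul, ← map_mul]
  rw [show (⟨c.z, c.z_mem_C⟩ : c.C) * c.uC * (⟨c.z, c.z_mem_C⟩ : c.C)⁻¹ * c.uC⁻¹ = 1 from Subtype.ext (by
    show c.z * c.u * c.z⁻¹ * c.u⁻¹ = 1
    rw [((c.comm_z c.u_mem_C).symm).eq, mul_inv_cancel_right, mul_inv_cancel]), map_one]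

theorem Z2_le_T : c.Z2 ≤ d.T := zpowers_le.mpr d.z_mem_T

theorem u_normalizes : c.u ∈ normalizer (d.T : Set G) := d.T_normal c.u_mem_C

theorem T_le_sylow {S : Sylow 2 G} (hS : (S : Subgroup G) ≤ c.C) : d.T ≤ (S : Subgroup G) := by
  haveI := Fact.mk Nat.prime_two
  exact S.3 (S.2.to_sup_of_normal_right' d.T_isTwo (hS.trans d.T_normal)) le_sup_left ▸ le_sup_right

theorem mem_T_of_phi {S : Sylow 2 G} (hS : (S : Subgroup G) ≤ c.C) {s : G} (hs : s ∈ (S : Subgroup G))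
    (h1 : d.φ ⟨s, hS hs⟩ = 1) : s ∈ d.T := d.mem_T.mpr ⟨hS hs, h1, IsTwo.of_mem S.2 hs⟩

/-- Elements of the Sylow subgroup outside `T` differ by an element of `T`. -/
theorem diff_mem_T {S : Sylow 2 G} (hS : (S : Subgroup G) ≤ c.C) {s w : G} (hs : s ∈ (S : Subgroup G))
    (hw : w ∈ (S : Subgroup G)) (hs' : s ∉ d.T) (hw' : w ∉ d.T) : w⁻¹ * s ∈ d.T := by
  have h1 := fun {x : G} (hx : x ∈ (S : Subgroup G)) => d.phi_invol_of_isTwo (x := ⟨x, hS hx⟩) (IsTwo.of_mem S.2 hx)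
  have hne := fun {x : G} (hx : x ∈ (S : Subgroup G)) (hx' : x ∉ d.T) (e : d.φ ⟨x, hS hx⟩ = 1) =>
    hx' (d.mem_T_of_phi hS hx e)
  have hp : d.φ ⟨w, hS hw⟩ * d.φ ⟨s, hS hs⟩ * (d.φ ⟨w, hS hw⟩ * d.φ ⟨s, hS hs⟩) = 1 := by
    rw [← map_mul]
    exact h1 (mul_mem hw hs)
  have he := perm3_unique _ _ (h1 hw) (hne hw hw') (h1 hs) (hne hs hs') hp
  refine d.mem_T_of_phi hS (mul_mem (inv_mem hw) hs) ?_
  show d.φ (⟨w, hS hw⟩⁻¹ * ⟨s, hS hs⟩) = 1
  rw [map_mul, map_inv, he, inv_mul_cancel]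

/-- The Sylow subgroup is at most twice as large as `T`. -/
theorem card_sylow_eq {S : Sylow 2 G} (hS : (S : Subgroup G) ≤ c.C) {w : G} (hw : w ∈ (S : Subgroup G))
    (hw' : w ∉ d.T) : Nat.card (S : Subgroup G) = 2 * Nat.card d.T := by
  classical
  have hidx : (d.T.subgroupOf (S : Subgroup G)).index = 2 := by
    refine index_eq_two_iff.mpr ⟨⟨w, hw⟩, fun x => ?_⟩
    simp only [mem_subgroupOf, coe_mul]
    by_cases hx : (x : G) ∈ d.T
    · exact Or.inr ⟨hx, fun h1 => hw' ((Subgroup.mul_mem_cancel_left _ hx).mp h1)⟩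
    · refine Or.inl ⟨?_, hx⟩
      have h1 := d.diff_mem_T hS x.2 (inv_mem hw) hx (fun h2 => hw' (inv_mem_iff.mp h2))
      rw [inv_inv] at h1
      have h2 := (mem_normalizer_iff.mp (d.T_normal (inv_mem (hS hw))) _).mp h1
      simpa [mul_assoc] using h2
  have h1 := (d.T.subgroupOf (S : Subgroup G)).card_mul_index
  rw [hidx, Nat.card_congr (subgroupOfEquivOfLe (d.T_le_sylow hS)).toEquiv] at h1
  omega

/-- A 2-subgroup of a Sylow subgroup normalised by `u` lies in `T`. -/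
theorem le_T_of_normalized {S : Sylow 2 G} (hS : (S : Subgroup G) ≤ c.C) {R : Subgroup G} (hR : R ≤ (S : Subgroup G))
    (hu : c.u ∈ normalizer (R : Set G)) : R ≤ d.T := by
  intro r hr
  by_contra hrT
  have hrC := hS (hR hr)
  have hm : r * (c.u * r⁻¹ * c.u⁻¹) ∈ R := mul_mem hr ((mem_normalizer_iff.mp hu _).mp (inv_mem hr))
  obtain ⟨h1, h3, -⟩ := perm3_commutator _ _ (d.phi_invol_of_isTwo (x := ⟨r, hrC⟩) (IsTwo.of_mem S.2 (hR hr)))
    (fun e => hrT (d.mem_T_of_phi hS (hR hr) e)) d.phi_u_three d.hu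
  have h2 := d.phi_invol_of_isTwo (x := ⟨_, hS (hR hm)⟩) (IsTwo.of_mem S.2 (hR hm))
  rw [show (⟨r * (c.u * r⁻¹ * c.u⁻¹), hS (hR hm)⟩ : c.C) = ⟨r, hrC⟩ * c.uC * (⟨r, hrC⟩ : c.C)⁻¹ * c.uC⁻¹ from
    Subtype.ext (by simp [Cfg.uC, mul_assoc]), map_mul, map_mul, map_mul, map_inv, map_inv] at h2
  rw [h2, one_mul] at h3
  exact h1 h3

/-- If the Sylow subgroup is `T`, then `u` normalises it. -/
theorem normalizes_of_le {S : Sylow 2 G} (hS : (S : Subgroup G) ≤ c.C) (h : (S : Subgroup G) ≤ d.T) :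
    c.u ∈ normalizer ((S : Subgroup G) : Set G) := by
  rw [le_antisymm h (d.T_le_sylow hS)]; exact d.u_normalizes

/-- `u` is fixed-point-free on `K` and has only `z` fixed in `T`. -/
theorem T_fixed {x : G} (hx : x ∈ d.T) (hxu : Commute x c.u) : x ∈ c.Z2 :=
  c.two_fixed c.u_mem_C c.orderOf_u (d.T_le hx) hxu (IsTwo.of_mem d.T_isTwo hx)

/-- A subgroup with `T`, `K`, `u` and the Sylow subgroup is the whole centraliser. -/
theorem eq_of_gen {S : Sylow 2 G} (hS : (S : Subgroup G) ≤ c.C) {M : Subgroup G} (hK : d.K ≤ M)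
    (hu : c.u ∈ M) (hSM : (S : Subgroup G) ≤ M) : c.C ≤ M := by
  classical
  haveI := Fact.mk Nat.prime_two
  intro x hx
  have hker : ∀ y : c.C, d.φ y = 1 → (y : G) ∈ M := by
    intro y hy
    obtain ⟨k, m, hm, he⟩ := exists_two_split (y : G)
    refine mem_of_pow_mem (a := 2 ^ k) (b := m) (Nat.Coprime.pow_left k (Nat.coprime_two_left.mpr hm)) ?_ ?_
    · refine hK (d.mem_K.mpr ⟨pow_mem y.2 _, ?_⟩)
      have hd : orderOf ((y : G) ^ 2 ^ k) ∣ m :=
        orderOf_dvd_of_pow_eq_one (by rw [← pow_mul, ← he, pow_orderOf_eq_one])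
      refine Nat.Coprime.coprime_dvd_left hd ?_
      rw [show 6 = 2 * 3 by rfl]
      refine Nat.Coprime.mul_right (Nat.coprime_two_right.mpr hm) ?_
      refine d.cop.coprime_dvd_left ((dvd_mul_left m (2 ^ k)).trans ?_)
      rw [← he, show orderOf (y : G) = orderOf (⟨y, hy⟩ : d.φ.ker) by rw [← Subgroup.orderOf_coe, ← Subgroup.orderOf_coe]]
      exact _root_.orderOf_dvd_natCard _
    · exact hSM (d.T_le_sylow hS (d.mem_T.mpr ⟨pow_mem y.2 _, by
        show d.φ (y ^ m) = 1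
        rw [map_pow, hy, one_pow], isTwo_pow_odd _ he⟩))
  obtain ⟨m, hm, hme⟩ : ∃ m : c.C, (m : G) ∈ M ∧ d.φ m = d.φ ⟨x, hx⟩ := by
    set s := d.φ c.uC
    by_cases hw : ∃ w : G, w ∈ (S : Subgroup G) ∧ w ∉ d.T
    · obtain ⟨w, hw, hw'⟩ := hw
      let W : c.C := ⟨w, hS hw⟩
      rcases perm3_gen (d.φ W) s d.phi_u_three d.hu (d.phi_invol_of_isTwo (IsTwo.of_mem S.2 hw))
        (fun e => hw' (d.mem_T_of_phi hS hw e)) (d.φ ⟨x, hx⟩) with e | e | e | e | e | e <;> rw [e]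
      · exact ⟨1, M.one_mem, map_one _⟩
      · exact ⟨c.uC, hu, rfl⟩
      · exact ⟨c.uC * c.uC, M.mul_mem hu hu, map_mul _ _ _⟩
      · exact ⟨W, hSM hw, rfl⟩
      · exact ⟨c.uC * W, M.mul_mem hu (hSM hw), map_mul _ _ _⟩
      · exact ⟨c.uC * c.uC * W, M.mul_mem (M.mul_mem hu hu) (hSM hw), by rw [map_mul, map_mul]⟩
    · have hx3 : d.φ ⟨x, hx⟩ * d.φ ⟨x, hx⟩ * d.φ ⟨x, hx⟩ = 1 := by
        obtain ⟨k, m, hm, he⟩ := exists_two_split x
        -- the 2-part of `x` is conjugate into the Sylow subgroup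
        have h2 := isTwo_pow_odd x he
        obtain ⟨j, hj⟩ := h2
        let y : c.C := ⟨x, hx⟩ ^ m
        have hy : orderOf y = 2 ^ j := by rw [← Subgroup.orderOf_coe]; exact hj
        obtain ⟨P, hP⟩ := (IsPGroup.of_card (p := 2) (n := j) (G := zpowers y)
          (by rw [Nat.card_zpowers, hy])).exists_le_sylow
        obtain ⟨g, hg⟩ := MulAction.exists_smul_eq c.C P (S.subtype hS)
        have h3 : g * y * g⁻¹ ∈ (S.subtype hS : Subgroup c.C) := by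
          rw [← hg, Sylow.coe_subgroup_smul, mem_pointwise_smul_iff_inv_smul_mem, ← map_inv]
          simpa [mul_assoc] using hP (mem_zpowers y)
        rw [Sylow.coe_subtype, mem_subgroupOf] at h3
        have h4 : d.φ (g * y * g⁻¹) = 1 := by
          by_contra hne
          refine hw ⟨_, h3, fun hT => hne ?_⟩
          obtain ⟨_, h5, -⟩ := d.mem_T.mp hT
          exact h5
        rw [map_mul, map_mul, map_inv, conj_eq_one_iff, map_pow] at h4
        have h6 : d.φ ⟨x, hx⟩ ^ 6 = 1 := by simpa [pow_succ] using perm3_six (d.φ ⟨x, hx⟩)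
        have hd : orderOf (d.φ ⟨x, hx⟩) ∣ 3 := by
          refine Nat.Coprime.dvd_of_dvd_mul_left ?_ (show _ ∣ 2 * 3 from orderOf_dvd_of_pow_eq_one h6)
          exact Nat.Coprime.coprime_dvd_left (orderOf_dvd_of_pow_eq_one h4) (Nat.coprime_two_right.mpr hm)
        have h7 := orderOf_dvd_iff_pow_eq_one.mp hd
        rwa [pow_succ, pow_two] at h7
      rcases perm3_rot s _ d.phi_u_three d.hu hx3 with e | e | e <;> rw [e]
      · exact ⟨1, M.one_mem, map_one _⟩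
      · exact ⟨c.uC, hu, rfl⟩
      · exact ⟨c.uC * c.uC, M.mul_mem hu hu, map_mul _ _ _⟩
  have h8 := hker (m⁻¹ * ⟨x, hx⟩) (by rw [map_mul, map_inv, hme, inv_mul_cancel])
  have h9 := mul_mem hm h8
  simpa using h9

/-- With `K` trivial the centraliser has no element of other order than six-smooth ones. -/
theorem isTwo_of_no_three (hK : d.K = ⊥) {N : Subgroup G} (hN : N ≤ c.C) (h3 : ∀ a ∈ N, orderOf a ≠ 3)
    {x : G} (hx : x ∈ N) : IsTwo x := by
  obtain ⟨k, m, hm, he⟩ := exists_two_split x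
  have h3m : ¬ 3 ∣ m := by
    intro hd
    refine h3 _ (pow_mem hx (orderOf x / 3)) (orderOf_pow_orderOf_div (orderOf_pos x).ne' ?_)
    rw [he]; exact hd.mul_left _
  have h1 : x ^ 2 ^ k ∈ d.K := by
    refine d.mem_K.mpr ⟨pow_mem (hN hx) _, ?_⟩
    have hd : orderOf (x ^ 2 ^ k) ∣ m := orderOf_dvd_of_pow_eq_one (by rw [← pow_mul, ← he, pow_orderOf_eq_one])
    refine Nat.Coprime.coprime_dvd_left hd ?_
    rw [show 6 = 2 * 3 by rfl]
    exact Nat.Coprime.mul_right (Nat.coprime_two_right.mpr hm)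
      (Nat.coprime_comm.mp (Nat.prime_three.coprime_iff_not_dvd.mpr h3m))
  rw [hK, mem_bot] at h1
  obtain ⟨j, -, hj⟩ := (Nat.dvd_prime_pow Nat.prime_two).mp (orderOf_dvd_of_pow_eq_one h1)
  exact ⟨j, hj⟩

/-- With `K` trivial a normal subgroup without elements of order three lies in `T`. -/
theorem le_T_of_no_three (hK : d.K = ⊥) {N : Subgroup G} (hN : N ≤ c.C) (hn : c.C ≤ normalizer (N : Set G))
    (h3 : ∀ a ∈ N, orderOf a ≠ 3) : N ≤ d.T := by
  intro r hr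
  refine d.mem_T.mpr ⟨hN hr, ?_, d.isTwo_of_no_three hK hN h3 hr⟩
  by_contra hne
  have hm : r * (c.u * r⁻¹ * c.u⁻¹) ∈ N := mul_mem hr ((mem_normalizer_iff.mp (hn c.u_mem_C) _).mp (inv_mem hr))
  obtain ⟨h1, h3', -⟩ := perm3_commutator _ _
    (d.phi_invol_of_isTwo (x := ⟨r, hN hr⟩) (d.isTwo_of_no_three hK hN h3 hr)) hne d.phi_u_three d.hu
  have h2 := d.phi_invol_of_isTwo (x := ⟨_, hN hm⟩) (d.isTwo_of_no_three hK hN h3 hm)
  rw [show (⟨r * (c.u * r⁻¹ * c.u⁻¹), hN hm⟩ : c.C) = ⟨r, hN hr⟩ * c.uC * (⟨r, hN hr⟩ : c.C)⁻¹ * c.uC⁻¹ from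
    Subtype.ext (by simp [Cfg.uC, mul_assoc]), map_mul, map_mul, map_mul, map_inv, map_inv] at h2
  rw [h2, one_mul] at h3'
  exact h1 h3'

end SolvShape

end Cfg

end Cfsg.Agent.Invol.CentSix
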