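import Cfsg.Agent.Lib.Invol.CentSix.GeoAlt
import Cfsg.Agent.Lib.Invol.CentSix.Solv

/-!
# The soluble shape when `z` spans the central involutions: `T` has order 32
-/

set_option autoImplicit false
set_option linter.style.haveILetI false

namespace Cfsg.Agent.Invol.CentSix

open Subgroup

namespace Cfg

namespace SolvShape

variable {G : Type*} [Group G] [Finite G] {c : Cfg G} {d : c.SolvShape} {S : Sylow 2 G}

namespace UData

variable (D : d.UData S)

theorem U_comm {x y : G} (hx : x ∈ D.U) (hy : y ∈ D.U) : Commute x y := by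
  have h := D.sq _ (mul_mem hx hy)
  show x * y = y * x
  rw [eq_inv_of_mul_eq_one_left h, mul_inv_rev, inv_eq_of_mul_eq_one_left (D.sq x hx),
    inv_eq_of_mul_eq_one_left (D.sq y hy)]

theorem U_le_C : D.U ≤ c.C := D.le.trans d.T_le

theorem U_conj {g x : G} (hg : g ∈ c.C) (hx : x ∈ D.U) : g * x * g⁻¹ ∈ D.U :=
  (mem_normalizer_iff.mp (D.normal hg) x).mp hx

/-- Every element outside `⟨z⟩` is a conjugate of the vector under a power of `u`, modulo `z`. -/
theorem cases {x : G} (hx : x ∈ D.U) : x ∈ c.Z2 ∨ D.e⁻¹ * x ∈ c.Z2 ∨ (c.u * D.e * c.u⁻¹)⁻¹ * x ∈ c.Z2 ∨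
    (c.u * c.u * D.e * (c.u * c.u)⁻¹)⁻¹ * x ∈ c.Z2 := by
  set e := D.e
  set b := c.u * e * c.u⁻¹ with hb
  set c'' := c.u * c.u * e * (c.u * c.u)⁻¹ with hc''
  have heU := D.e_mem
  have heC := D.U_le_C heU
  have he2 : e * e ∈ c.Z2 := by rw [D.sq e heU]; exact one_mem _
  have hbU : b ∈ D.U := D.U_conj c.u_mem_C heU
  have hbM : b ∉ c.Z2 ⊔ zpowers e := fun h => by
    rcases (mem_Z2_sup heC he2).mp h with h1 | h1
    · exact D.e_notMem ((mem_normalizer_iff.mp (c.Z2_normal c.u_mem_C) e).mpr h1)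
    · exact D.e_notMem (moved_mod d.T_le d.T_isTwo d.z_mem_T c.u_mem_C c.orderOf_u (D.le heU) h1)
  have hMU : c.Z2 ⊔ zpowers e ≤ D.U := sup_le (zpowers_le.mpr D.z_mem) (zpowers_le.mpr heU)
  have hbn : b ∈ normalizer ((c.Z2 ⊔ zpowers e : Subgroup G) : Set G) := mem_normalizer_of_conj fun v hv => by
    rw [(D.U_comm hbU (hMU hv)).eq, mul_inv_cancel_right]; exact hv
  have hb2 : b * b ∈ c.Z2 ⊔ zpowers e := by rw [D.sq b hbU]; exact one_mem _
  have heq : c.Z2 ⊔ zpowers e ⊔ zpowers b = D.U := eq_of_le_of_card_ge (sup_le hMU (zpowers_le.mpr hbU)) (by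
    rw [card_sup_two hbn hb2 hbM, card_sup_two (c.Z2_normal heC) he2 D.e_notMem, c.card_Z2, D.card])
  rw [← heq] at hx
  rcases (mem_sup_two hbn hb2).mp hx with h | h
  · exact ((mem_Z2_sup heC he2).mp h).imp id Or.inl
  · rcases (mem_Z2_sup heC he2).mp h with h1 | h1
    · exact Or.inr (Or.inr (Or.inl h1))
    · refine Or.inr (Or.inr (Or.inr ?_))
      have hprod : e * b * c'' ∈ c.Z2 :=
        c.orbit_prod d.T_le d.T_isTwo d.z_mem_T c.u_mem_C c.orderOf_u d.u_normalizes (D.le heU)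
      have h2 : c''⁻¹ * x = (e * b * c'')⁻¹ * (e * (b * b) * e) * (e⁻¹ * (b⁻¹ * x)) := by group
      rw [h2, D.sq b hbU, mul_one, D.sq e heU, mul_one]
      exact mul_mem (inv_mem hprod) h1

/-- The geometry of the soluble shape. -/
def geo (hS : (S : Subgroup G) ≤ c.C) (hK : d.K = ⊥) : Geo c S where
  T := d.T
  W := D.U
  e := D.e
  hS := hS
  T_le := d.T_le_sylow hS
  T_normal := d.T_normal
  W_le := D.le
  W_normal := D.normal
  z_mem := D.z_mem
  W_card := le_of_eq D.card.symm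
  W_sq := D.sq
  W_T := D.comm
  e_mem := D.e_mem
  e_notMem := D.e_notMem
  fixed := D.fixed
  fix := fun x hx h => by
    let M : Subgroup G :=
      { carrier := {x | x ∈ c.C ∧ x * D.e * x⁻¹ * D.e⁻¹ ∈ c.Z2}
        one_mem' := ⟨one_mem _, by simp⟩
        mul_mem' := fun {a b} ha hb => ⟨mul_mem ha.1 hb.1, by
          have h1 := mul_mem ((mem_normalizer_iff.mp (c.Z2_normal ha.1) _).mp hb.2) ha.2
          rwa [show a * (b * D.e * b⁻¹ * D.e⁻¹) * a⁻¹ * (a * D.e * a⁻¹ * D.e⁻¹)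
            = a * b * D.e * (a * b)⁻¹ * D.e⁻¹ by group] at h1⟩
        inv_mem' := fun {a} ha => ⟨inv_mem ha.1, by
          have h1 := (mem_normalizer_iff.mp (c.Z2_normal (inv_mem ha.1)) _).mp (inv_mem ha.2)
          rwa [show a⁻¹ * (a * D.e * a⁻¹ * D.e⁻¹)⁻¹ * a⁻¹⁻¹ = a⁻¹ * D.e * a⁻¹⁻¹ * D.e⁻¹ by group] at h1⟩ }
    have hM3 : ∀ a ∈ M, orderOf a ≠ 3 := fun a ha ha3 => by
      refine D.e_notMem (moved_mod d.T_le d.T_isTwo d.z_mem_T ha.1 ha3 (D.le D.e_mem) ?_)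
      have h2 := (mem_normalizer_iff.mp (c.Z2_normal (inv_mem (D.U_le_C D.e_mem))) _).mp ha.2
      rwa [inv_inv, show D.e⁻¹ * (a * D.e * a⁻¹ * D.e⁻¹) * D.e = D.e⁻¹ * (a * D.e * a⁻¹) by group] at h2
    have hM2 : IsPGroup 2 M :=
      isPGroup_of_isTwo fun y hy => d.isTwo_of_no_three hK (N := M) (fun a ha => ha.1) hM3 hy
    have := S.3 hM2 (fun s hs => ⟨hS hs, D.fixed s hs⟩)
    exact this ▸ (⟨hx, h⟩ : x ∈ M)
  trans := fun x hx hxz => by
    rcases D.cases hx with h | h | h | h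
    · exact absurd h hxz
    · exact ⟨1, one_mem _, by simpa using h⟩
    · exact ⟨c.u, c.u_mem_C, h⟩
    · exact ⟨c.u * c.u, mul_mem c.u_mem_C c.u_mem_C, h⟩
  core := fun _ hN hn h3 => d.le_T_of_no_three hK hN hn h3
  small := fun _ _ _ hKC _ hN _ h3 =>
    isPGroup_of_isTwo fun _ hx => d.isTwo_of_no_three hK (hN.trans hKC) h3 hx

section

variable (hS : (S : Subgroup G) ≤ c.C) (hK : d.K = ⊥) (hΩ : OmegaZ c S)
include D hS hK hΩ

theorem exists_outside : ∃ w ∈ (S : Subgroup G), w ∉ d.T := by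
  by_contra hno
  push Not at hno
  set P := D.geo hS hK
  have hu := d.normalizes_of_le hS hno
  obtain ⟨L, hL⟩ := P.exists_local hΩ (fun x hx => hno x (P.mem_S_near hΩ hx).1) (fun p x hp hx => by
    have hc : Commute x P.e := P.memW_comm hx hp.1
    have h1 : P.Near := fun y hy => hno y (P.mem_S_near hΩ hy).1
    exact hno x (P.mem_S_near2 hΩ h1 hp hx).1)
  exact P.no_local hΩ hu hL

/-- A local overgroup fixes the order of `T`. -/
theorem local_card {L : Subgroup G} (hL : LHyp c S L) : Nat.card d.T = 32 := by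
  obtain ⟨w, hw, hwT⟩ := D.exists_outside hS hK hΩ
  exact (hL.out (d.T_le_sylow hS) (d.card_sylow_eq hS hw hwT) d.u_normalizes
    fun R hR hu => d.le_T_of_normalized hS hR hu).1

theorem not_central : ¬ ∀ x ∈ D.U, ∀ t ∈ d.T, Commute x t := by
  intro hcen
  obtain ⟨w, hw, hwT⟩ := D.exists_outside hS hK hΩ
  set P := D.geo hS hK
  obtain ⟨s, hs, hse⟩ := P.exists_swap hΩ
  have hDT : ∀ x ∈ (S : Subgroup G), Commute x D.e → x ∈ d.T := by
    intro x hx hxe
    by_contra hxT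
    have hs' : s ∉ d.T := fun h => by
      have hse' : s * D.e * s⁻¹ = c.z * D.e := hse
      rw [(hcen _ D.e_mem _ h).symm.eq, mul_inv_cancel_right] at hse'
      exact c.z_ne (mul_eq_right.mp hse'.symm)
    have h1 := d.diff_mem_T hS hs hx hs' hxT
    have h2 : Commute (x * (x⁻¹ * s)) D.e := hxe.mul_left (hcen _ D.e_mem _ h1).symm
    rw [mul_inv_cancel_left] at h2
    have hse' : s * D.e * s⁻¹ = c.z * D.e := hse
    rw [h2.eq, mul_inv_cancel_right] at hse'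
    exact c.z_ne (mul_eq_right.mp hse'.symm)
  obtain ⟨j, hjz, hje⟩ := P.exists_h hΩ
  have hj : j ∈ normalizer (d.T : Set G) := Cfg.mem_normalizer_of_conj fun x hx => by
    have h1 := (hcen _ D.e_mem _ hx).symm.map (MulAut.conj j).toMonoidHom
    have h2 := (c.comm_z (d.T_le hx)).map (MulAut.conj j).toMonoidHom
    simp only [MulEquiv.toMonoidHom_eq_coe, MonoidHom.coe_coe, MulAut.conj_apply] at h1 h2
    rw [show j * D.e * j⁻¹ = c.z from hje] at h1
    rw [show j * c.z * j⁻¹ = D.e from hjz] at h2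
    exact hDT _ (P.mem_S_of_comm (c.mem_C.mpr h1) h2) h2
  have hL : LHyp c S (normalizer (d.T : Set G)) := ⟨hS, hS.trans d.T_normal, d.u_normalizes, fun hle => P.e_ne_z (by
    have h3 := c.conj_z (hle hj)
    rw [hjz] at h3
    exact h3), le_core2 le_normalizer le_rfl d.T_isTwo d.z_mem_T, P.small⟩
  have hT2 := d.card_sylow_eq hS hw hwT
  have hpos : 0 < Nat.card d.T := Nat.card_pos
  have he : Nonempty (LHyp.Q (normalizer (d.T : Set G)) ≃*
      Matrix.ProjectiveSpecialLinearGroup (Fin 2) (ZMod 7)) := by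
    refine hL.trichotomy.resolve_left fun ⟨hSR, _⟩ => hwT ?_
    exact d.le_T_of_normalized hS le_rfl (hSR ▸ core2_normal _ hL.hu) hw
  obtain ⟨h8, -, -⟩ := hL.psl7_numbers (Classical.choice he)
  obtain ⟨⟨g, hd⟩, hRV⟩ := hL.psl7_data (Classical.choice he)
  have hTR := card_le_of_le (le_core2 le_normalizer le_rfl d.T_isTwo : d.T ≤ core2 (normalizer (d.T : Set G)))
  rw [hRV, hd.card] at h8 hTR
  omega

/-- Every vector outside `⟨z⟩` is moved by `T`. -/
theorem moved {x : G} (hx : x ∈ D.U) (hxz : x ∉ c.Z2) : ∃ t ∈ d.T, t * x * t⁻¹ = c.z * x := by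
  by_contra hno
  push Not at hno
  have hxc : ∀ t ∈ d.T, Commute x t := fun t ht => by
    rcases c.mem_Z2.mp (D.comm x hx t ht) with e | e
    · exact mul_inv_eq_iff_eq_mul.mp (mul_inv_eq_one.mp e)
    · refine absurd ?_ (hno t ht)
      rw [show t * x * t⁻¹ = (x * t * x⁻¹ * t⁻¹)⁻¹ * x by group, e, c.z_inv]
  refine D.not_central hS hK hΩ fun y hy t ht => ?_
  rcases c.mem_Z2.mp (D.comm y hy t ht) with e | e
  · exact mul_inv_eq_iff_eq_mul.mp (mul_inv_eq_one.mp e)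
  -- every vector outside `⟨z⟩` is a conjugate of the central one
  have key : ∀ {v : G}, v ∈ D.U → (∃ g ∈ c.C, ∃ m ∈ c.Z2, v = g * x * g⁻¹ * m) → ∀ t ∈ d.T, Commute v t := by
    rintro v - ⟨g, hg, m, hm, rfl⟩ t ht
    refine (Commute.mul_left ?_ (Z2_comm hm (d.T_le ht)))
    have ht' := (mem_normalizer_iff.mp (d.T_normal (inv_mem hg)) t).mp ht
    rw [inv_inv] at ht'
    have h1 := (hxc _ ht').map (MulAut.conj g).toMonoidHom
    simp only [MulEquiv.toMonoidHom_eq_coe, MonoidHom.coe_coe, MulAut.conj_apply] at h1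
    rwa [show g * (g⁻¹ * t * g) * g⁻¹ = t by group] at h1
  have conjOf : ∀ {v : G}, v ∈ D.U → v ∉ c.Z2 → ∃ g ∈ c.C, ∃ m ∈ c.Z2, v = g * D.e * g⁻¹ * m := fun {v} hv hvz => by
    obtain ⟨g, hg, h⟩ := (D.geo hS hK).trans v hv hvz
    exact ⟨g, hg, _, h, (mul_inv_cancel_left (g * D.e * g⁻¹) v).symm⟩
  have hyz : y ∉ c.Z2 := fun h => c.z_ne (by
    rw [← e, (Z2_comm h (d.T_le ht)).eq, mul_inv_cancel_right, mul_inv_cancel])
  obtain ⟨g1, hg1, m1, hm1, e1⟩ := conjOf hx hxz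
  obtain ⟨g2, hg2, m2, hm2, e2⟩ := conjOf hy hyz
  refine key hy ⟨g2 * g1⁻¹, mul_mem hg2 (inv_mem hg1), m1⁻¹ * m2, mul_mem (inv_mem hm1) hm2, ?_⟩ t ht
  have hgg : (g2 * g1⁻¹) * m1 * (g2 * g1⁻¹)⁻¹ = m1 := by
    rw [← (Z2_comm hm1 (mul_mem hg2 (inv_mem hg1))).eq, mul_inv_cancel_right]
  rw [e1, show g2 * g1⁻¹ * (g1 * D.e * g1⁻¹ * m1) * (g2 * g1⁻¹)⁻¹
    = g2 * D.e * g2⁻¹ * (g2 * g1⁻¹ * m1 * (g2 * g1⁻¹)⁻¹) by group, hgg, e2]
  group

theorem near2 (h1 : (D.geo hS hK).Near) : (D.geo hS hK).Near2 := by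
  set P := D.geo hS hK
  intro p x hp hx
  by_contra hxT
  obtain ⟨hxS, hxe⟩ := P.mem_S_near2 hΩ h1 hp hx
  have hxC := hS hxS
  obtain ⟨j, hjz, hje⟩ := P.exists_h hΩ
  have hpW : P.MemW P.e p := (P.coll_symm hΩ hp).1
  have hpz : p ≠ c.z := fun e => hxT (P.W_le (P.memW_z.mp (e ▸ hx)))
  have heze : P.Coll c.z (c.z * P.e) := ⟨P.memW_z.mpr (mul_mem P.z_mem P.e_mem),
    fun e => P.e_ne_one (mul_eq_left.mp e),
    fun e => P.e_ne_z (by rw [eq_inv_of_mul_eq_one_right e, c.z_inv])⟩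
  have hpze : p ≠ c.z * P.e := fun e => hxT (P.memT_z.mp (P.memT_of_coll hΩ h1 heze (e ▸ hx)))
  set p' := j⁻¹ * p * j with hp'
  have hp'U : p' ∈ D.U := (P.memW_iff hjz).mp hpW
  have hpp' : p = j * p' * j⁻¹ := by rw [hp']; group
  have hp'z : p' ∉ c.Z2 := fun h => by
    rcases c.mem_Z2.mp h with e | e
    · exact (P.coll_symm hΩ hp).2.2 (by rw [hpp', e]; group)
    · exact hp.2.1 (by rw [hpp', e, hjz])
  have hp'e : D.e⁻¹ * p' ∉ c.Z2 := fun h => by
    rcases c.mem_Z2.mp h with e | e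
    · exact hpz (by rw [hpp', ← inv_mul_eq_one.mp e]; exact hje)
    · refine hpze ?_
      rw [hpp', show p' = D.e * c.z by rw [← e, mul_inv_cancel_left],
        show j * (D.e * c.z) * j⁻¹ = j * D.e * j⁻¹ * (j * c.z * j⁻¹) by group, hjz, show j * D.e * j⁻¹ = c.z from hje]
  -- an element of order three in `C` moving the vector to `p'`
  obtain ⟨n, hn, hn3, hne⟩ : ∃ n ∈ c.C, orderOf n = 3 ∧ n * D.e * n⁻¹ = p' := by
    obtain ⟨t, ht, hte, htp⟩ : ∃ t ∈ d.T, t * D.e * t⁻¹ = D.e ∧ t * p' * t⁻¹ = c.z * p' := by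
      have hor : ∀ {t v : G}, t ∈ d.T → v ∈ D.U → t * v * t⁻¹ = v ∨ t * v * t⁻¹ = c.z * v := fun {t v} ht hv => by
        rcases c.mem_Z2.mp (inv_mem (D.comm v hv t ht)) with e | e <;>
          rw [show t * v * t⁻¹ = (v * t * v⁻¹ * t⁻¹)⁻¹ * v by group, e]
        · left; rw [one_mul]
        · right; rfl
      by_contra hno
      push Not at hno
      have hfix : ∀ t ∈ d.T, t * D.e * t⁻¹ = D.e → t * p' * t⁻¹ = p' := fun t ht h =>
        (hor ht hp'U).resolve_right (hno t ht h)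
      obtain ⟨t1, ht1, h11⟩ := D.moved hS hK hΩ hp'U hp'z
      obtain ⟨t0, ht0, h00⟩ := D.moved hS hK hΩ (mul_mem D.e_mem hp'U) (fun h => hp'e (by
        rwa [inv_eq_of_mul_eq_one_left (D.sq _ D.e_mem)]))
      have hzp : c.z * p' ≠ p' := fun e => c.z_ne (mul_eq_right.mp e)
      have ha : t1 * D.e * t1⁻¹ = c.z * D.e := (hor ht1 D.e_mem).resolve_left fun h => hzp (h11.symm.trans (hfix t1 ht1 h))
      rw [show t0 * (D.e * p') * t0⁻¹ = t0 * D.e * t0⁻¹ * (t0 * p' * t0⁻¹) by group] at h00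
      rcases hor ht0 D.e_mem with h | h
      · rw [h, hfix t0 ht0 h] at h00
        exact c.z_ne (mul_eq_right.mp h00.symm)
      · have h0p : t0 * p' * t0⁻¹ = p' := by
          rw [h, mul_assoc] at h00
          exact mul_left_cancel (mul_left_cancel h00)
        have hz1 : t1⁻¹ * c.z * t1 = c.z := by
          rw [mul_assoc, ← (c.comm_z (d.T_le ht1)).eq, inv_mul_cancel_left]
        have h3 : (t1⁻¹ * t0) * D.e * (t1⁻¹ * t0)⁻¹ = D.e := by
          rw [show (t1⁻¹ * t0) * D.e * (t1⁻¹ * t0)⁻¹ = t1⁻¹ * (t0 * D.e * t0⁻¹) * t1 by group, h, ← ha]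
          group
        have h4 := hfix _ (mul_mem (inv_mem ht1) ht0) h3
        rw [show (t1⁻¹ * t0) * p' * (t1⁻¹ * t0)⁻¹ = t1⁻¹ * (t0 * p' * t0⁻¹) * t1 by group, h0p] at h4
        refine hzp (h11.symm.trans ?_)
        conv_lhs => rw [← h4]
        group
    have build : ∀ n ∈ c.C, orderOf n = 3 → (n * D.e * n⁻¹)⁻¹ * p' ∈ c.Z2 →
        ∃ n ∈ c.C, orderOf n = 3 ∧ n * D.e * n⁻¹ = p' := by
      intro n hn hn3 h
      rcases c.mem_Z2.mp h with e | e
      · exact ⟨n, hn, hn3, inv_mul_eq_one.mp e⟩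
      · have htC := d.T_le ht
        refine ⟨t * n * t⁻¹, mul_mem (mul_mem htC hn) (inv_mem htC), (orderOf_conj t n).trans hn3, ?_⟩
        have h1 : t⁻¹ * D.e * t = D.e := by
          calc t⁻¹ * D.e * t = t⁻¹ * (t * D.e * t⁻¹) * t := by rw [hte]
            _ = D.e := by group
        have h2 : n * D.e * n⁻¹ = p' * c.z := by
          calc n * D.e * n⁻¹ = p' * ((n * D.e * n⁻¹)⁻¹ * p')⁻¹ := by group
            _ = p' * c.z := by rw [e, c.z_inv]
        calc t * n * t⁻¹ * D.e * (t * n * t⁻¹)⁻¹ = t * (n * (t⁻¹ * D.e * t) * n⁻¹) * t⁻¹ := by group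
          _ = t * p' * t⁻¹ * (t * c.z * t⁻¹) := by rw [h1, h2]; group
          _ = c.z * (p' * c.z) := by rw [htp, c.conj_z htC, mul_assoc]
          _ = p' := by rw [(c.comm_z (D.U_le_C hp'U)).eq, ← mul_assoc, c.z_sq, one_mul]
    rcases D.cases hp'U with h | h | h | h
    · exact absurd h hp'z
    · exact absurd h hp'e
    · exact build c.u c.u_mem_C c.orderOf_u h
    · refine build _ (mul_mem c.u_mem_C c.u_mem_C) (orderOf_eq_three ?_ ?_) h
      · rw [show c.u * c.u * (c.u * c.u) * (c.u * c.u) = c.u * c.u * c.u * (c.u * c.u * c.u) by group,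
          mul_self_three c.orderOf_u, one_mul]
      · intro e
        have h3 := mul_self_three c.orderOf_u
        rw [e, one_mul] at h3
        have := c.orderOf_u
        rw [h3, orderOf_one] at this
        omega
  set g := j * n * j⁻¹ with hg
  have hgz : g * c.z * g⁻¹ = p := by
    rw [hg, show j * n * j⁻¹ * c.z * (j * n * j⁻¹)⁻¹ = j * (n * (j⁻¹ * c.z * j) * n⁻¹) * j⁻¹ by group,
      show j⁻¹ * c.z * j = D.e by rw [← hje]; show j⁻¹ * (j * D.e * j⁻¹) * j = D.e; group, hne, ← hpp']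
  have hge : g * P.e * g⁻¹ = P.e := by
    rw [hg, show j * n * j⁻¹ * P.e * (j * n * j⁻¹)⁻¹ = j * (n * (j⁻¹ * P.e * j) * n⁻¹) * j⁻¹ by group,
      show j⁻¹ * P.e * j = c.z by rw [← hjz]; group, c.conj_z hn, hjz]
  have hself : ∀ w ∈ P.W, Commute w (g * w * g⁻¹) := fun w hw => by
    have h2 : j⁻¹ * w * j ∈ d.T :=
      (P.memT_iff hjz).mp (P.memT_of_coll hΩ h1 (P.coll_e hΩ) (P.memW_z.mpr hw))
    have h3 : j⁻¹ * w * j * (j⁻¹ * w * j) = 1 := by
      rw [show j⁻¹ * w * j * (j⁻¹ * w * j) = j⁻¹ * (w * w) * j by group, P.W_sq w hw]; group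
    have h4 := (c.comm_orbit d.T_le d.T_isTwo d.z_mem_T hn hn3 (d.T_normal hn) h2 h3).map (MulAut.conj j).toMonoidHom
    simp only [MulEquiv.toMonoidHom_eq_coe, MonoidHom.coe_coe, MulAut.conj_apply] at h4
    rwa [show j * (j⁻¹ * w * j) * j⁻¹ = w by group,
      show j * (n * (j⁻¹ * w * j) * n⁻¹) * j⁻¹ = g * w * g⁻¹ by rw [hg]; group] at h4
  have hgv : ∀ v ∈ P.W, P.MemW p (g * v * g⁻¹) := fun v hv => by
    have h := P.memW_conj g (P.memW_z.mpr hv)
    rwa [hgz] at h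
  set E : Subgroup G := c.Z2 ⊔ zpowers P.e with hE
  have hEW : E ≤ P.W := sup_le (zpowers_le.mpr P.z_mem) (zpowers_le.mpr P.e_mem)
  -- the vectors of `E` and their images commute with both conjugates
  have hmemE : ∀ {v : G}, v ∈ E → ∃ i k : ℕ, v = c.z ^ i * P.e ^ k := by
    intro v hv
    rcases (mem_Z2_sup P.e_mem_C (by rw [P.e_sq]; exact one_mem _)).mp hv with h | h
    · rcases c.mem_Z2.mp h with rfl | rfl
      · exact ⟨0, 0, by simp⟩
      · exact ⟨1, 0, by simp⟩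
    · rcases c.mem_Z2.mp h with e | e
      · exact ⟨0, 1, by rw [pow_zero, one_mul, pow_one, ← inv_mul_eq_one.mp e]⟩
      · refine ⟨1, 1, ?_⟩
        rw [pow_one, pow_one, P.comm_z_e.eq, ← e, mul_inv_cancel_left]
  have hE1 : ∀ v ∈ E, ∀ w ∈ P.W, Commute v (g * w * g⁻¹) := fun v hv w hw => by
    obtain ⟨i, k, rfl⟩ := hmemE hv
    exact (((P.comm_of_coll hΩ h1 hp (hgv w hw) (P.coll_e hΩ).1).symm).pow_left i).mul_left
      (((P.memW_comm hp.1 (hgv w hw))).pow_left k)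
  have hE2 : ∀ v ∈ E, ∀ w ∈ P.W, Commute (g * v * g⁻¹) w := fun v hv w hw => by
    obtain ⟨i, k, rfl⟩ := hmemE hv
    rw [show g * (c.z ^ i * P.e ^ k) * g⁻¹ = g * c.z ^ i * g⁻¹ * (g * P.e ^ k * g⁻¹) by group, ← conj_pow,
      ← conj_pow, hgz, hge]
    exact ((P.comm_of_coll hΩ h1 (P.coll_e hΩ) hpW (P.memW_z.mpr hw)).pow_left i).mul_left
      ((P.W_comm P.e_mem hw).pow_left k)
  obtain ⟨w, hw, hne'⟩ := P.exists_moved hxC hxT
  have hx' : g⁻¹ * x * g ∈ P.W := (P.memW_iff hgz).mp hx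
  suffices hcx : Commute x w from hne' (by rw [hcx.eq, mul_inv_cancel_right, mul_inv_cancel]; exact one_mem _)
  have hxg : x = g * (g⁻¹ * x * g) * g⁻¹ := by group
  by_cases hwE : w ∈ E
  · rw [hxg]; exact (hE1 w hwE _ hx').symm
  by_cases hxE : g⁻¹ * x * g ∈ E
  · rw [hxg]; exact hE2 _ hxE w hw
  have hwn : w ∈ normalizer (E : Set G) := Cfg.mem_normalizer_of_conj fun v hv => by
    rw [(P.W_comm hw (hEW hv)).eq, mul_inv_cancel_right]; exact hv
  have hw2 : w * w ∈ E := by rw [P.W_sq w hw]; exact one_mem _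
  have heq : E ⊔ zpowers w = P.W := eq_of_le_of_card_ge (sup_le hEW (zpowers_le.mpr hw)) (by
    rw [card_sup_two hwn hw2 hwE, hE, card_sup_two (c.Z2_normal P.e_mem_C)
      (by rw [P.e_sq]; exact one_mem _) P.e_notMem, c.card_Z2]
    exact le_of_eq D.card)
  have hv := ((mem_sup_two hwn hw2).mp (heq.symm ▸ hx')).resolve_left hxE
  rw [show x = g * w * g⁻¹ * (g * (w⁻¹ * (g⁻¹ * x * g)) * g⁻¹) by group]
  exact ((hself w hw).symm).mul_left (hE2 _ hv w hw)

/-- Without the first incidence property `T` has order 32 already. -/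
theorem card_of_not_near (h1 : ¬ (D.geo hS hK).Near) : Nat.card d.T = 32 := by
  classical
  haveI := Fact.mk Nat.prime_two
  set P := D.geo hS hK
  simp only [Geo.Near, not_forall] at h1
  obtain ⟨x, hx, hxT⟩ := h1
  obtain ⟨hxS, hxe⟩ := P.mem_S_near hΩ hx
  have hxC := hS hxS
  obtain ⟨j, hjz, hje⟩ := P.exists_h hΩ
  set E : Subgroup G := c.Z2 ⊔ zpowers P.e with hE
  have he2 : P.e * P.e ∈ c.Z2 := by rw [P.e_sq]; exact one_mem _
  have hEW : E ≤ P.W := sup_le (zpowers_le.mpr P.z_mem) (zpowers_le.mpr P.e_mem)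
  have hEj : ∀ {v : G}, j⁻¹ * v * j ∈ E → v ∈ E := fun {v} hv => by
    have hle : E ≤ E.comap (MulAut.conj j).toMonoidHom := by
      refine sup_le (zpowers_le.mpr ?_) (zpowers_le.mpr ?_)
      · show j * c.z * j⁻¹ ∈ E
        rw [hjz]; exact mem_sup_right (mem_zpowers _)
      · show j * P.e * j⁻¹ ∈ E
        rw [hje]; exact mem_sup_left c.z_mem_Z2
    have h := hle hv
    simpa [mul_assoc] using h
  have hx' : j⁻¹ * x * j ∈ P.W := (P.memW_iff hjz).mp hx
  have hx'E : j⁻¹ * x * j ∉ E := fun h => hxT ((hEW.trans P.W_le) (hEj h))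
  have hxn : j⁻¹ * x * j ∈ normalizer (E : Set G) := Cfg.mem_normalizer_of_conj fun v hv => by
    rw [(P.W_comm hx' (hEW hv)).eq, mul_inv_cancel_right]; exact hv
  have hx2 : j⁻¹ * x * j * (j⁻¹ * x * j) ∈ E := by rw [P.W_sq _ hx']; exact one_mem _
  have hWeq : E ⊔ zpowers (j⁻¹ * x * j) = P.W := eq_of_le_of_card_ge (sup_le hEW (zpowers_le.mpr hx')) (by
    rw [card_sup_two hxn hx2 hx'E, hE, card_sup_two (c.Z2_normal P.e_mem_C) he2 P.e_notMem, c.card_Z2]
    exact le_of_eq D.card)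
  have hWT : ∀ v, P.MemW P.e v → v ∈ d.T → v ∈ D.U := fun v hv hvT => by
    have h := (P.memW_iff hjz).mp hv
    rcases (mem_sup_two hxn hx2).mp (hWeq.symm ▸ h) with h' | h'
    · exact hEW (hEj h')
    · exfalso
      rw [show (j⁻¹ * x * j)⁻¹ * (j⁻¹ * v * j) = j⁻¹ * (x⁻¹ * v) * j by group] at h'
      have h2 : x⁻¹ * v ∈ d.T := (hEW.trans P.W_le) (hEj h')
      exact hxT (inv_mem_iff.mp ((Subgroup.mul_mem_cancel_right _ hvT).mp h2))
  set R := d.T ⊓ centralizer (D.U : Set G) with hR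
  have hmemR : ∀ {r : G}, r ∈ R ↔ r ∈ d.T ∧ ∀ v ∈ D.U, Commute r v := fun {r} => by
    rw [hR, mem_inf, mem_centralizer_iff]
    exact ⟨fun h => ⟨h.1, fun v hv => (h.2 v hv).symm⟩, fun h => ⟨h.1, fun v hv => (h.2 v hv).symm⟩⟩
  have hRn : ∀ g ∈ c.C, ∀ r ∈ R, g * r * g⁻¹ ∈ R := fun g hg r hr => by
    obtain ⟨hrT, hrU⟩ := hmemR.mp hr
    refine hmemR.mpr ⟨(mem_normalizer_iff.mp (d.T_normal hg) r).mp hrT, fun v hv => ?_⟩
    have h := (hrU _ (D.U_conj (inv_mem hg) hv)).map (MulAut.conj g).toMonoidHom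
    simp only [MulEquiv.toMonoidHom_eq_coe, MonoidHom.coe_coe, MulAut.conj_apply] at h
    rwa [show g * (g⁻¹ * v * g⁻¹⁻¹) * g⁻¹ = v by group] at h
  let M : Subgroup G :=
    { carrier := {a | a ∈ c.C ∧ ∀ r ∈ R, a * r * a⁻¹ * r⁻¹ ∈ D.U}
      one_mem' := ⟨one_mem _, fun r _ => by simp⟩
      mul_mem' := fun {a b} ha hb => ⟨mul_mem ha.1 hb.1, fun r hr => by
        have h1 := mul_mem (D.U_conj ha.1 (hb.2 r hr)) (ha.2 r hr)
        rwa [show a * (b * r * b⁻¹ * r⁻¹) * a⁻¹ * (a * r * a⁻¹ * r⁻¹) = a * b * r * (a * b)⁻¹ * r⁻¹ by group] at h1⟩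
      inv_mem' := fun {a} ha => ⟨inv_mem ha.1, fun r hr => by
        have h1 := D.U_conj (inv_mem ha.1) (inv_mem (ha.2 r hr))
        rwa [show a⁻¹ * (a * r * a⁻¹ * r⁻¹)⁻¹ * a⁻¹⁻¹ = a⁻¹ * r * a⁻¹⁻¹ * r⁻¹ by group] at h1⟩ }
  have hMn : c.C ≤ normalizer (M : Set G) := fun g hg => Cfg.mem_normalizer_of_conj fun a ha => by
    refine ⟨mul_mem (mul_mem hg ha.1) (inv_mem hg), fun r hr => ?_⟩
    have h1 := D.U_conj hg (ha.2 _ (hRn _ (inv_mem hg) r hr))
    rwa [show g * (a * (g⁻¹ * r * g⁻¹⁻¹) * a⁻¹ * (g⁻¹ * r * g⁻¹⁻¹)⁻¹) * g⁻¹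
      = g * a * g⁻¹ * r * (g * a * g⁻¹)⁻¹ * r⁻¹ by group] at h1
  have hxM : x ∈ M := ⟨hxC, fun r hr => by
    obtain ⟨hrT, hrU⟩ := hmemR.mp hr
    refine hWT _ ?_ (mul_mem ((mem_normalizer_iff.mp (d.T_normal hxC) r).mp hrT) (inv_mem hrT))
    rw [show x * r * x⁻¹ * r⁻¹ = x * (r * x⁻¹ * r⁻¹) by group]
    exact P.memW_mul hx (P.memW_conj_self (hrU _ D.e_mem) (P.memW_inv hx))⟩
  obtain ⟨a, haM, ha3⟩ : ∃ a ∈ M, orderOf a = 3 := by
    by_contra hno
    push Not at hno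
    exact hxT (P.core M (fun a ha => ha.1) hMn hno hxM)
  have hRU : ∀ r ∈ R, r ∈ D.U := by
    intro r hr
    obtain ⟨hrT, hrU⟩ := hmemR.mp hr
    have hU2 : IsPGroup 2 D.U := d.T_isTwo.to_le D.le
    have h1 : r⁻¹ * (a * r * a⁻¹) ∈ D.U := by
      have hcm := (hrU _ (haM.2 r hr)).inv_left
      rw [show r⁻¹ * (a * r * a⁻¹) = r⁻¹ * (a * r * a⁻¹ * r⁻¹) * r by group, hcm.eq, inv_mul_cancel_right]
      exact haM.2 r hr
    obtain ⟨m, hm, hc⟩ := exists_fixed_lift hU2 ha3 (D.normal haM.1) h1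
    have hrm : r * m ∈ d.T := mul_mem hrT (D.le hm)
    have h2 := c.two_fixed haM.1 ha3 (d.T_le hrm) hc (IsTwo.of_mem d.T_isTwo hrm)
    exact (Subgroup.mul_mem_cancel_right _ hm).mp ((zpowers_le.mpr D.z_mem : c.Z2 ≤ D.U) h2)
  -- upper bound
  set b := c.u * D.e * c.u⁻¹ with hb
  have hbU : b ∈ D.U := D.U_conj c.u_mem_C D.e_mem
  let U' := D.U.subgroupOf d.T
  let f : d.T ⧸ U' → Bool × Bool := fun q => (decide (Commute (q.out : G) D.e), decide (Commute (q.out : G) b))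
  have hf : Function.Injective f := by
    intro q q' hqq
    simp only [f, Prod.mk.injEq, decide_eq_decide] at hqq
    rw [← QuotientGroup.out_eq' q, ← QuotientGroup.out_eq' q', QuotientGroup.eq, mem_subgroupOf]
    simp only [coe_mul, coe_inv]
    set s := (q.out : G)
    set t := (q'.out : G)
    have hs : s ∈ d.T := q.out.2
    have ht : t ∈ d.T := q'.out.2
    have key : ∀ v ∈ D.U, (Commute s v ↔ Commute t v) → Commute (s⁻¹ * t) v := by
      intro v hv hiff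
      have hval : ∀ {t : G}, t ∈ d.T → t * v * t⁻¹ = if Commute t v then v else c.z * v := fun {t} ht => by
        split_ifs with h
        · rw [h.eq, mul_inv_cancel_right]
        · rcases c.mem_Z2.mp (inv_mem (D.comm v hv t ht)) with e | e
          · refine absurd (mul_inv_eq_iff_eq_mul.mp ?_) h
            rw [show t * v * t⁻¹ = (v * t * v⁻¹ * t⁻¹)⁻¹ * v by group, e, one_mul]
          · rw [show t * v * t⁻¹ = (v * t * v⁻¹ * t⁻¹)⁻¹ * v by group, e]
      refine mul_inv_eq_iff_eq_mul.mp ?_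
      have h2 : t * v * t⁻¹ = s * v * s⁻¹ := by
        rw [hval ht, hval hs]; simp only [hiff]
      calc s⁻¹ * t * v * (s⁻¹ * t)⁻¹ = s⁻¹ * (t * v * t⁻¹) * s := by group
        _ = v := by rw [h2]; group
    refine hRU _ (hmemR.mpr ⟨mul_mem (inv_mem hs) ht, fun v hv => ?_⟩)
    have hke := key _ D.e_mem hqq.1
    have hkb := key _ hbU hqq.2
    have hzc : ∀ {m : G}, m ∈ c.Z2 → Commute (s⁻¹ * t) m := fun hm =>
      (Z2_comm hm (d.T_le (mul_mem (inv_mem hs) ht))).symm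
    set c'' := c.u * c.u * D.e * (c.u * c.u)⁻¹ with hc''
    rcases D.cases hv with h | h | h | h
    · exact hzc h
    · rw [show v = D.e * (D.e⁻¹ * v) by group]; exact hke.mul_right (hzc h)
    · rw [show v = b * (b⁻¹ * v) by group]; exact hkb.mul_right (hzc h)
    · have hprod : D.e * b * c'' ∈ c.Z2 :=
        c.orbit_prod d.T_le d.T_isTwo d.z_mem_T c.u_mem_C c.orderOf_u d.u_normalizes (D.le D.e_mem)
      rw [show v = (D.e * b)⁻¹ * (D.e * b * c'') * (c''⁻¹ * v) by group]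
      exact ((hke.mul_right hkb).inv_right.mul_right (hzc hprod)).mul_right (hzc h)
  have hidx : U'.index ≤ 4 := by
    rw [index_eq_card]
    refine (Nat.card_le_card_of_injective f hf).trans ?_
    rw [Nat.card_eq_fintype_card]
    decide
  have hcard := U'.card_mul_index
  rw [Nat.card_congr (subgroupOfEquivOfLe D.le).toEquiv, D.card] at hcard
  obtain ⟨k, hk⟩ := IsPGroup.iff_card.mp d.T_isTwo
  have h1 : U'.index ≠ 1 := fun e => by
    have hTU : d.T ≤ D.U := subgroupOf_eq_top.mp (index_eq_one.mp e)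
    exact D.not_central hS hK hΩ fun y hy t ht => D.U_comm hy (hTU ht)
  have h2 : U'.index ≠ 2 := fun e => by
    obtain ⟨t, ht, htU⟩ : ∃ t ∈ d.T, t ∉ D.U := by
      by_contra hno
      push Not at hno
      exact h1 (index_eq_one.mpr (subgroupOf_eq_top.mpr hno))
    have hut : c.u * t * c.u⁻¹ ∈ d.T := (mem_normalizer_iff.mp d.u_normalizes t).mp ht
    have h3 := (mul_mem_iff_of_index_two e (a := (⟨t, ht⟩ : d.T)⁻¹) (b := ⟨_, hut⟩)).mpr (by
      simp only [inv_mem_iff, U', mem_subgroupOf]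
      exact iff_of_false htU fun h => htU ((mem_normalizer_iff.mp (D.normal c.u_mem_C) t).mpr h))
    simp only [U', mem_subgroupOf, coe_mul, coe_inv] at h3
    obtain ⟨m, hm, hc⟩ := exists_fixed_lift (d.T_isTwo.to_le D.le) c.orderOf_u (D.normal c.u_mem_C) h3
    have h4 := d.T_fixed (mul_mem ht (D.le hm)) hc
    exact htU ((Subgroup.mul_mem_cancel_right _ hm).mp ((zpowers_le.mpr D.z_mem : c.Z2 ≤ D.U) h4))
  have h3 : U'.index ≠ 3 := fun e => by
    rw [e, hk] at hcard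
    have h := Nat.prime_three.dvd_of_dvd_pow (Dvd.intro_left 8 hcard : 3 ∣ 2 ^ k)
    omega
  have h0 : U'.index ≠ 0 := index_ne_zero_of_finite
  interval_cases U'.index <;> omega

/-- With `z` the only central involution, `T` has order 32. -/
theorem card_T : Nat.card d.T = 32 := by
  by_cases h1 : (D.geo hS hK).Near
  · obtain ⟨L, hL⟩ := (D.geo hS hK).exists_local hΩ h1 (D.near2 hS hK hΩ h1)
    exact D.local_card hS hK hΩ hL
  · exact D.card_of_not_near hS hK hΩ h1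

end

end UData

end SolvShape

end Cfg

end Cfsg.Agent.Invol.CentSix
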