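import Cfsg.Agent.Lib.Invol.CentSix.Frob
import Cfsg.Agent.Lib.Grp.Cores
import Cfsg.Agent.Lib.Grp.Coprime
import Cfsg.Agent.S3331

/-!
# Overgroups of a Sylow 2-subgroup outside the centraliser: the setup

`R` is the largest normal 2-subgroup of `L`, `V` the normal closure of the involution in `L`. The quotient
`L/R` acts faithfully on `V` and has a self-centralising element of order three.
-/

set_option autoImplicit false
set_option linter.style.haveILetI false

namespace Cfsg.Agent.Invol.CentSix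

open Subgroup

variable {G : Type*} [Group G]

theorem exists_orderOf_three [Finite G] {K : Subgroup G} (h : 3 ∣ Nat.card K) : ∃ a ∈ K, orderOf a = 3 := by
  haveI := Fact.mk Nat.prime_three
  obtain ⟨a, ha⟩ := exists_prime_orderOf_dvd_card' (G := K) 3 h
  exact ⟨a, a.2, by rw [Subgroup.orderOf_coe, ha]⟩

/-- The largest normal 2-subgroup of a subgroup. -/
def core2 (L : Subgroup G) : Subgroup G := (Cfsg.pCore 2 L).map L.subtype

theorem core2_le (L : Subgroup G) : core2 L ≤ L := map_subtype_le _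

theorem core2_isTwo [Finite G] (L : Subgroup G) : IsPGroup 2 (core2 L) := Grp.pCore_isPGroup.map _

theorem core2_normal (L : Subgroup G) : L ≤ normalizer (core2 L : Set G) := by
  haveI : (Cfsg.pCore 2 L).Normal := Grp.pCore_isNormal
  intro l hl
  rw [mem_normalizer_iff]
  intro x
  constructor
  · rintro ⟨y, hy, rfl⟩
    exact ⟨(⟨l, hl⟩ : L) * y * (⟨l, hl⟩ : L)⁻¹, Normal.conj_mem inferInstance y hy _, rfl⟩
  · rintro ⟨y, hy, e⟩
    refine ⟨(⟨l, hl⟩ : L)⁻¹ * y * ((⟨l, hl⟩ : L)⁻¹)⁻¹, Normal.conj_mem inferInstance y hy _, ?_⟩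
    have e' : (y : G) = l * x * l⁻¹ := e
    simp [e', mul_assoc]

theorem le_core2 {L N : Subgroup G} (hN : N ≤ L) (hn : L ≤ normalizer (N : Set G)) (h2 : IsPGroup 2 N) :
    N ≤ core2 L := by
  intro x hx
  refine ⟨⟨x, hN hx⟩, ?_, rfl⟩
  exact Grp.le_pCore (normal_subgroupOf_of_le_normalizer hn)
    (h2.of_equiv (subgroupOfEquivOfLe hN).symm) (mem_subgroupOf.mpr hx)

theorem core2_le_sylow [Finite G] (S : Sylow 2 G) {L : Subgroup G} (hSL : (S : Subgroup G) ≤ L) :
    core2 L ≤ (S : Subgroup G) := by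
  haveI := Fact.mk Nat.prime_two
  rintro _ ⟨y, hy, rfl⟩
  exact mem_subgroupOf.mp (Sylow.coe_subtype (P := S) hSL ▸ Grp.pCore_le_sylow (S.subtype hSL) hy)

/-- An overgroup `L` of the Sylow subgroup `S`, not inside `C`, with `z` in its largest normal 2-subgroup. -/
structure LHyp (c : Cfg G) (S : Sylow 2 G) (L : Subgroup G) : Prop where
  hS : (S : Subgroup G) ≤ c.C
  hSL : (S : Subgroup G) ≤ L
  hu : c.u ∈ L
  notC : ¬ L ≤ c.C
  hz : c.z ∈ core2 L
  small : ∀ K : Subgroup G, (S : Subgroup G) ≤ K → c.u ∈ K → K ≤ c.C → ∀ N ≤ K, K ≤ normalizer (N : Set G) →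
    (∀ a ∈ N, orderOf a ≠ 3) → IsPGroup 2 N

/-- The normal closure of the involution. -/
def closV (c : Cfg G) (L : Subgroup G) : Subgroup G :=
  closure {x | ∃ l ∈ L, x = l * c.z * l⁻¹}

namespace LHyp

variable {c : Cfg G} {S : Sylow 2 G} {L : Subgroup G} (h : LHyp c S L)

include h

theorem z_conj_mem {l : G} (hl : l ∈ L) : l * c.z * l⁻¹ ∈ core2 L :=
  (mem_normalizer_iff.mp (core2_normal L hl) _).mp h.hz

theorem z_mem_L : c.z ∈ L := core2_le L h.hz

theorem conj_mem_V {l : G} (hl : l ∈ L) : l * c.z * l⁻¹ ∈ closV c L := subset_closure ⟨l, hl, rfl⟩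

theorem z_mem_V : c.z ∈ closV c L := by
  simpa using h.conj_mem_V (one_mem L)

theorem V_le_R : closV c L ≤ core2 L := (closure_le _).mpr (by rintro _ ⟨l, hl, rfl⟩; exact h.z_conj_mem hl)

theorem V_normal : L ≤ normalizer (closV c L : Set G) := by
  have key : ∀ l ∈ L, ∀ x ∈ closV c L, l * x * l⁻¹ ∈ closV c L := by
    intro l hl x hx
    induction hx using closure_induction with
    | mem x hx =>
      obtain ⟨m, hm, rfl⟩ := hx
      rw [show l * (m * c.z * m⁻¹) * l⁻¹ = l * m * c.z * (l * m)⁻¹ by group]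
      exact h.conj_mem_V (mul_mem hl hm)
    | one => simp
    | mul x y _ _ hx hy =>
      rw [show l * (x * y) * l⁻¹ = l * x * l⁻¹ * (l * y * l⁻¹) by group]
      exact mul_mem hx hy
    | inv x _ hx =>
      rw [show l * x⁻¹ * l⁻¹ = (l * x * l⁻¹)⁻¹ by group]
      exact inv_mem hx
  intro l hl
  rw [mem_normalizer_iff]
  refine fun x => ⟨key l hl x, fun hx => ?_⟩
  have := key l⁻¹ (inv_mem hl) _ hx
  rwa [show l⁻¹ * (l * x * l⁻¹) * l⁻¹⁻¹ = x by group] at this

variable [Finite G]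

theorem R_le_C : core2 L ≤ c.C := (core2_le_sylow S h.hSL).trans h.hS

theorem V_le_C : closV c L ≤ c.C := h.V_le_R.trans h.R_le_C

theorem V_comm_R {v r : G} (hv : v ∈ closV c L) (hr : r ∈ core2 L) : Commute v r := by
  suffices hle : closV c L ≤ centralizer (core2 L : Set G) from
    (mem_centralizer_iff.mp (hle hv) r hr).symm
  refine (closure_le _).mpr ?_
  rintro _ ⟨l, hl, rfl⟩
  rw [SetLike.mem_coe, mem_centralizer_iff]
  intro r hr
  have h1 : l⁻¹ * r * l ∈ core2 L := by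
    have := (mem_normalizer_iff.mp (core2_normal L (inv_mem hl)) r).mp hr
    rwa [inv_inv] at this
  have h2 := (c.comm_z (h.R_le_C h1)).map (MulAut.conj l).toMonoidHom
  simp only [MulEquiv.toMonoidHom_eq_coe, MonoidHom.coe_coe, MulAut.conj_apply] at h2
  rw [show l * (l⁻¹ * r * l) * l⁻¹ = r by group] at h2
  exact h2.eq

theorem V_comm {v w : G} (hv : v ∈ closV c L) (hw : w ∈ closV c L) : Commute v w :=
  h.V_comm_R hv (h.V_le_R hw)

theorem V_sq {v : G} (hv : v ∈ closV c L) : v * v = 1 := by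
  induction hv using closure_induction with
  | mem x hx =>
    obtain ⟨l, -, rfl⟩ := hx
    rw [conj_mul, c.z_sq]; group
  | one => simp
  | mul x y hx hy ex ey =>
    rw [mul_assoc, ← mul_assoc y, ← (h.V_comm hx hy).eq, mul_assoc x y y, ey, mul_one, ex]
  | inv x _ ex => rw [← mul_inv_rev, ex, inv_one]

theorem V_fixed {v : G} (hv : v ∈ closV c L) (hvu : Commute v c.u) : v = 1 ∨ v = c.z :=
  c.mem_Z2.mp (c.two_fixed c.u_mem_C c.orderOf_u (h.V_le_C hv) hvu (isTwo_invol (h.V_sq hv)))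

/-- Elements of `L` centralising `u` lie in `C`. -/
theorem mem_C_of_comm {l : G} (hl : l ∈ L) (hlu : Commute l c.u) : l ∈ c.C := by
  have h1 : Commute (l * c.z * l⁻¹) c.u :=
    ((hlu).mul_left (c.comm_z c.u_mem_C).symm).mul_left hlu.inv_left
  rcases h.V_fixed (h.conj_mem_V hl) h1 with e | e
  · exact absurd (conj_eq_one_iff.mp e) c.z_ne
  · exact c.mem_C.mpr (mul_inv_eq_iff_eq_mul.mp e)

theorem not_three_dvd_R : ¬ 3 ∣ Nat.card (core2 L) := fun hd => by
  obtain ⟨k, hk⟩ := IsPGroup.iff_card.mp (core2_isTwo L)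
  rw [hk] at hd
  exact absurd (Nat.prime_three.dvd_of_dvd_pow hd) (by norm_num)

theorem u_not_R : c.u ∉ core2 L := fun hm => h.not_three_dvd_R (by
  rw [← c.orderOf_u]; exact Subgroup.orderOf_dvd_natCard _ hm)

/-- `u` is self-centralising modulo the core. -/
theorem cent_mod {l : G} (hl : l ∈ L) (hlu : l * c.u * l⁻¹ * c.u⁻¹ ∈ core2 L) :
    ∃ r ∈ core2 L, ∃ j : ℕ, l = r * c.u ^ j := by
  have huN := core2_normal L h.hu
  have hlN := core2_normal L hl
  have h1 : l⁻¹⁻¹⁻¹ * (c.u * l * c.u⁻¹) ∈ core2 L := by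
    have h2 := inv_mem ((mem_normalizer_iff.mp (inv_mem hlN) _).mp hlu)
    rwa [show (l⁻¹ * (l * c.u * l⁻¹ * c.u⁻¹) * l⁻¹⁻¹)⁻¹ = l⁻¹⁻¹⁻¹ * (c.u * l * c.u⁻¹) by group] at h2
  obtain ⟨m, hm, hc⟩ := exists_fixed_lift (core2_isTwo L) c.orderOf_u huN (x := l)
    (by rwa [inv_inv] at h1)
  have hlm : l * m ∈ L := mul_mem hl (core2_le L hm)
  obtain ⟨i, j, hij⟩ := c.cent_u (h.mem_C_of_comm hlm hc) hc
  refine ⟨c.z ^ i * (c.u ^ j * m⁻¹ * (c.u ^ j)⁻¹), mul_mem (pow_mem h.hz i)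
    ((mem_normalizer_iff.mp (pow_mem huN j) _).mp (inv_mem hm)), j, ?_⟩
  calc l = (l * m) * m⁻¹ := by group
    _ = _ := by rw [hij]; group

/-- The kernel of the action on `V` is the core. -/
theorem mem_R_of_cent {l : G} (hl : l ∈ L) (hlV : ∀ v ∈ closV c L, Commute l v) : l ∈ core2 L := by
  set P := L ⊓ centralizer (closV c L : Set G)
  have hPC : P ≤ c.C := fun p hp => c.mem_C.mpr ((mem_centralizer_iff.mp hp.2 _ h.z_mem_V).symm)
  have hPn : L ≤ normalizer (P : Set G) := by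
    intro m hm
    rw [mem_normalizer_iff]
    intro x
    have key : ∀ a ∈ L, ∀ y ∈ P, a * y * a⁻¹ ∈ P := fun a ha y hy => ⟨L.mul_mem (L.mul_mem ha hy.1) (L.inv_mem ha),
      mem_centralizer_iff.mpr fun v hv => by
        have h1 := mem_centralizer_iff.mp hy.2 _ ((mem_normalizer_iff.mp (h.V_normal (inv_mem ha)) v).mp hv)
        rw [inv_inv] at h1
        calc v * (a * y * a⁻¹) = a * ((a⁻¹ * v * a) * y) * a⁻¹ := by group
          _ = a * y * a⁻¹ * v := by rw [h1]; group⟩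
    refine ⟨key m hm x, fun hx => ?_⟩
    have := key m⁻¹ (inv_mem hm) _ hx
    rwa [show m⁻¹ * (m * x * m⁻¹) * m⁻¹⁻¹ = x by group] at this
  have hP2 : IsPGroup 2 P := by
    refine h.small (L ⊓ c.C) (le_inf h.hSL h.hS) ⟨h.hu, c.u_mem_C⟩ inf_le_right P (le_inf inf_le_left hPC)
      (inf_le_left.trans hPn) fun a ha ha3 => h.notC fun m hm => ?_
    have h1 := c.two_fixed (hPC ha) ha3 (h.V_le_C (h.conj_mem_V hm))
      (mem_centralizer_iff.mp ha.2 _ (h.conj_mem_V hm)) (isTwo_invol (h.V_sq (h.conj_mem_V hm)))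
    rcases c.mem_Z2.mp h1 with e | e
    · exact absurd (conj_eq_one_iff.mp e) c.z_ne
    · exact c.mem_C.mpr (mul_inv_eq_iff_eq_mul.mp e)
  exact le_core2 inf_le_left hPn hP2 ⟨hl, mem_centralizer_iff.mpr fun v hv => (hlV v hv).symm.eq⟩

/-- The cosets of `L ∩ C` in `L` number one more than a multiple of three. -/
theorem index_mod_three : (c.C).relIndex L % 3 = 1 := by
  classical
  haveI := Fact.mk Nat.prime_three
  let uL : L := ⟨c.u, h.hu⟩
  have hz : IsPGroup 3 (zpowers uL) := IsPGroup.of_card (n := 1)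
    (by rw [Nat.card_zpowers, ← Subgroup.orderOf_coe, pow_one]; exact c.orderOf_u)
  have hmod := hz.card_modEq_card_fixedPoints (L ⧸ (c.C).subgroupOf L)
  have huniq : ∀ q : L ⧸ (c.C).subgroupOf L, q ∈ MulAction.fixedPoints (zpowers uL) (L ⧸ (c.C).subgroupOf L) →
      q = ((1 : L) : L ⧸ (c.C).subgroupOf L) := by
    intro q hq
    obtain ⟨l, rfl⟩ := QuotientGroup.mk_surjective q
    have h1 : ((uL * l : L) : L ⧸ (c.C).subgroupOf L) = ((l : L) : L ⧸ (c.C).subgroupOf L) :=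
      hq ⟨uL, mem_zpowers _⟩
    rw [QuotientGroup.eq, mem_subgroupOf] at h1
    have h2 : (l : G)⁻¹ * c.u * l ∈ c.C := by
      have := inv_mem h1
      simpa [uL, mul_assoc] using this
    have h3 : Commute ((l : G) * c.z * (l : G)⁻¹) c.u := by
      have := ((c.comm_z h2).symm).map (MulAut.conj (l : G)).toMonoidHom
      simp only [MulEquiv.toMonoidHom_eq_coe, MonoidHom.coe_coe, MulAut.conj_apply] at this
      rwa [show (l : G) * ((l : G)⁻¹ * c.u * l) * (l : G)⁻¹ = c.u by group] at this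
    rw [QuotientGroup.eq, mem_subgroupOf]
    simp only [coe_mul, coe_inv, OneMemClass.coe_one, mul_one]
    refine inv_mem ?_
    rcases h.V_fixed (h.conj_mem_V l.2) h3 with e | e
    · exact absurd (conj_eq_one_iff.mp e) c.z_ne
    · exact c.mem_C.mpr (mul_inv_eq_iff_eq_mul.mp e)
  have hmem : ((1 : L) : L ⧸ (c.C).subgroupOf L) ∈ MulAction.fixedPoints (zpowers uL) (L ⧸ (c.C).subgroupOf L) := by
    rintro ⟨x, i, rfl⟩
    show ((uL ^ i * 1 : L) : L ⧸ (c.C).subgroupOf L) = ((1 : L) : L ⧸ (c.C).subgroupOf L)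
    rw [QuotientGroup.eq, mem_subgroupOf]
    simp only [mul_one, coe_inv]
    exact inv_mem (by rw [SubgroupClass.coe_zpow]; exact zpow_mem c.u_mem_C i)
  have h1 : Nat.card (MulAction.fixedPoints (zpowers uL) (L ⧸ (c.C).subgroupOf L)) = 1 :=
    Nat.card_eq_one_iff_exists.mpr ⟨⟨_, hmem⟩, fun q => Subtype.ext (huniq q q.2)⟩
  rw [h1] at hmod
  rw [relIndex, index_eq_card]
  exact hmod

theorem L_le_normalizer : L ≤ normalizer (core2 L : Set G) := core2_normal L

end LHyp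

end Cfsg.Agent.Invol.CentSix
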