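import Cfsg.Agent.Lib.Classical.SLNormal
import Cfsg.Agent.Lib.Classical.DicksonSmallQ
import Cfsg.Agent.Lib.Fus.CentTwoPSL.PSLFacts

/-!
# The simple group of order 168
-/

set_option autoImplicit false
set_option linter.style.haveILetI false

namespace Cfsg.Agent.Invol.CentSix.Psl7

theorem fact_seven : Fact (Nat.Prime 7) := ⟨by norm_num⟩

attribute [local instance] fact_seven

local notation "P7" => Matrix.ProjectiveSpecialLinearGroup (Fin 2) (ZMod 7)

theorem card_eq : Nat.card P7 = 168 := by
  have h := Dickson.card_psl_odd (F := ZMod 7) (by rw [ZMod.card]; decide)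
  rw [ZMod.card] at h
  omega

theorem simple : IsSimpleGroup P7 := by
  exact Classical.PSL_isSimple (F := ZMod 7) (n := 2) le_rfl fun _ => by
    rw [ZMod.card]; norm_num

/-- A diagonal element. -/
def A : Matrix.SpecialLinearGroup (Fin 2) (ZMod 7) := ⟨!![3, 0; 0, 5], by decide +kernel⟩

/-- A transvection. -/
def U : Matrix.SpecialLinearGroup (Fin 2) (ZMod 7) := ⟨!![1, 1; 0, 1], by decide +kernel⟩

/-- An element of order seven squared by an element of order three. -/
theorem exists_pair : ∃ a g : P7, orderOf a = 3 ∧ g ^ 7 = 1 ∧ g ≠ 1 ∧ a * g * a⁻¹ = g ^ 2 := by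
  refine ⟨Classical.slToPSL 2 _ A, Classical.slToPSL 2 _ U, ?_, ?_, ?_, ?_⟩
  · have hA3 : Classical.slToPSL 2 _ A ^ 3 = 1 := by
      rw [← map_pow, Classical.slToPSL_eq_one_iff]
      exact ⟨6, by decide +kernel⟩
    refine orderOf_eq_prime hA3 fun e => ?_
    obtain ⟨s, hs⟩ := (Classical.slToPSL_eq_one_iff A).mp e
    revert s
    decide +kernel
  · rw [← map_pow, Classical.slToPSL_eq_one_iff]
    exact ⟨1, by decide +kernel⟩
  · intro e
    obtain ⟨s, hs⟩ := (Classical.slToPSL_eq_one_iff U).mp e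
    revert s
    decide +kernel
  · have h : A * U = U ^ 2 * A := by decide +kernel
    rw [mul_inv_eq_iff_eq_mul, ← map_mul, h, map_mul, map_pow]

/-- An element of order eight in the cover. -/
def R : Matrix.SpecialLinearGroup (Fin 2) (ZMod 7) := ⟨!![0, 6; 1, 3], by decide +kernel⟩

theorem orderOf_four : orderOf (Classical.slToPSL 2 _ R : P7) = 4 := by
  refine orderOf_eq_prime_pow (p := 2) (n := 1) ?_ ?_
  · rw [← map_pow, Classical.slToPSL_eq_one_iff]
    rintro ⟨s, hs⟩
    revert s
    decide +kernel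
  · rw [← map_pow, Classical.slToPSL_eq_one_iff]
    exact ⟨6, by decide +kernel⟩

end Cfsg.Agent.Invol.CentSix.Psl7
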