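import Cfsg.Agent.Lib.Invol.CentSix.AlphaMain
import Cfsg.Agent.Lib.Invol.CentSix.Psl7

/-!
# Overgroups of a Sylow 2-subgroup outside the centraliser: conclusions

If `u` normalises the Sylow subgroup it has order eight; otherwise the index-two subgroup has order 32 and
`z` is the only involution in the centre of the Sylow subgroup.
-/

set_option autoImplicit false
set_option linter.style.haveILetI false

namespace Cfsg.Agent.Invol.CentSix

open Subgroup

variable {G : Type*} [Group G] [Finite G] {c : Cfg G} {S : Sylow 2 G} {L : Subgroup G}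

namespace LHyp

variable (h : LHyp c S L)
include h

theorem inter_data : ∃ k i, Nat.card ↥(L ⊓ c.C) = 3 * Nat.card (S : Subgroup G) * k ∧
    (c.C).relIndex L = i ∧ i % 3 = 1 ∧ i ≠ 1 ∧ 3 * Nat.card (S : Subgroup G) * k * i = Nat.card L := by
  obtain ⟨k, hk⟩ := h.card_inter_dvd
  refine ⟨k, _, hk, rfl, h.index_mod_three, fun e => h.notC (relIndex_eq_one.mp e), ?_⟩
  rw [← hk, h.card_inter_mul]

theorem not_alt_five (e : LHyp.Q L ≃* alternatingGroup (Fin 5)) : False := by
  obtain ⟨k, i, -, -, hi3, hi1, hmul⟩ := h.inter_data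
  obtain ⟨m, hm, hm'⟩ := h.card_sylow
  have hX : Nat.card (LHyp.Q L) = 60 := by
    rw [Nat.card_congr e.toEquiv, nat_card_alternatingGroup, Nat.card_fin]; rfl
  have hL := h.card_L
  rw [hX] at hL
  obtain ⟨a, ha⟩ := IsPGroup.iff_card.mp (core2_isTwo L)
  obtain ⟨b, hb⟩ := IsPGroup.iff_card.mp S.2
  rw [hL, ha, hb] at hm'
  rw [hL, ha, hb] at hmul
  have hab : b = a + 2 := by
    have h1 : (2 : ℕ) ^ b * m = 2 ^ (a + 2) * 15 := by rw [hm', pow_add]; ring
    have hc1 : Nat.Coprime (2 ^ b) 15 := Nat.Coprime.pow_left b (by norm_num)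
    have hc2 : Nat.Coprime (2 ^ (a + 2)) m := Nat.Coprime.pow_left _ (Nat.prime_two.coprime_iff_not_dvd.mpr (by
      rw [Nat.two_dvd_ne_zero, ← Nat.odd_iff]; exact hm))
    refine Nat.pow_right_injective (le_refl 2) (Nat.dvd_antisymm ?_ ?_)
    · exact hc1.dvd_of_dvd_mul_right ⟨m, h1.symm⟩
    · exact hc2.dvd_of_dvd_mul_right ⟨15, h1⟩
  subst hab
  have h5 : k * i = 5 := by
    have hpos : 0 < 2 ^ a * 12 := by positivity
    refine Nat.eq_of_mul_eq_mul_left hpos ?_
    calc 2 ^ a * 12 * (k * i) = 3 * 2 ^ (a + 2) * k * i := by rw [pow_add]; ring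
      _ = 2 ^ a * 12 * 5 := by rw [hmul]; ring
  rcases (Nat.dvd_prime (show Nat.Prime 5 by norm_num)).mp ⟨k, by rw [← h5, mul_comm]⟩ with e1 | e1
  · exact hi1 e1
  · omega

/-- The orders in the case of the simple quotient of order 168. -/
theorem psl7_numbers (e : LHyp.Q L ≃* Matrix.ProjectiveSpecialLinearGroup (Fin 2) (ZMod 7)) :
    Nat.card (S : Subgroup G) = 8 * Nat.card (core2 L) ∧
      Nat.card ↥(L ⊓ c.C) = 3 * Nat.card (S : Subgroup G) ∧ (c.C).relIndex L = 7 := by
  obtain ⟨k, i, hk, hrel, hi3, hi1, hmul⟩ := h.inter_data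
  obtain ⟨m, hm, hm'⟩ := h.card_sylow
  have hX : Nat.card (LHyp.Q L) = 168 := by rw [Nat.card_congr e.toEquiv, Psl7.card_eq]
  have hL := h.card_L
  rw [hX] at hL
  obtain ⟨a, ha⟩ := IsPGroup.iff_card.mp (core2_isTwo L)
  obtain ⟨b, hb⟩ := IsPGroup.iff_card.mp S.2
  rw [hL, ha, hb] at hm' hmul
  have hab : b = a + 3 := by
    have h1 : (2 : ℕ) ^ b * m = 2 ^ (a + 3) * 21 := by rw [hm', pow_add]; ring
    have hc1 : Nat.Coprime (2 ^ b) 21 := Nat.Coprime.pow_left b (by norm_num)
    have hc2 : Nat.Coprime (2 ^ (a + 3)) m := Nat.Coprime.pow_left _ (Nat.prime_two.coprime_iff_not_dvd.mpr (by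
      rw [Nat.two_dvd_ne_zero, ← Nat.odd_iff]; exact hm))
    refine Nat.pow_right_injective (le_refl 2) (Nat.dvd_antisymm ?_ ?_)
    · exact hc1.dvd_of_dvd_mul_right ⟨m, h1.symm⟩
    · exact hc2.dvd_of_dvd_mul_right ⟨21, h1⟩
  subst hab
  have h7 : k * i = 7 := by
    have hpos : 0 < 2 ^ a * 24 := by positivity
    refine Nat.eq_of_mul_eq_mul_left hpos ?_
    calc 2 ^ a * 24 * (k * i) = 3 * 2 ^ (a + 3) * k * i := by rw [pow_add]; ring
      _ = 2 ^ a * 24 * 7 := by rw [hmul]; ring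
  rcases (Nat.dvd_prime (show Nat.Prime 7 by norm_num)).mp ⟨k, by rw [← h7, mul_comm]⟩ with e1 | e1
  · exact absurd e1 hi1
  · subst e1
    refine ⟨by rw [ha, hb, pow_add]; ring, ?_, hrel⟩
    rw [hk, show k = 1 by omega, mul_one]

/-- In that case `u` does not normalise the Sylow subgroup. -/
theorem psl7_not_normalised (e : LHyp.Q L ≃* Matrix.ProjectiveSpecialLinearGroup (Fin 2) (ZMod 7))
    (hSu : c.u ∈ normalizer ((S : Subgroup G) : Set G)) : False := by
  classical
  obtain ⟨h8, -, -⟩ := h.psl7_numbers e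
  haveI := Fact.mk Nat.prime_three
  set P : Subgroup (LHyp.Q L) := ((S : Subgroup G).subgroupOf L).map (QuotientGroup.mk' (LHyp.Rsub L)) with hP
  cases nonempty_fintype P
  have hPu : h.ubar ∈ normalizer (P : Set (LHyp.Q L)) := by
    have h1 : (⟨c.u, h.hu⟩ : L) ∈ normalizer ((S : Subgroup G).subgroupOf L : Set L) := by
      rw [mem_normalizer_iff]; intro x
      exact mem_normalizer_iff.mp hSu (x : G)
    exact le_normalizer_map (QuotientGroup.mk' (LHyp.Rsub L)) (mem_map_of_mem _ h1)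
  have hPcard : Nat.card P = 8 := by
    let f := (QuotientGroup.mk' (LHyp.Rsub L)).comp (((S : Subgroup G).subgroupOf L).subtype)
    have hr : f.range = P := by
      rw [hP, MonoidHom.range_eq_map, ← Subgroup.map_map, ← MonoidHom.range_eq_map, range_subtype]
    have hker : f.ker = (LHyp.Rsub L).subgroupOf ((S : Subgroup G).subgroupOf L) := by
      ext x
      simp only [f, MonoidHom.mem_ker, MonoidHom.coe_comp, coe_subtype, Function.comp_apply,
        QuotientGroup.mk'_apply, QuotientGroup.eq_one_iff, mem_subgroupOf]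
    have h1 := f.ker.card_mul_index
    rw [index_ker, hr, hker] at h1
    have hle : LHyp.Rsub L ≤ (S : Subgroup G).subgroupOf L := fun x hx => mem_subgroupOf.mpr (core2_le_sylow S h.hSL (mem_subgroupOf.mp hx))
    rw [Nat.card_congr (subgroupOfEquivOfLe hle).toEquiv, Nat.card_congr (subgroupOfEquivOfLe (core2_le L)).toEquiv,
      Nat.card_congr (subgroupOfEquivOfLe h.hSL).toEquiv, h8, mul_comm 8] at h1
    exact Nat.eq_of_mul_eq_mul_left Nat.card_pos h1
  let f : P → P := fun x => ⟨h.ubar * x * h.ubar⁻¹, (mem_normalizer_iff.mp hPu _).mp x.2⟩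
  have h3 : ∀ x, f (f (f x)) = x := fun x => Subtype.ext (by
    show h.ubar * (h.ubar * (h.ubar * (x : LHyp.Q L) * h.ubar⁻¹) * h.ubar⁻¹) * h.ubar⁻¹ = x
    calc _ = h.ubar * h.ubar * h.ubar * (x : LHyp.Q L) * (h.ubar * h.ubar * h.ubar)⁻¹ := by group
      _ = x := by rw [mul_self_three h.orderOf_ubar]; group)
  let σ : Equiv.Perm P := ⟨f, fun x => f (f x), h3, h3⟩
  -- the identity is the only fixed point, but eight points are moved in threes
  have hσ : σ ^ 3 = 1 := Equiv.ext fun x => h3 x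
  have hcomp : (Finset.univ.filter fun x : P => σ x ≠ x).card % 3 = 0 := by
    have h1 : (Equiv.Perm.support σ).card % 3 = 0 := by
      rcases eq_or_ne σ 1 with e1 | e1
      · rw [e1, Equiv.Perm.support_one]; rfl
      · have ho : orderOf σ = 3 := orderOf_eq_prime hσ e1
        have hc := Equiv.Perm.sum_cycleType σ
        refine Nat.mod_eq_zero_of_dvd ?_
        rw [← hc]
        refine Multiset.dvd_sum fun a ha => ?_
        have hd := Equiv.Perm.dvd_of_mem_cycleType ha
        rw [ho] at hd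
        rcases (Nat.dvd_prime Nat.prime_three).mp hd with e2 | e2
        · have := Equiv.Perm.two_le_of_mem_cycleType ha
          omega
        · rw [e2]
    have h2 : (Finset.univ.filter fun x : P => σ x ≠ x) = σ.support := by
      ext x
      simp [Equiv.Perm.mem_support]
    rw [h2]; exact h1
  have huniq : ∀ x : P, σ x = x → x = 1 := by
    intro x hx
    have h1 : h.ubar * (x : LHyp.Q L) * h.ubar⁻¹ = x := congrArg Subtype.val hx
    have h2 := h.cent_ubar (q := (x : LHyp.Q L)) (mul_inv_eq_iff_eq_mul.mp h1).symm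
    have h4 : orderOf x ∣ 3 := by
      rw [← Subgroup.orderOf_coe, ← h.orderOf_ubar]; exact orderOf_dvd_of_mem_zpowers h2
    have h5 : orderOf x ∣ 8 := hPcard ▸ _root_.orderOf_dvd_natCard x
    exact orderOf_eq_one_iff.mp (Nat.eq_one_of_dvd_coprimes (by norm_num : Nat.Coprime 3 8) h4 h5)
  have hfilt : (Finset.univ.filter fun x : P => σ x ≠ x) = Finset.univ.erase 1 := by
    ext x
    simp only [Finset.mem_filter, Finset.mem_univ, true_and, Finset.mem_erase, and_true]
    exact ⟨fun hx e1 => hx (by subst e1; exact Subtype.ext (by show h.ubar * 1 * h.ubar⁻¹ = 1; group)),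
      fun hx e1 => hx (huniq x e1)⟩
  rw [hfilt, Finset.card_erase_of_mem (Finset.mem_univ _), Finset.card_univ, ← Nat.card_eq_fintype_card,
    hPcard] at hcomp
  omega

/-- In that case there is an element of order seven with module of order eight, and the core is that module. -/
theorem psl7_data (e : LHyp.Q L ≃* Matrix.ProjectiveSpecialLinearGroup (Fin 2) (ZMod 7)) :
    (∃ g, SevenData c L g) ∧ core2 L = closV c L := by
  classical
  obtain ⟨h8, hI, hidx⟩ := h.psl7_numbers e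
  haveI := Fact.mk Nat.prime_three
  haveI : IsSimpleGroup (Matrix.ProjectiveSpecialLinearGroup (Fin 2) (ZMod 7)) := Psl7.simple
  haveI : Nontrivial (LHyp.Q L) := e.toEquiv.nontrivial
  haveI : IsSimpleGroup (LHyp.Q L) := IsSimpleGroup.isSimpleGroup_of_surjective e.symm.toMonoidHom e.symm.surjective
  obtain ⟨a, g, ha, hg7, hg1, hag⟩ := Psl7.exists_pair
  have hX : Nat.card (LHyp.Q L) = 168 := by rw [Nat.card_congr e.toEquiv, Psl7.card_eq]
  -- conjugate `a` into the subgroup of `u`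
  set a' := e.symm a
  set g' := e.symm g
  have ha' : orderOf a' = 3 := by rw [MulEquiv.orderOf_eq]; exact ha
  have hfac : (168 : ℕ).factorization 3 = 1 := by
    rw [show (168 : ℕ) = 3 * 56 by rfl, Nat.factorization_mul (by norm_num) (by norm_num), Finsupp.add_apply,
      Nat.Prime.factorization_self Nat.prime_three,
      Nat.factorization_eq_zero_of_not_dvd (show ¬ 3 ∣ 56 by norm_num)]
  let Pa : Sylow 3 (LHyp.Q L) := Sylow.ofCard (zpowers a') (by rw [Nat.card_zpowers, ha', hX, hfac]; rfl)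
  let Pu : Sylow 3 (LHyp.Q L) := Sylow.ofCard (zpowers h.ubar)
    (by rw [Nat.card_zpowers, h.orderOf_ubar, hX, hfac]; rfl)
  obtain ⟨k, hk⟩ := MulAction.exists_smul_eq (LHyp.Q L) Pa Pu
  set M := zpowers (k * g' * k⁻¹) with hMdef
  have hM7 : Nat.card M = 7 := by
    haveI := Fact.mk (show Nat.Prime 7 by norm_num)
    rw [hMdef, Nat.card_zpowers, orderOf_conj]
    exact orderOf_eq_prime (by rw [← map_pow, hg7, map_one]) (fun e1 => hg1 (by
      have := congrArg e e1
      simpa [g'] using this))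
  have haM : k * a' * k⁻¹ ∈ normalizer (M : Set (LHyp.Q L)) := by
    have h1 : (k * a' * k⁻¹) * (k * g' * k⁻¹) * (k * a' * k⁻¹)⁻¹ = (k * g' * k⁻¹) ^ 2 := by
      rw [conj_pow, ← show a' * g' * a'⁻¹ = g' ^ 2 by
        rw [← map_pow, ← hag, map_mul, map_mul, map_inv]]
      group
    have hle : M.map (MulAut.conj (k * a' * k⁻¹)).toMonoidHom ≤ M := by
      rw [hMdef, MonoidHom.map_zpowers, zpowers_le]
      show (k * a' * k⁻¹) * (k * g' * k⁻¹) * (k * a' * k⁻¹)⁻¹ ∈ zpowers (k * g' * k⁻¹)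
      rw [h1]; exact pow_mem (mem_zpowers _) 2
    have heq := eq_of_le_of_card_ge hle
      (by rw [card_map_of_injective (MulEquiv.injective _)])
    rw [mem_normalizer_iff]
    intro x
    constructor
    · intro hx; exact heq ▸ mem_map_of_mem _ hx
    · intro hx
      rw [← heq] at hx
      obtain ⟨y, hy, hy'⟩ := hx
      have := (MulAut.conj (k * a' * k⁻¹)).injective hy'
      exact this ▸ hy
  have huM : h.ubar ∈ normalizer (M : Set (LHyp.Q L)) := by
    have h1 : h.ubar ∈ (Pu : Subgroup (LHyp.Q L)) := mem_zpowers _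
    rw [← hk, Sylow.coe_subgroup_smul, mem_pointwise_smul_iff_inv_smul_mem, ← map_inv] at h1
    obtain ⟨i, hi⟩ := h1
    have hi' : a' ^ i = k⁻¹ * h.ubar * k := by simpa using hi
    rw [show h.ubar = (k * a' * k⁻¹) ^ i by rw [conj_zpow, hi']; group]
    exact zpow_mem haM i
  obtain ⟨l, hl7, -, -, hrel⟩ := h.exists_seven M hM7 huM
  have hlC : (l : G) ∉ c.C := fun hC => by
    have h1 := Subgroup.orderOf_dvd_natCard (L ⊓ c.C) ⟨l.2, hC⟩
    rw [hl7, hI] at h1
    obtain ⟨b, hb⟩ := IsPGroup.iff_card.mp S.2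
    rw [hb] at h1
    exact absurd (((show Nat.Prime 7 by norm_num).dvd_mul.mp h1).elim id
      fun h2 => absurd ((show Nat.Prime 7 by norm_num).dvd_of_dvd_pow h2) (by norm_num)) (by norm_num)
  -- seven distinct conjugates
  have hinj : ∀ i j : Fin 7, (((l : L) ^ (i : ℕ) : L) : L ⧸ (c.C).subgroupOf L) = ((l ^ (j : ℕ) : L) :) → i = j := by
    intro i j hij
    rw [QuotientGroup.eq, mem_subgroupOf] at hij
    simp only [coe_mul, coe_inv, SubmonoidClass.coe_pow] at hij
    by_contra hne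
    apply hlC
    haveI := Fact.mk (show Nat.Prime 7 by norm_num)
    set x := ((l : G) ^ (i : ℕ))⁻¹ * (l : G) ^ (j : ℕ)
    have hx : x ≠ 1 := fun e1 => hne (Fin.ext (by
      have e2 : (l : G) ^ (i : ℕ) = (l : G) ^ (j : ℕ) := inv_mul_eq_one.mp e1
      rw [pow_eq_pow_iff_modEq, hl7] at e2
      exact Nat.ModEq.eq_of_lt_of_lt e2 i.2 j.2))
    have hxz : x ∈ zpowers (l : G) := mul_mem (inv_mem (pow_mem (mem_zpowers _) _)) (pow_mem (mem_zpowers _) _)
    have htop : zpowers x = zpowers (l : G) := by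
      refine eq_of_le_of_card_ge (zpowers_le.mpr hxz) ?_
      rw [Nat.card_zpowers, Nat.card_zpowers, hl7]
      rcases (Nat.dvd_prime (show Nat.Prime 7 by norm_num)).mp
        ((orderOf_dvd_of_mem_zpowers hxz).trans (dvd_of_eq hl7)) with e3 | e3
      · exact absurd (orderOf_eq_one_iff.mp e3) hx
      · omega
    have hg' : (l : G) ∈ zpowers x := by rw [htop]; exact mem_zpowers _
    exact (zpowers_le.mpr hij) hg'
  have hsurj : ∀ q : L ⧸ (c.C).subgroupOf L, ∃ i : Fin 7, ((l ^ (i : ℕ) : L) : L ⧸ (c.C).subgroupOf L) = q := by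
    cases nonempty_fintype (L ⧸ (c.C).subgroupOf L)
    exact ((Fintype.bijective_iff_injective_and_card
      (fun i : Fin 7 => ((l ^ (i : ℕ) : L) : L ⧸ (c.C).subgroupOf L))).mpr ⟨fun i j hij => hinj i j hij,
      by rw [Fintype.card_fin, ← Nat.card_eq_fintype_card, ← index_eq_card]; exact hidx.symm⟩).2
  letI : CommGroup (closV c L) := { (inferInstance : Group (closV c L)) with
    mul_comm := fun a b => Subtype.ext (h.V_comm a.2 b.2).eq }
  have hgen : closure {a : closV c L | ∃ n, Commute n (l : LHyp.Q L) ∧ a = h.rho n h.zV} = ⊤ := by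
    rw [eq_top_iff]
    intro v _
    suffices hs : ∀ x (hx : x ∈ closV c L),
        (⟨x, hx⟩ : closV c L) ∈ closure {a : closV c L | ∃ n, Commute n (l : LHyp.Q L) ∧ a = h.rho n h.zV} from
      hs v.1 v.2
    intro x hx
    induction hx using closure_induction with
    | mem x hx =>
      obtain ⟨m, hm, rfl⟩ := hx
      obtain ⟨i, hi⟩ := hsurj ((⟨m, hm⟩ : L) : L ⧸ (c.C).subgroupOf L)
      refine subset_closure ⟨((l ^ (i : ℕ) : L) : LHyp.Q L), ?_, Subtype.ext ?_⟩
      · rw [QuotientGroup.mk_pow]; exact (Commute.refl _).pow_left _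
      · rw [QuotientGroup.eq, mem_subgroupOf] at hi
        rw [h.rho_mk]
        show m * c.z * m⁻¹ = ((l ^ (i : ℕ) : L) : G) * c.z * ((l ^ (i : ℕ) : L) : G)⁻¹
        set p := ((l ^ (i : ℕ) : L) : G)
        have h1 : (p⁻¹ * m) * c.z = c.z * (p⁻¹ * m) := c.mem_C.mp hi
        calc m * c.z * m⁻¹ = p * (p⁻¹ * m * c.z) * m⁻¹ := by group
          _ = p * c.z * p⁻¹ := by rw [h1]; group
    | one => exact one_mem _
    | mul x y _ _ hx hy => exact mul_mem hx hy
    | inv x _ hx => exact inv_mem hx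
  have hsq : ∀ a : closV c L, a * a = 1 := fun a => Subtype.ext (h.V_sq a.2)
  obtain ⟨w, hw3, hwl, hwfix, hwz⟩ : ∃ w : LHyp.Q L, w * w * w = 1 ∧ w * (l : LHyp.Q L) * w⁻¹ = (l : LHyp.Q L) ^ 2 ∧
      (∀ v, h.rho w v = v → v = 1 ∨ v = h.zV) ∧ h.rho w h.zV = h.zV := by
    have hu3 : h.ubar * h.ubar * h.ubar = 1 := mul_self_three h.orderOf_ubar
    rcases hrel with e1 | e1
    · refine ⟨h.ubar, hu3, ?_, h.ubar_fixed, h.ubar_rho_z⟩
      rw [LHyp.ubar, ← QuotientGroup.mk_inv, ← QuotientGroup.mk_mul, ← QuotientGroup.mk_mul, ← QuotientGroup.mk_pow]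
      congr 1
      exact Subtype.ext e1
    · refine ⟨h.ubar * h.ubar, ?_, ?_, fun v hv => ?_, ?_⟩
      · calc _ = h.ubar * h.ubar * h.ubar * (h.ubar * h.ubar * h.ubar) := by group
          _ = 1 := by rw [hu3, one_mul]
      · rw [LHyp.ubar, ← QuotientGroup.mk_mul, ← QuotientGroup.mk_inv, ← QuotientGroup.mk_mul,
          ← QuotientGroup.mk_mul, ← QuotientGroup.mk_pow]
        congr 1
        refine Subtype.ext ?_
        show c.u * c.u * (l : G) * (c.u * c.u)⁻¹ = (l : G) ^ 2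
        rw [show c.u * c.u * (l : G) * (c.u * c.u)⁻¹ = c.u * (c.u * l * c.u⁻¹) * c.u⁻¹ by group, e1, ← conj_pow, e1,
          ← pow_mul, show 4 * 4 = 7 + 7 + 2 by rfl, pow_add, pow_add,
          show (l : G) ^ 7 = 1 from hl7 ▸ pow_orderOf_eq_one _, one_mul, one_mul]
      · refine h.ubar_fixed v ?_
        rw [map_mul, MulAut.mul_apply] at hv
        have h9 : (h.rho h.ubar * (h.rho h.ubar * h.rho h.ubar)) v = v := by
          rw [← map_mul, ← map_mul, ← mul_assoc, hu3, map_one, MulAut.one_apply]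
        rw [MulAut.mul_apply, MulAut.mul_apply, hv] at h9
        exact h9
      · rw [map_mul, MulAut.mul_apply, h.ubar_rho_z, h.ubar_rho_z]
  have hV8 : Nat.card (closV c L) ≤ 8 := by
    refine module_card_le hsq h.zV h.rho (l : LHyp.Q L) w ?_ hw3 hwl hwfix hwz
      (fun e1 => hlC ((h.rho_fix_iff l).mp e1)) hgen
    rw [← QuotientGroup.mk_pow, QuotientGroup.eq_one_iff, mem_subgroupOf, SubmonoidClass.coe_pow,
      show (l : G) ^ 7 = 1 from hl7 ▸ pow_orderOf_eq_one _]
    exact one_mem _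
  have hV8' : Nat.card (closV c L) = 8 := by
    refine le_antisymm hV8 ?_
    let f : Option (L ⧸ (c.C).subgroupOf L) → closV c L := fun o => o.elim 1 fun q =>
      ⟨q.out * c.z * (q.out : G)⁻¹, h.conj_mem_V q.out.2⟩
    have hf : Function.Injective f := by
      have hne : ∀ q : L ⧸ (c.C).subgroupOf L, (q.out : G) * c.z * (q.out : G)⁻¹ ≠ 1 := fun q e1 =>
        c.z_ne (conj_eq_one_iff.mp e1)
      rintro (_ | p) (_ | q) he
      · rfl
      · exact absurd (congrArg Subtype.val he).symm (hne q)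
      · exact absurd (congrArg Subtype.val he) (hne p)
      · congr 1
        have he' : (p.out : G) * c.z * (p.out : G)⁻¹ = (q.out : G) * c.z * (q.out : G)⁻¹ := congrArg Subtype.val he
        rw [← QuotientGroup.out_eq' p, ← QuotientGroup.out_eq' q, QuotientGroup.eq, mem_subgroupOf]
        refine c.mem_C.mpr ?_
        simp only [coe_mul, coe_inv]
        calc (p.out : G)⁻¹ * q.out * c.z = (p.out : G)⁻¹ * ((q.out : G) * c.z * (q.out : G)⁻¹) * q.out := by group
          _ = c.z * ((p.out : G)⁻¹ * q.out) := by rw [← he']; group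
    have := Nat.card_le_card_of_injective f hf
    rw [Finite.card_option, ← index_eq_card] at this
    have hidx' : ((c.C).subgroupOf L).index = 7 := hidx
    omega
  have hd : SevenData c L (l : G) := ⟨l.2, hl7, hrel, hlC, hV8'⟩
  refine ⟨⟨l, hd⟩, le_antisymm ?_ h.V_le_R⟩
  -- the elements of `L` trivial on the core modulo the closure
  let M' : Subgroup L :=
    { carrier := {m : L | ∀ x ∈ core2 L, x⁻¹ * ((m : G) * x * (m : G)⁻¹) ∈ closV c L}
      one_mem' := fun x _ => by simp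
      mul_mem' := fun {m m'} hm hm' x hx => by
        have h1 := hm' x hx
        have hx' : (m' : G) * x * (m' : G)⁻¹ ∈ core2 L := (mem_normalizer_iff.mp (core2_normal L m'.2) x).mp hx
        have h2 := hm _ hx'
        have h3 := mul_mem h1 h2
        simpa [mul_assoc] using h3
      inv_mem' := fun {m} hm x hx => by
        have hx' : (m : G)⁻¹ * x * (m : G)⁻¹⁻¹ ∈ core2 L :=
          (mem_normalizer_iff.mp (core2_normal L (inv_mem m.2)) x).mp hx
        have h1 := inv_mem (hm _ hx')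
        simpa [mul_assoc] using h1 }
  haveI hMn : M'.Normal := ⟨fun m hm n x hx => by
    have hx' : (n : G)⁻¹ * x * (n : G)⁻¹⁻¹ ∈ core2 L :=
      (mem_normalizer_iff.mp (core2_normal L (inv_mem n.2)) x).mp hx
    have h1 := (mem_normalizer_iff.mp (h.V_normal n.2) _).mp (hm _ hx')
    simpa [mul_assoc] using h1⟩
  have hlM : l ∈ M' := fun x hx => h.sevenData_trivial hd hx
  set π := QuotientGroup.mk' (LHyp.Rsub L)
  haveI : (M'.map π).Normal := Normal.map hMn π (QuotientGroup.mk'_surjective _)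
  have htop : M'.map π = ⊤ := by
    rcases (inferInstance : (M'.map π).Normal).eq_bot_or_eq_top with e1 | e1
    · exfalso
      have := mem_map_of_mem π hlM
      rw [e1, mem_bot, QuotientGroup.mk'_apply, QuotientGroup.eq_one_iff, mem_subgroupOf] at this
      obtain ⟨b, hb⟩ := IsTwo.of_mem (core2_isTwo L) this
      rw [hl7] at hb
      exact absurd ((show Nat.Prime 7 by norm_num).dvd_of_dvd_pow (dvd_of_eq hb)) (by norm_num)
    · exact e1
  have huM : (⟨c.u, h.hu⟩ : L) ∈ M' := by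
    obtain ⟨m, hm, hm'⟩ : π ⟨c.u, h.hu⟩ ∈ M'.map π := htop ▸ mem_top _
    have hr : m⁻¹ * ⟨c.u, h.hu⟩ ∈ LHyp.Rsub L := QuotientGroup.eq.mp hm'
    obtain ⟨b, hb⟩ := IsTwo.of_mem (core2_isTwo L) (mem_subgroupOf.mp hr)
    rw [Subgroup.orderOf_coe] at hb
    set uL : L := ⟨c.u, h.hu⟩
    have h1 : (uL : L ⧸ M') ^ (2 ^ b) = 1 := by
      have h2 : ((m⁻¹ * uL : L) : L ⧸ M') = (uL : L ⧸ M') := by
        rw [QuotientGroup.mk_mul, (QuotientGroup.eq_one_iff _).mpr (inv_mem hm), one_mul]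
      rw [← h2, ← QuotientGroup.mk_pow, ← hb, pow_orderOf_eq_one, QuotientGroup.mk_one]
    have h3 : orderOf (uL : L ⧸ M') ∣ 3 := by
      refine (orderOf_map_dvd (QuotientGroup.mk' M') uL).trans ?_
      rw [← Subgroup.orderOf_coe]; exact dvd_of_eq c.orderOf_u
    exact (QuotientGroup.eq_one_iff _).mp (orderOf_eq_one_iff.mp (Nat.eq_one_of_dvd_coprimes
      (Nat.Coprime.pow_right b (by norm_num : Nat.Coprime 3 2)) h3 (orderOf_dvd_of_pow_eq_one h1)))
  intro x hx
  obtain ⟨v, hv, hcm⟩ := exists_fixed_lift ((core2_isTwo L).to_le h.V_le_R) c.orderOf_u (h.V_normal h.hu)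
    (huM x hx)
  have hm : x * v ∈ core2 L := mul_mem hx (h.V_le_R hv)
  have hxv : x * v ∈ closV c L := by
    rcases c.mem_Z2.mp (c.two_fixed c.u_mem_C c.orderOf_u (h.R_le_C hm) hcm
      (IsTwo.of_mem (core2_isTwo L) hm)) with e1 | e1
    · rw [e1]; exact one_mem _
    · rw [e1]; exact h.z_mem_V
  exact (Subgroup.mul_mem_cancel_right _ hv).mp hxv

/-- The soluble case or the simple quotient of order 168. -/
theorem trichotomy : ((S : Subgroup G) = core2 L ∧ ∃ g, SevenData c L g) ∨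
    Nonempty (LHyp.Q L ≃* Matrix.ProjectiveSpecialLinearGroup (Fin 2) (ZMod 7)) := by
  rcases h.shapes with ⟨N, hN, hnil, hcop, hq⟩ | ⟨⟨e⟩⟩ | he
  · exact Or.inl (h.alpha N hnil hcop hq)
  · exact (h.not_alt_five e).elim
  · exact Or.inr he

/-- If `u` normalises the Sylow subgroup, it has order eight. -/
theorem nrm (hSu : c.u ∈ normalizer ((S : Subgroup G) : Set G)) : Nat.card (S : Subgroup G) = 8 := by
  classical
  haveI := Fact.mk Nat.prime_two
  obtain ⟨hSR, -⟩ : (S : Subgroup G) = core2 L ∧ ∃ g, SevenData c L g := by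
    rcases h.trichotomy with h1 | he
    · exact h1
    · exact (h.psl7_not_normalised (Classical.choice he) hSu).elim
  set L' := normalizer ((S : Subgroup G) : Set G)
  have hLL : L ≤ L' := by
    show L ≤ normalizer ((S : Subgroup G) : Set G)
    rw [hSR]; exact core2_normal L
  have h' : LHyp c S L' := ⟨h.hS, le_normalizer, hSu, fun hle => h.notC (hLL.trans hle),
    le_core2 le_normalizer le_rfl S.2 (c.z_mem_sylow h.hS), h.small⟩
  obtain ⟨hSR', g, hd⟩ : (S : Subgroup G) = core2 L' ∧ ∃ g, SevenData c L' g := by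
    rcases h'.trichotomy with h1 | he
    · exact h1
    · exact (h'.psl7_not_normalised (Classical.choice he) hSu).elim
  have hVS : closV c L' ≤ (S : Subgroup G) := hSR' ▸ h'.V_le_R
  suffices hle : (S : Subgroup G) ≤ closV c L' by rw [le_antisymm hle hVS, hd.card]
  -- `S` is the product of its module and the centraliser of `g`
  set D := (S : Subgroup G) ⊓ centralizer ({g} : Set G)
  have hdec : ∀ x ∈ (S : Subgroup G), ∃ v ∈ closV c L', x * v ∈ D := by
    intro x hx
    let θ : closV c L' → closV c L' := fun v => ⟨(v : G)⁻¹ * (g * v * g⁻¹),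
      mul_mem (inv_mem v.2) ((mem_normalizer_iff.mp (h'.V_normal hd.mem) _).mp v.2)⟩
    have hθ : Function.Injective θ := by
      intro v w hvw
      have e1 : (v : G)⁻¹ * (g * v * g⁻¹) = (w : G)⁻¹ * (g * w * g⁻¹) := congrArg Subtype.val hvw
      refine Subtype.ext (mul_inv_eq_one.mp (h'.sevenData_fpf hd (mul_mem v.2 (inv_mem w.2)) ?_))
      have hc := h'.V_comm (inv_mem v.2) (show g * (v : G) * g⁻¹ * (g * (w : G)⁻¹ * g⁻¹) ∈ closV c L' from
        mul_mem ((mem_normalizer_iff.mp (h'.V_normal hd.mem) _).mp v.2)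
          ((mem_normalizer_iff.mp (h'.V_normal hd.mem) _).mp (inv_mem w.2)))
      show g * ((v : G) * (w : G)⁻¹) = (v : G) * (w : G)⁻¹ * g
      calc g * ((v : G) * (w : G)⁻¹) = (v : G) * ((v : G)⁻¹ * (g * v * g⁻¹ * (g * (w : G)⁻¹ * g⁻¹))) * g := by group
        _ = (v : G) * ((v : G)⁻¹ * (g * v * g⁻¹)) * (g * (w : G)⁻¹ * g⁻¹) * g := by group
        _ = (v : G) * (w : G)⁻¹ * g := by rw [e1]; group
    have hxv : x⁻¹ * (g * x * g⁻¹) ∈ closV c L' := h'.sevenData_trivial hd (hSR' ▸ hx)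
    obtain ⟨v, hv⟩ := (Finite.injective_iff_surjective.mp hθ) ⟨_, inv_mem hxv⟩
    have hv' : (v : G)⁻¹ * (g * v * g⁻¹) = (x⁻¹ * (g * x * g⁻¹))⁻¹ := congrArg Subtype.val hv
    refine ⟨v, v.2, (S : Subgroup G).mul_mem hx (hVS v.2), mem_centralizer_singleton_iff.mpr ?_⟩
    have hc2 := h'.V_comm hxv v.2
    refine Eq.symm ?_
    calc g * (x * (v : G)) = x * (x⁻¹ * (g * x * g⁻¹) * (v : G)) * ((v : G)⁻¹ * (g * v * g⁻¹)) * g := by group
      _ = x * ((v : G) * (x⁻¹ * (g * x * g⁻¹))) * (x⁻¹ * (g * x * g⁻¹))⁻¹ * g := by rw [hc2.eq, hv']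
      _ = _ := by group
  by_contra hnle
  obtain ⟨x, hx, hxV⟩ := SetLike.not_le_iff_exists.mp hnle
  obtain ⟨v, hv, hxv⟩ := hdec x hx
  have hDne : D ≠ ⊥ := fun e1 => hxV (by
    rw [e1, mem_bot] at hxv
    rw [eq_inv_of_mul_eq_one_left hxv]; exact inv_mem hv)
  haveI : ((D).subgroupOf (S : Subgroup G)).Normal := ⟨fun d hd' s => by
    rw [mem_subgroupOf] at hd' ⊢
    obtain ⟨w, hw, hsw⟩ := hdec s s.2
    have hdS : (d : G) ∈ core2 L' := hSR' ▸ d.2
    have h1 : Commute w (d : G) := h'.V_comm_R hw hdS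
    have h2 : (s : G) * d * (s : G)⁻¹ = ((s : G) * w) * d * ((s : G) * w)⁻¹ := by
      rw [mul_inv_rev, show (s : G) * w * d * (w⁻¹ * (s : G)⁻¹) = s * (w * d) * w⁻¹ * (s : G)⁻¹ by group, h1.eq]
      group
    simp only [coe_mul, coe_inv, h2]
    exact D.mul_mem (D.mul_mem hsw hd') (D.inv_mem hsw)⟩
  haveI : Nontrivial (S : Subgroup G) := ⟨⟨⟨x, hx⟩, 1, fun e1 => hxV (by
    have e2 : x = 1 := congrArg Subtype.val e1
    rw [e2]; exact one_mem _)⟩⟩
  haveI : Group.IsNilpotent (S : Subgroup G) := S.2.isNilpotent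
  have hmeet : (D.subgroupOf (S : Subgroup G)) ⊓ center (S : Subgroup G) ≠ ⊥ :=
    Grp.inf_center_ne_bot _ fun e1 => hDne (by
      rw [eq_bot_iff]; intro d hd'
      have h2 : (⟨d, hd'.1⟩ : (S : Subgroup G)) ∈ D.subgroupOf (S : Subgroup G) := mem_subgroupOf.mpr hd'
      rw [e1, mem_bot] at h2
      exact mem_bot.mpr (congrArg Subtype.val h2))
  obtain ⟨n, hn0, hn⟩ := ((S.2.to_subgroup _).nontrivial_iff_card).mp ((nontrivial_iff_ne_bot _).mpr hmeet)
  obtain ⟨b, hb⟩ := exists_prime_orderOf_dvd_card' (G := ↥((D.subgroupOf (S : Subgroup G)) ⊓ center (S : Subgroup G))) 2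
    (by rw [hn]; exact dvd_pow_self 2 (by omega))
  rw [← Subgroup.orderOf_coe, ← Subgroup.orderOf_coe] at hb
  obtain ⟨m, hm, hmb⟩ := c.burnside h.hS hb fun y hy => congrArg Subtype.val (mem_center_iff.mp (mem_inf.mp b.2).2 ⟨y, hy⟩)
  have hbV : ((b.1 : (S : Subgroup G)) : G) ∈ closV c L' := by rw [← hmb]; exact h'.conj_mem_V hm
  have hb1 := h'.sevenData_fpf hd hbV
    (mem_centralizer_singleton_iff.mp (mem_subgroupOf.mp (mem_inf.mp b.2).1).2).symm
  rw [hb1, orderOf_one] at hb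
  omega

/-- Otherwise the index-two subgroup has order 32 and `z` spans the central involutions. -/
theorem out {T : Subgroup G} (hTS : T ≤ (S : Subgroup G)) (hT2 : Nat.card (S : Subgroup G) = 2 * Nat.card T)
    (hTu : c.u ∈ normalizer (T : Set G))
    (hmax : ∀ R ≤ (S : Subgroup G), c.u ∈ normalizer (R : Set G) → R ≤ T) :
    Nat.card T = 32 ∧ ∀ b ∈ (S : Subgroup G), orderOf b = 2 → (∀ x ∈ (S : Subgroup G), Commute x b) → b = c.z := by
  classical
  obtain ⟨e⟩ : Nonempty (LHyp.Q L ≃* Matrix.ProjectiveSpecialLinearGroup (Fin 2) (ZMod 7)) := by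
    refine h.trichotomy.resolve_left fun ⟨hSR, _⟩ => ?_
    have h1 := card_le_of_le (hmax _ le_rfl (by rw [hSR]; exact core2_normal L h.hu))
    rw [hT2] at h1
    have := Nat.card_pos (α := T)
    omega
  obtain ⟨h8, -, -⟩ := h.psl7_numbers e
  obtain ⟨⟨g, hd⟩, hRV⟩ := h.psl7_data e
  have hR8 : Nat.card (core2 L) = 8 := by rw [hRV, hd.card]
  have hT32 : Nat.card T = 32 := by omega
  refine ⟨hT32, fun b hbS hb hbc => ?_⟩
  have hVS : closV c L ≤ (S : Subgroup G) := h.V_le_R.trans (core2_le_sylow S h.hSL)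
  have hbV : b ∈ closV c L :=
    hRV ▸ h.mem_R_of_cent (h.hSL hbS) fun v hv => (hbc v (hVS hv)).symm
  by_contra hne
  set W := closV c L ⊓ centralizer (T : Set G) with hW
  have hzW : c.z ∈ W := ⟨h.z_mem_V, mem_centralizer_iff.mpr fun x hx => c.mem_C.mp (h.hS (hTS hx))⟩
  have hbW : b ∈ W := ⟨hbV, mem_centralizer_iff.mpr fun x hx => (hbc x (hTS hx)).eq⟩
  have huW : ∀ x ∈ W, c.u * x * c.u⁻¹ ∈ W := fun x hx => ⟨(mem_normalizer_iff.mp (h.V_normal h.hu) x).mp hx.1,
    mem_centralizer_iff.mpr fun t ht => by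
      have h1 : c.u⁻¹ * t * c.u ∈ T := by
        have := (mem_normalizer_iff.mp (inv_mem hTu) t).mp ht
        rwa [inv_inv] at this
      have h2 := mem_centralizer_iff.mp hx.2 _ h1
      calc t * (c.u * x * c.u⁻¹) = c.u * ((c.u⁻¹ * t * c.u) * x) * c.u⁻¹ := by group
        _ = c.u * x * c.u⁻¹ * t := by rw [h2]; group⟩
  have hWV : W = closV c L := by
    refine eq_of_le_of_card_ge inf_le_left ?_
    rw [hd.card]
    by_contra hlt
    obtain ⟨n, hn⟩ := IsPGroup.iff_card.mp ((core2_isTwo L).to_le (inf_le_left.trans h.V_le_R : W ≤ core2 L))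
    have hd8 : Nat.card W ∣ 8 := hd.card ▸ card_dvd_of_le inf_le_left
    cases nonempty_fintype W
    set b' := c.u * b * c.u⁻¹
    have hb' : b' ∈ W := huW b hbW
    have hb1 : b ≠ 1 := (sq_of_orderOf_two hb).2
    have hne2 : b' ≠ b := fun e1 => hne ((h.V_fixed hbV (mul_inv_eq_iff_eq_mul.mp e1).symm).resolve_left hb1)
    have hb'z : b' ≠ c.z := fun e1 => hne (by
      calc b = c.u⁻¹ * (c.u * b * c.u⁻¹) * c.u := by group
        _ = c.u⁻¹ * c.z * c.u := by rw [show c.u * b * c.u⁻¹ = c.z from e1]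
        _ = c.z := by rw [mul_assoc, (c.comm_z c.u_mem_C).eq.symm, inv_mul_cancel_left])
    have hb'1 : b' ≠ 1 := fun e1 => hb1 (conj_eq_one_iff.mp e1)
    have h5 : 4 < Nat.card W := by
      let f : Fin 5 → W := ![1, ⟨c.z, hzW⟩, ⟨b, hbW⟩, ⟨b', hb'⟩, ⟨c.z * b, mul_mem hzW hbW⟩]
      have hzb1 : c.z * b ≠ 1 := fun e1 => hne (by
        rw [eq_inv_of_mul_eq_one_right e1, c.z_inv])
      have hzbz : c.z * b ≠ c.z := fun e1 => hb1 (by simpa using e1)
      have hzbb : c.z * b ≠ b := fun e1 => c.z_ne (by simpa using e1)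
      have hb'zb : b' ≠ c.z * b := by
        intro e1
        have e2 : c.u * (c.u * b * c.u⁻¹) * c.u⁻¹ = b := by
          rw [show c.u * b * c.u⁻¹ = c.z * b from e1,
            show c.u * (c.z * b) * c.u⁻¹ = c.u * c.z * c.u⁻¹ * (c.u * b * c.u⁻¹) by group, c.conj_z c.u_mem_C,
            show c.u * b * c.u⁻¹ = c.z * b from e1, ← mul_assoc, c.z_sq, one_mul]
        refine hne2 ?_
        calc b' = c.u * (c.u * (c.u * b * c.u⁻¹) * c.u⁻¹) * c.u⁻¹ := by rw [e2]
          _ = c.u * c.u * c.u * b * (c.u * c.u * c.u)⁻¹ := by group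
          _ = b := by rw [mul_self_three c.orderOf_u]; group
      have hf : Function.Injective f := by
        intro i j e1
        have e2 := congrArg Subtype.val e1
        fin_cases i <;> fin_cases j <;> simp [f] at e2 ⊢ <;>
          first
          | exact c.z_ne e2 | exact c.z_ne e2.symm | exact hb1 e2 | exact hb1 e2.symm | exact hb'1 e2
          | exact hb'1 e2.symm | exact hzb1 e2 | exact hzb1 e2.symm | exact hne e2 | exact hne e2.symm
          | exact hb'z e2 | exact hb'z e2.symm | exact hne2 e2 | exact hne2 e2.symm | exact hzbz e2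
          | exact hzbz e2.symm | exact hzbb e2 | exact hzbb e2.symm | exact hb'zb e2 | exact hb'zb e2.symm
      have := Nat.card_le_card_of_injective f hf
      rw [Nat.card_fin] at this
      omega
    obtain ⟨i, hi, hi'⟩ := (Nat.dvd_prime_pow Nat.prime_two (m := 3)).mp hd8
    rw [hi'] at h5 hlt
    interval_cases i <;> omega
  have hTR : T ≤ core2 L := fun x hx => h.mem_R_of_cent (h.hSL (hTS hx)) fun v hv =>
    mem_centralizer_iff.mp (hWV ▸ hv : v ∈ W).2 x hx
  have := card_le_of_le hTR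
  omega

end LHyp

end Cfsg.Agent.Invol.CentSix
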