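import Cfsg.Agent.Lib.Invol.CentSix.Local
import Cfsg.Agent.Lib.Grp.Basic

/-!
# Overgroups of a Sylow 2-subgroup outside the centraliser: the quotient by the core
-/

set_option autoImplicit false
set_option linter.style.haveILetI false

namespace Cfsg.Agent.Invol.CentSix

open Subgroup

/-- A module for `x` of order seven normalised by `w` of order three, spanned by conjugates of one vector, has
order at most eight. -/
theorem module_card_le {A : Type*} [CommGroup A] [Finite A] (hA : ∀ a : A, a * a = 1) (z : A) {X : Type*} [Group X]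
    (ρ : X →* MulAut A) (x w : X) (hx7 : x ^ 7 = 1) (hw3 : w * w * w = 1) (hwx : w * x * w⁻¹ = x ^ 2)
    (hfix : ∀ v, ρ w v = v → v = 1 ∨ v = z) (hwz : ρ w z = z) (hxz : ρ x z ≠ z)
    (gen : closure {a | ∃ n, Commute n x ∧ a = ρ n z} = ⊤) : Nat.card A ≤ 8 := by
  set g := ρ x with hg
  set u := ρ w with hu
  have hg7 : g ^ 7 = 1 := by rw [hg, ← map_pow, hx7, map_one]
  have hu3 : ∀ v, u (u (u v)) = v := fun v => by
    show (u * (u * u)) v = v
    rw [hu, ← map_mul, ← map_mul, ← mul_assoc, hw3, map_one]; rfl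
  have hgu : ∀ v, u (g v) = g (g (u v)) := fun v => by
    show (u * g) v = (g * (g * u)) v
    rw [hu, hg, ← map_mul, ← map_mul, ← map_mul,
      show x * (x * w) = w * x by rw [← mul_assoc, ← pow_two, ← hwx, inv_mul_cancel_right]]
  let ν : A →* A :=
    { toFun := fun v => v * g v * g (g v) * g (g (g v)) * g (g (g (g v))) * g (g (g (g (g v)))) *
        g (g (g (g (g (g v)))))
      map_one' := by simp
      map_mul' := fun a b => by simp only [map_mul]; ac_rfl }
  have hνg : ∀ v, g (ν v) = ν v := fun v => by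
    show g (v * g v * g (g v) * g (g (g v)) * g (g (g (g v))) * g (g (g (g (g v)))) *
        g (g (g (g (g (g v)))))) = v * g v * g (g v) * g (g (g v)) * g (g (g (g v))) * g (g (g (g (g v)))) *
        g (g (g (g (g (g v)))))
    simp only [map_mul, Frob.seven g hg7]; ac_rfl
  have hνu : u (ν z) = ν z := by
    show u (z * g z * g (g z) * g (g (g z)) * g (g (g (g z))) * g (g (g (g (g z)))) *
        g (g (g (g (g (g z)))))) = z * g z * g (g z) * g (g (g z)) * g (g (g (g z))) * g (g (g (g (g z)))) *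
        g (g (g (g (g (g z)))))
    simp only [map_mul, hgu, hwz, Frob.seven g hg7]; ac_rfl
  have hνz : ν z = 1 := (hfix _ hνu).resolve_right fun e => hxz (by rw [← e]; exact hνg z)
  have hν : ∀ v, ν v = 1 := by
    intro v
    have hv : v ∈ closure {a | ∃ n, Commute n x ∧ a = ρ n z} := gen ▸ mem_top v
    induction hv using closure_induction with
    | mem a ha =>
      obtain ⟨n, hn, rfl⟩ := ha
      have hc : ∀ a, g (ρ n a) = ρ n (g a) := fun a => by
        show (g * ρ n) a = (ρ n * g) a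
        rw [hg, ← map_mul, ← map_mul, hn.eq]
      show ρ n z * g (ρ n z) * g (g (ρ n z)) * g (g (g (ρ n z))) * g (g (g (g (ρ n z)))) *
        g (g (g (g (g (ρ n z))))) * g (g (g (g (g (g (ρ n z)))))) = 1
      simp only [hc, ← map_mul]
      rw [← map_one (ρ n)]
      exact congrArg _ hνz
    | one => exact map_one ν
    | mul a b _ _ ea eb => rw [map_mul, ea, eb, one_mul]
    | inv a _ ea => rw [map_inv, ea, inv_one]
  refine Frob.card_le hA g u hg7 hu3 hgu z hfix fun v hv => ?_
  have h1 := hν v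
  change v * g v * g (g v) * g (g (g v)) * g (g (g (g v))) * g (g (g (g (g v)))) *
    g (g (g (g (g (g v))))) = 1 at h1
  simp only [hv] at h1
  rwa [hA, one_mul, hA, one_mul, hA, one_mul] at h1

variable {G : Type*} [Group G]

namespace LHyp

variable {c : Cfg G} {S : Sylow 2 G} {L : Subgroup G}

/-- The core as a subgroup of `L`. -/
abbrev Rsub (L : Subgroup G) : Subgroup L := (core2 L).subgroupOf L

instance (L : Subgroup G) : (Rsub L).Normal := normal_subgroupOf_of_le_normalizer (core2_normal L)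

/-- `L` modulo its core. -/
abbrev Q (L : Subgroup G) : Type _ := L ⧸ Rsub L

variable (h : LHyp c S L)

/-- The image of `u`. -/
def ubar : Q L := ((⟨c.u, h.hu⟩ : L) : Q L)

/-- The action on the closure of the involution. -/
def act : L →* MulAut (closV c L) :=
  (closV c L).normalizerMonoidHom.comp (Subgroup.inclusion h.V_normal)

include h

variable [Finite G]

theorem act_val (l : L) (v : closV c L) : ((h.act l v : closV c L) : G) = (l : G) * v * (l : G)⁻¹ := rfl

theorem act_ker : Rsub L ≤ (h.act).ker := fun l hl => MulEquiv.ext fun v => Subtype.ext (by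
  rw [h.act_val, MulAut.one_apply, (h.V_comm_R v.2 (mem_subgroupOf.mp hl)).symm.eq, mul_inv_cancel_right])

/-- The quotient acts on the closure. -/
def rho : Q L →* MulAut (closV c L) := QuotientGroup.lift (Rsub L) h.act h.act_ker

theorem rho_mk (l : L) (v : closV c L) : ((h.rho (l : Q L) v : closV c L) : G) = (l : G) * v * (l : G)⁻¹ := rfl

theorem rho_injective : Function.Injective h.rho := by
  rw [injective_iff_map_eq_one]
  intro q hq
  obtain ⟨l, rfl⟩ := QuotientGroup.mk_surjective q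
  rw [QuotientGroup.eq_one_iff, mem_subgroupOf]
  refine h.mem_R_of_cent l.2 fun v hv => ?_
  have h1 := congrArg (fun e : MulAut (closV c L) => ((e ⟨v, hv⟩ : closV c L) : G)) hq
  exact mul_inv_eq_iff_eq_mul.mp h1

/-- The involution as an element of its closure. -/
def zV : closV c L := ⟨c.z, h.z_mem_V⟩

theorem rho_fix_iff (l : L) : h.rho (l : Q L) h.zV = h.zV ↔ (l : G) ∈ c.C := by
  rw [Subtype.ext_iff, h.rho_mk, c.mem_C]
  exact mul_inv_eq_iff_eq_mul

theorem ubar_rho_z : h.rho h.ubar h.zV = h.zV := (h.rho_fix_iff _).mpr c.u_mem_C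

theorem ubar_fixed (v : closV c L) (hv : h.rho h.ubar v = v) : v = 1 ∨ v = h.zV := by
  rw [ubar, Subtype.ext_iff, h.rho_mk] at hv
  rcases h.V_fixed v.2 (Commute.symm (mul_inv_eq_iff_eq_mul.mp hv)) with e | e
  · exact Or.inl (Subtype.ext e)
  · exact Or.inr (Subtype.ext e)

theorem orderOf_ubar : orderOf h.ubar = 3 := by
  refine orderOf_eq_three ?_ fun e => h.u_not_R (mem_subgroupOf.mp ((QuotientGroup.eq_one_iff _).mp e))
  rw [ubar, ← QuotientGroup.mk_mul, ← QuotientGroup.mk_mul, ← QuotientGroup.mk_one]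
  congr 1
  exact Subtype.ext (mul_self_three c.orderOf_u)

theorem cent_ubar {q : Q L} (hq : Commute q h.ubar) : q ∈ zpowers h.ubar := by
  obtain ⟨l, rfl⟩ := QuotientGroup.mk_surjective q
  have hq' : ((l * ⟨c.u, h.hu⟩ * l⁻¹ * (⟨c.u, h.hu⟩ : L)⁻¹ : L) : Q L) = 1 := by
    rw [QuotientGroup.mk_mul, QuotientGroup.mk_mul, QuotientGroup.mk_mul, QuotientGroup.mk_inv,
      QuotientGroup.mk_inv]
    have e : ((l : Q L)) * h.ubar = h.ubar * (l : Q L) := hq.eq
    show (l : Q L) * h.ubar * (l : Q L)⁻¹ * h.ubar⁻¹ = 1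
    rw [e, mul_inv_cancel_right, mul_inv_cancel]
  rw [QuotientGroup.eq_one_iff, mem_subgroupOf] at hq'
  obtain ⟨r, hr, j, hj⟩ := h.cent_mod l.2 hq'
  refine ⟨j, ?_⟩
  show h.ubar ^ (j : ℤ) = _
  rw [zpow_natCast, ubar, ← QuotientGroup.mk_pow, QuotientGroup.eq, mem_subgroupOf]
  simp only [coe_mul, coe_inv, SubmonoidClass.coe_pow]
  rw [hj]
  have := (mem_normalizer_iff.mp (inv_mem (pow_mem (core2_normal L h.hu) j)) _).mp hr
  simpa [mul_assoc] using this

/-- The quotient has no normal 2-subgroup. -/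
theorem quot_core_bot (N : Subgroup (Q L)) [hN : N.Normal] (h2 : IsPGroup 2 N) : N = ⊥ := by
  haveI := Fact.mk Nat.prime_two
  set M := N.comap (QuotientGroup.mk' (Rsub L)) with hMdef
  have hker : (QuotientGroup.mk' (Rsub L)).ker = Rsub L := QuotientGroup.ker_mk' _
  have hM : IsPGroup 2 M := h2.comap_of_ker_isPGroup _ (by
    rw [hker]; exact (core2_isTwo L).of_equiv (subgroupOfEquivOfLe (core2_le L)).symm)
  have hMmap : M.map L.subtype ≤ core2 L := by
    refine le_core2 (map_subtype_le _) ?_ (hM.map _)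
    intro l hl
    rw [mem_normalizer_iff]
    intro x
    constructor
    · rintro ⟨y, hy, rfl⟩
      exact ⟨(⟨l, hl⟩ : L) * y * (⟨l, hl⟩ : L)⁻¹, Normal.conj_mem inferInstance y hy _, rfl⟩
    · rintro ⟨y, hy, e⟩
      refine ⟨(⟨l, hl⟩ : L)⁻¹ * y * ((⟨l, hl⟩ : L)⁻¹)⁻¹, Normal.conj_mem inferInstance y hy _, ?_⟩
      have e' : (y : G) = l * x * l⁻¹ := e
      simp [e', mul_assoc]
  rw [eq_bot_iff]
  intro q hq
  obtain ⟨l, rfl⟩ := QuotientGroup.mk_surjective q
  rw [mem_bot, QuotientGroup.eq_one_iff, mem_subgroupOf]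
  exact hMmap ⟨l, hq, rfl⟩

theorem shapes :
    (∃ (N : Subgroup (Q L)) (_ : N.Normal), Group.IsNilpotent N ∧ (Nat.card N).Coprime 3 ∧
        (Nat.card (Q L ⧸ N) = 3 ∨ Nonempty (Q L ⧸ N ≃* Equiv.Perm (Fin 3)))) ∨
      Nonempty (Q L ≃* alternatingGroup (Fin 5)) ∨
      Nonempty (Q L ≃* Matrix.ProjectiveSpecialLinearGroup (Fin 2) (ZMod 7)) := by
  have hX : Nat.card (zpowers h.ubar) = 3 := by rw [Nat.card_zpowers, h.orderOf_ubar]
  have hcent : centralizer (zpowers h.ubar : Set (Q L)) = zpowers h.ubar := by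
    refine le_antisymm (fun q hq => h.cent_ubar (mem_centralizer_iff.mp hq _ (mem_zpowers _)).symm) ?_
    rintro _ ⟨i, rfl⟩
    rw [mem_centralizer_iff]
    rintro _ ⟨j, rfl⟩
    exact ((Commute.refl h.ubar).zpow_zpow j i).eq
  rcases S3331.result _ hX hcent with h1 | ⟨N, hN, -, hsq, ⟨e⟩⟩ | h3
  · obtain ⟨N, hN, h1⟩ := h1
    exact Or.inl ⟨N, hN, h1⟩
  · have hbot := h.quot_core_bot N fun x => ⟨1, Subtype.ext (by simpa using hsq x x.2)⟩
    subst hbot
    exact Or.inr (Or.inl ⟨(QuotientGroup.quotientBot).symm.trans e⟩)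
  · exact Or.inr (Or.inr h3)

theorem card_L : Nat.card L = Nat.card (core2 L) * Nat.card (Q L) := by
  rw [card_eq_card_quotient_mul_card_subgroup (Rsub L), mul_comm,
    Nat.card_congr (subgroupOfEquivOfLe (core2_le L)).toEquiv]

theorem card_inter_dvd : 3 * Nat.card (S : Subgroup G) ∣ Nat.card ↥(L ⊓ c.C) := by
  refine Nat.Coprime.mul_dvd_of_dvd_of_dvd ?_ ?_ (card_dvd_of_le (le_inf h.hSL h.hS))
  · obtain ⟨k, hk⟩ := IsPGroup.iff_card.mp S.2
    rw [hk]; exact Nat.Coprime.pow_right k (by norm_num)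
  · rw [← c.orderOf_u]; exact Subgroup.orderOf_dvd_natCard _ ⟨h.hu, c.u_mem_C⟩

theorem card_inter_mul : Nat.card ↥(L ⊓ c.C) * (c.C).relIndex L = Nat.card L := by
  exact Grp.relIndex_mul_card_inf L c.C

theorem card_sylow : ∃ m, Odd m ∧ Nat.card (S : Subgroup G) * m = Nat.card L := by
  haveI := Fact.mk Nat.prime_two
  refine ⟨(S : Subgroup G).relIndex L, Nat.odd_iff.mpr ?_, Grp.card_mul_relIndex h.hSL⟩
  have := (S.subtype h.hSL).not_dvd_index
  rw [Sylow.coe_subtype] at this
  unfold relIndex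
  omega

end LHyp

end Cfsg.Agent.Invol.CentSix
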