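import Cfsg.Agent.Lib.Invol.CentSix.Basic
import Cfsg.Agent.Lib.Invol.CentSix.Psl7
import Cfsg.Agent.S3331

/-!
# The three shapes of the centraliser

Soluble, an elementary 2-group extended by the alternating group of degree five, or the simple group of order
168 over the involution. The last is impossible.
-/

set_option autoImplicit false
set_option linter.style.haveILetI false

namespace Cfsg.Agent.Invol.CentSix

open Subgroup

namespace Cfg

variable {G : Type*} [Group G] (c : Cfg G)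

/-- `u` inside `C`. -/
def uC : c.C := ⟨c.u, c.u_mem_C⟩

/-- The soluble shape. -/
structure SolvShape where
  /-- The map to the symmetric group of degree three. -/
  φ : c.C →* Equiv.Perm (Fin 3)
  nil : Group.IsNilpotent φ.ker
  cop : (Nat.card φ.ker).Coprime 3
  hu : φ c.uC ≠ 1

/-- The shape with the alternating group of degree five. -/
structure AltShape where
  /-- The map to the alternating group. -/
  φ : c.C →* alternatingGroup (Fin 5)
  surj : Function.Surjective φ
  sq : ∀ x, φ x = 1 → (x : G) * x ∈ c.Z2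
  comm : ∀ x y, φ x = 1 → φ y = 1 → (x : G) * y * (x : G)⁻¹ * (y : G)⁻¹ ∈ c.Z2
  ker_z : ∀ x : c.C, (x : G) ∈ c.Z2 → φ x = 1

variable [Finite G]

theorem shapes : Nonempty c.SolvShape ∨ Nonempty c.AltShape ∨
    ∃ φ : c.C →* Matrix.ProjectiveSpecialLinearGroup (Fin 2) (ZMod 7),
      Function.Surjective φ ∧ ∀ x, φ x = 1 ↔ (x : G) ∈ c.Z2 := by
  classical
  haveI hn : (c.Z2.subgroupOf c.C).Normal := normal_subgroupOf_of_le_normalizer fun x hx => c.Z2_normal hx
  set π := QuotientGroup.mk' (c.Z2.subgroupOf c.C) with hπ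
  have hker : ∀ x, π x = 1 ↔ (x : G) ∈ c.Z2 := fun x => by
    rw [hπ, QuotientGroup.mk'_apply, QuotientGroup.eq_one_iff, mem_subgroupOf]
  have hz : ∀ x : c.C, (x : G) ∈ c.Z2 → ∀ y : c.C, y * x = x * y := by
    intro x hx y
    refine Subtype.ext ?_
    rcases c.mem_Z2.mp hx with e | e <;> simp only [coe_mul, e]
    · simp
    · exact (c.comm_z y.2).eq
  have hu3 : π c.uC * π c.uC * π c.uC = 1 := by
    rw [← map_mul, ← map_mul, show c.uC * c.uC * c.uC = 1 from Subtype.ext (mul_self_three c.orderOf_u), map_one]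
  have hu1 : π c.uC ≠ 1 := fun e => by
    obtain ⟨k, hk⟩ := IsTwo.of_mem c.Z2_isTwo ((hker _).mp e)
    have h3 : orderOf ((c.uC : c.C) : G) = 3 := c.orderOf_u
    rw [h3] at hk
    exact absurd (Nat.prime_three.dvd_of_dvd_pow (dvd_of_eq hk)) (by norm_num)
  have hX : Nat.card (zpowers (π c.uC)) = 3 := by rw [Nat.card_zpowers, orderOf_eq_three hu3 hu1]
  have hcent : centralizer (zpowers (π c.uC) : Set (c.C ⧸ c.Z2.subgroupOf c.C)) = zpowers (π c.uC) := by
    refine le_antisymm (fun q hq => ?_) ?_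
    · obtain ⟨x, rfl⟩ := QuotientGroup.mk_surjective q
      have h1 : π (x * c.uC * x⁻¹ * c.uC⁻¹) = 1 := by
        rw [map_mul, map_mul, map_mul, map_inv, map_inv,
          show π x * π c.uC = π c.uC * π x from (mem_centralizer_iff.mp hq _ (mem_zpowers _)).symm,
          mul_inv_cancel_right, mul_inv_cancel]
      rw [hker] at h1
      -- the commutator is trivial, having order dividing three
      rcases c.mem_Z2.mp h1 with e | e
      · have hc : Commute (x : G) c.u := by
          simp only [coe_mul, coe_inv] at e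
          exact mul_inv_eq_iff_eq_mul.mp (mul_inv_eq_one.mp e)
        obtain ⟨i, j, hij⟩ := c.cent_u x.2 hc
        refine ⟨j, ?_⟩
        show π c.uC ^ (j : ℤ) = π x
        rw [zpow_natCast, ← map_pow]
        refine inv_mul_eq_one.mp ?_
        rw [← map_inv, ← map_mul, hker]
        simp only [coe_mul, coe_inv, SubmonoidClass.coe_pow, hij, uC]
        rw [((((c.comm_z c.u_mem_C).symm).pow_pow i j)).eq, inv_mul_cancel_left]
        exact pow_mem c.z_mem_Z2 i
      · exfalso
        simp only [coe_mul, coe_inv] at e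
        have h2 : (x : G) * c.u * (x : G)⁻¹ = c.z * c.u := by rw [← e]; show _ = _ * c.u * _ * c.u⁻¹ * c.u; group
        have h3 : orderOf (c.z * c.u) = 3 := by rw [← h2, orderOf_conj, c.orderOf_u]
        rw [c.z_mul_u, c.ord] at h3
        omega
    · rintro _ ⟨i, rfl⟩
      rw [mem_centralizer_iff]
      rintro _ ⟨j, rfl⟩
      exact ((Commute.refl (π c.uC)).zpow_zpow j i).eq
  rcases S3331.result _ hX hcent with ⟨N, hN, hnil, hcop, hq⟩ | ⟨N, hN, hcomm, hsq, he⟩ | he
  · left
    obtain ⟨e⟩ : Nonempty {f : (c.C ⧸ c.Z2.subgroupOf c.C) ⧸ N →* Equiv.Perm (Fin 3) // Function.Injective f} := by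
      rcases hq with e | he
      · haveI := Fact.mk Nat.prime_three
        haveI : IsCyclic ((c.C ⧸ c.Z2.subgroupOf c.C) ⧸ N) := isCyclic_of_prime_card e
        obtain ⟨g, hg⟩ := IsCyclic.exists_generator (α := (c.C ⧸ c.Z2.subgroupOf c.C) ⧸ N)
        have h3 : Nat.card (alternatingGroup (Fin 3)) = 3 := by
          rw [nat_card_alternatingGroup, Nat.card_fin]; rfl
        haveI : IsCyclic (alternatingGroup (Fin 3)) := isCyclic_of_prime_card h3
        obtain e' := mulEquivOfCyclicCardEq (e.trans h3.symm)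
        exact ⟨⟨(alternatingGroup (Fin 3)).subtype.comp e'.toMonoidHom,
          (subtype_injective _).comp e'.injective⟩⟩
      · obtain e := Classical.choice he
        exact ⟨⟨e.toMonoidHom, e.injective⟩⟩
    set φ := (e.1.comp (QuotientGroup.mk' N)).comp π with hφ
    have hφk : ∀ x, φ x = 1 ↔ π x ∈ N := fun x => by
      rw [hφ, MonoidHom.comp_apply, MonoidHom.comp_apply, map_eq_one_iff _ e.2, QuotientGroup.mk'_apply,
        QuotientGroup.eq_one_iff]
    let f : φ.ker →* N := (π.comp φ.ker.subtype).codRestrict N fun x => (hφk x).mp x.2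
    haveI := hnil
    refine ⟨⟨φ, Subgroup.isNilpotent_of_ker_le_center f ?_, ?_, ?_⟩⟩
    · intro x hx
      have h1 : π (x : c.C) = 1 := congrArg Subtype.val (MonoidHom.mem_ker.mp hx)
      exact mem_center_iff.mpr fun y => Subtype.ext (hz _ ((hker _).mp h1) _)
    · rw [Nat.coprime_comm, Nat.prime_three.coprime_iff_not_dvd]
      intro hd
      haveI := Fact.mk Nat.prime_three
      obtain ⟨x, hx⟩ := exists_prime_orderOf_dvd_card' 3 hd
      have h1 : f x = 1 := orderOf_eq_one_iff.mp (Nat.eq_one_of_dvd_coprimes hcop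
        (_root_.orderOf_dvd_natCard (f x)) ((orderOf_map_dvd f x).trans (dvd_of_eq hx)))
      have h2 : ((x : c.C) : G) ∈ c.Z2 := (hker _).mp (congrArg Subtype.val h1)
      obtain ⟨k, hk⟩ := IsTwo.of_mem c.Z2_isTwo h2
      rw [Subgroup.orderOf_coe, Subgroup.orderOf_coe, hx] at hk
      exact absurd (Nat.prime_three.dvd_of_dvd_pow (dvd_of_eq hk)) (by norm_num)
    · intro e1
      refine hu1 (orderOf_eq_one_iff.mp (Nat.eq_one_of_dvd_coprimes hcop
        (Subgroup.orderOf_dvd_natCard N ((hφk _).mp e1)) ?_))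
      rw [orderOf_eq_three hu3 hu1]
  · right; left
    obtain e := Classical.choice he
    set φ := (e.toMonoidHom.comp (QuotientGroup.mk' N)).comp π with hφ
    have hφk : ∀ x, φ x = 1 ↔ π x ∈ N := fun x => by
      rw [hφ, MonoidHom.comp_apply, MonoidHom.comp_apply, MulEquiv.coe_toMonoidHom, map_eq_one_iff _ e.injective,
        QuotientGroup.mk'_apply, QuotientGroup.eq_one_iff]
    refine ⟨⟨φ, ?_, fun x hx => ?_, fun x y hx hy => ?_, fun x hx => ?_⟩⟩
    · exact (e.surjective.comp (QuotientGroup.mk'_surjective N)).comp (QuotientGroup.mk'_surjective _)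
    · have := hsq _ ((hφk x).mp hx)
      rw [← map_pow, hker, SubmonoidClass.coe_pow, pow_two] at this
      exact this
    · have h1 : π x * π y = π y * π x :=
        congrArg Subtype.val (hcomm.is_comm.comm (⟨π x, (hφk x).mp hx⟩ : N) ⟨π y, (hφk y).mp hy⟩)
      have h2 : π (x * y * x⁻¹ * y⁻¹) = 1 := by
        rw [map_mul, map_mul, map_mul, map_inv, map_inv, h1, mul_inv_cancel_right, mul_inv_cancel]
      have h3 := (hker _).mp h2
      simpa using h3
    · rw [hφk, (hker x).mpr hx]; exact one_mem _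
  · right; right
    obtain e := Classical.choice he
    exact ⟨e.toMonoidHom.comp π, e.surjective.comp (QuotientGroup.mk'_surjective _),
      fun x => (map_eq_one_iff _ e.injective).trans (hker x)⟩

theorem not_psl7 [IsSimpleGroup G] (hG : ¬ IsMulCommutative G)
    (φ : c.C →* Matrix.ProjectiveSpecialLinearGroup (Fin 2) (ZMod 7)) (surj : Function.Surjective φ)
    (hker : ∀ x, φ x = 1 ↔ (x : G) ∈ c.Z2) : False := by
  classical
  haveI := Fact.mk Nat.prime_two
  haveI := Psl7.fact_seven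
  obtain ⟨S, hS⟩ := c.exists_sylow
  let P7 := Matrix.ProjectiveSpecialLinearGroup (Fin 2) (ZMod 7)
  set P : Sylow 2 P7 := (S.subtype hS).mapSurjective surj with hP
  have hPmem : ∀ x : c.C, (x : G) ∈ (S : Subgroup G) → φ x ∈ (P : Subgroup P7) := fun x hx => by
    rw [hP, Sylow.coe_mapSurjective]
    exact mem_map_of_mem φ (by rw [Sylow.coe_subtype]; exact mem_subgroupOf.mpr hx)
  have hPsurj : ∀ p ∈ (P : Subgroup P7), ∃ x : c.C, (x : G) ∈ (S : Subgroup G) ∧ φ x = p := fun p hp => by
    rw [hP, Sylow.coe_mapSurjective] at hp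
    obtain ⟨x, hx, rfl⟩ := hp
    rw [Sylow.coe_subtype] at hx
    exact ⟨x, mem_subgroupOf.mp hx, rfl⟩
  obtain ⟨hconj, hshape⟩ := Fus.CentTwoPSL.psl_sylow (F := ZMod 7) (by rw [ZMod.card]; norm_num) P
  -- an element of order four
  obtain ⟨σ, m, hd, -⟩ : ∃ σ m, Fus.CentTwoPSL.DihData (P : Subgroup P7) σ m ∧ True := by
    rcases hshape with ⟨g, hg⟩ | ⟨σ, m, hd, -⟩
    · exfalso
      obtain ⟨a, ha⟩ : ∃ a : P7, orderOf a = 4 := ⟨_, Psl7.orderOf_four⟩
      obtain ⟨Q, hQ⟩ := (IsPGroup.of_card (p := 2) (n := 2) (G := zpowers a)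
        (by rw [Nat.card_zpowers, ha]; rfl)).exists_le_sylow
      obtain ⟨k, hk⟩ := MulAction.exists_smul_eq P7 Q P
      have h1 : k * a * k⁻¹ ∈ (P : Subgroup P7) := by
        rw [← hk, Sylow.coe_subgroup_smul, mem_pointwise_smul_iff_inv_smul_mem, ← map_inv]
        simpa [mul_assoc] using hQ (mem_zpowers a)
      have h2 : orderOf (k * a * k⁻¹) ∣ 2 := orderOf_dvd_of_pow_eq_one (by rw [pow_two]; exact hg.sq _ h1)
      rw [orderOf_conj, ha] at h2
      omega
    · exact ⟨σ, m, hd, trivial⟩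
  have hm : m = 3 := by
    have h1 : Nat.card (P : Subgroup P7) ∣ 168 := by
      rw [← Psl7.card_eq]; exact card_subgroup_dvd_card _
    rw [hd.card] at h1
    have h2 : m ≤ 3 := by
      by_contra hlt
      exact absurd ((pow_dvd_pow 2 (show 4 ≤ m by omega)).trans h1) (by norm_num)
    have := hd.three
    omega
  subst hm
  have hσ4 : orderOf σ = 4 := by rw [hd.order]; rfl
  -- squares of lifts of involutions are trivial
  obtain ⟨w, hwS, hw, hwz⟩ := c.exists_invol_ne hG hS
  have hwC := hS hwS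
  have hlift : ∀ x : c.C, (x : G) ∈ (S : Subgroup G) → φ x * φ x = 1 → (x : G) * x = 1 := by
    intro x hx hx2
    by_cases hx1 : φ x = 1
    · rcases c.mem_Z2.mp ((hker x).mp hx1) with e | e <;> rw [e]
      · exact one_mul 1
      · exact c.z_sq
    · have hw1 : φ ⟨w, hwC⟩ ≠ 1 := fun e => by
        rcases c.mem_Z2.mp ((hker _).mp e) with e' | e'
        · exact (sq_of_orderOf_two hw).2 e'
        · exact hwz e'
      have hw2 : φ ⟨w, hwC⟩ * φ ⟨w, hwC⟩ = 1 := by
        rw [← map_mul, show (⟨w, hwC⟩ : c.C) * ⟨w, hwC⟩ = 1 from Subtype.ext (sq_of_orderOf_two hw).1, map_one]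
      obtain ⟨g, hg⟩ := isConj_iff.mp (hconj _ (hPmem ⟨w, hwC⟩ hwS) _ (hPmem x hx) (orderOf_eq_two hw2 hw1)
        (orderOf_eq_two hx2 hx1))
      obtain ⟨g, rfl⟩ := surj g
      have h1 : φ (g * ⟨w, hwC⟩ * g⁻¹ * x⁻¹) = 1 := by
        rw [map_mul, map_mul, map_mul, map_inv, map_inv, hg, mul_inv_cancel]
      have h2 := (hker _).mp h1
      simp only [coe_mul, coe_inv] at h2
      have hwsq : (g : G) * w * (g : G)⁻¹ * ((g : G) * w * (g : G)⁻¹) = 1 := by
        rw [conj_mul, (sq_of_orderOf_two hw).1]; group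
      rcases c.mem_Z2.mp h2 with e | e
      · rw [← mul_inv_eq_one.mp e, hwsq]
      · have e' : (x : G) = c.z * ((g : G) * w * (g : G)⁻¹) := by
          rw [← c.z_inv, ← e]; group
        rw [e', show c.z * ((g : G) * w * (g : G)⁻¹) * (c.z * ((g : G) * w * (g : G)⁻¹)) =
          c.z * ((g : G) * w * (g : G)⁻¹ * c.z) * ((g : G) * w * (g : G)⁻¹) by group,
          (c.comm_z (c.C.mul_mem (c.C.mul_mem g.2 hwC) (c.C.inv_mem g.2))).eq, ← mul_assoc c.z, c.z_sq, one_mul,
          hwsq]
  obtain ⟨a, haS, ha⟩ := hPsurj σ hd.mem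
  set cc := (a : G) * a with hcc
  have hcS : cc ∈ (S : Subgroup G) := mul_mem haS haS
  have hc2 : cc * cc = 1 := by
    refine hlift (a * a) (mul_mem haS haS) ?_
    rw [map_mul, ha, show σ * σ * (σ * σ) = σ ^ 4 by simp only [pow_succ, pow_zero, one_mul, mul_assoc], ← hσ4,
      pow_orderOf_eq_one]
  have hc_notin : cc ∉ c.Z2 := fun hm => by
    have h1 := (hker (a * a)).mpr hm
    rw [map_mul, ha, ← pow_two] at h1
    have := orderOf_dvd_of_pow_eq_one h1
    rw [hσ4] at this
    omega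
  have hsquares : ∀ x : c.C, (x : G) ∈ (S : Subgroup G) → (x : G) * x = 1 ∨ (x : G) * x = cc := by
    intro x hx
    rcases hd.cases _ (hPmem x hx) with hm | ⟨h1, -⟩
    · obtain ⟨i, hi⟩ := hm
      have h1 : φ (a ^ i * x⁻¹) = 1 := by rw [map_mul, map_zpow, ha, map_inv]; show σ ^ i * _ = 1; rw [show σ ^ i = φ x from hi, mul_inv_cancel]
      have h2 : (a : G) ^ i * (x : G)⁻¹ ∈ c.Z2 := by simpa using (hker _).mp h1
      have hax : Commute ((a : G) ^ i) c.z := c.comm_z (c.C.zpow_mem a.2 i)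
      have hx2 : (x : G) * x = (a : G) ^ i * (a : G) ^ i := by
        rcases c.mem_Z2.mp h2 with e | e
        · rw [mul_inv_eq_one.mp e]
        · have e' : (x : G) = c.z * (a : G) ^ i := by
            rw [← c.z_inv, ← e]; group
          rw [e', mul_assoc, ← mul_assoc ((a : G) ^ i), hax.eq, mul_assoc c.z, ← mul_assoc c.z, c.z_sq, one_mul]
      rw [hx2, ← zpow_add, ← two_mul, zpow_mul, show (a : G) ^ (2 : ℤ) = cc by rw [zpow_two]]
      rcases Int.even_or_odd i with ⟨j, rfl⟩ | ⟨j, rfl⟩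
      · left; rw [← two_mul, zpow_mul, zpow_two, hc2, one_zpow]
      · right; rw [zpow_add, zpow_mul, zpow_two, hc2, one_zpow, one_mul, zpow_one]
    · exact Or.inl (hlift x hx h1)
  have hinv : ∀ n ∈ normalizer ((S : Subgroup G) : Set G), n * cc * n⁻¹ = cc := by
    intro n hn
    have hm := (mem_normalizer_iff.mp hn (a : G)).mp haS
    rw [hcc, show n * ((a : G) * a) * n⁻¹ = n * (a : G) * n⁻¹ * (n * (a : G) * n⁻¹) by group]
    rcases hsquares ⟨_, hS hm⟩ hm with e | e
    · exfalso
      apply hc_notin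
      have h1 : n * cc * n⁻¹ = 1 := by rw [hcc, show n * ((a : G) * a) * n⁻¹ = n * (a : G) * n⁻¹ * (n * (a : G) * n⁻¹) by group]; exact e
      rw [conj_eq_one_iff.mp h1]; exact one_mem _
    · exact e
  obtain ⟨n, hn, hnz⟩ := c.burnside hS (orderOf_eq_two hc2 fun e => hc_notin (by rw [e]; exact one_mem _))
    fun x hx => by
      have := hinv x (le_normalizer hx)
      exact mul_inv_eq_iff_eq_mul.mp this
  refine hc_notin (c.mem_Z2.mpr (Or.inr ?_))
  have h1 := hinv n⁻¹ (inv_mem hn)
  rw [← hnz] at h1 ⊢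
  rw [← h1]; group

end Cfg

end Cfsg.Agent.Invol.CentSix
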