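import Cfsg.Agent.Lib.Invol.CentSix.SolvU
import Cfsg.Agent.Lib.Invol.StronglyEmbedded
import Cfsg.Agent.S1221

/-!
# The soluble shape: the part of order prime to six is trivial

Otherwise its normaliser is strongly embedded.
-/

set_option autoImplicit false
set_option linter.style.haveILetI false

namespace Cfsg.Agent.Invol.CentSix

open Subgroup

namespace Cfg

variable {G : Type*} [Group G] [Finite G] {c : Cfg G}

/-- The elements of order prime to six centralising `p`. -/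
def sixPrime (p : G) : Set G := {x | Commute x p ∧ (orderOf x).Coprime 6}

theorem sixPrime_conj (g p x : G) : x ∈ sixPrime (g * p * g⁻¹) ↔ g⁻¹ * x * g ∈ sixPrime p := by
  have key : orderOf (g⁻¹ * x * g) = orderOf x := by
    simpa using orderOf_conj g⁻¹ x
  simp only [sixPrime, Set.mem_setOf_eq, key]
  refine and_congr_left fun _ => ⟨fun h => ?_, fun h => ?_⟩
  · have h1 := h.map (MulAut.conj g⁻¹).toMonoidHom
    simp only [MulEquiv.toMonoidHom_eq_coe, MonoidHom.coe_coe, MulAut.conj_apply, inv_inv] at h1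
    rwa [show g⁻¹ * (g * p * g⁻¹) * g = p by group] at h1
  · have h1 := h.map (MulAut.conj g).toMonoidHom
    simp only [MulEquiv.toMonoidHom_eq_coe, MonoidHom.coe_coe, MulAut.conj_apply] at h1
    rwa [show g * (g⁻¹ * x * g) * g⁻¹ = x by group] at h1

theorem ncard_sixPrime_conj (g p : G) : (sixPrime (g * p * g⁻¹)).ncard = (sixPrime p).ncard := by
  have h : sixPrime (g * p * g⁻¹) = MulAut.conj g '' sixPrime p := by
    ext x
    rw [sixPrime_conj]
    constructor
    · intro hx; exact ⟨_, hx, by simp [mul_assoc]⟩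
    · rintro ⟨y, hy, rfl⟩; simpa [mul_assoc] using hy
  rw [h, Set.ncard_image_of_injective _ (MulAut.conj g).injective]

namespace SolvShape

variable (d : c.SolvShape) {S : Sylow 2 G}

theorem sixPrime_z : sixPrime c.z = (d.K : Set G) := by
  ext x
  rw [SetLike.mem_coe, d.mem_K, sixPrime, Set.mem_setOf_eq, c.mem_C]
  rfl

theorem sixPrime_of_mem_T {a : G} (ha : a ∈ d.T) (ha2 : orderOf a = 2) : sixPrime a = sixPrime c.z := by
  obtain ⟨g, hg⟩ := c.exists_conj_invol ha2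
  refine (Set.eq_of_subset_of_ncard_le ?_ ?_ (Set.toFinite _)).symm
  · intro x hx
    rw [d.sixPrime_z] at hx
    exact ⟨(d.T_comm_K ha hx).symm, (d.mem_K.mp hx).2⟩
  · rw [← hg, ncard_sixPrime_conj]

/-- An involution of the Sylow subgroup with a commuting vector of `U` lies in `T`. -/
theorem invol_mem_T (hS : (S : Subgroup G) ≤ c.C) (D : d.UData S) (hK : d.K ≠ ⊥) {s : G}
    (hs : s ∈ (S : Subgroup G)) (hs2 : orderOf s = 2) : s ∈ d.T := by
  classical
  haveI := Fact.mk Nat.prime_two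
  by_contra hsT
  obtain ⟨hss, -⟩ := sq_of_orderOf_two hs2
  have hsC := hS hs
  have hsU : ∀ x ∈ D.U, s * x * s⁻¹ ∈ D.U := fun x hx => (mem_normalizer_iff.mp (D.normal hsC) x).mp hx
  -- a vector outside `⟨z⟩` fixed by `s`
  obtain ⟨a, haU, haz, has⟩ : ∃ a ∈ D.U, a ∉ c.Z2 ∧ Commute a s := by
    have he := D.fixed s hs
    rcases c.mem_Z2.mp he with h1 | h1
    · exact ⟨D.e, D.e_mem, D.e_notMem, (mul_inv_eq_iff_eq_mul.mp (mul_inv_eq_one.mp h1)).symm⟩
    have hes : s * D.e * s⁻¹ = c.z * D.e := by rw [← h1]; group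
    set v := c.u * D.e * c.u⁻¹
    have hv : v ∈ D.U := (mem_normalizer_iff.mp (D.normal c.u_mem_C) _).mp D.e_mem
    have hvz : v ∉ c.Z2 := fun hm => D.e_notMem ((mem_normalizer_iff.mp (c.Z2_normal c.u_mem_C) _).mpr hm)
    have hvv : v * v = 1 := D.sq v hv
    set w := v * (s * v * s⁻¹) with hw
    have hcomm : ∀ x ∈ D.U, ∀ y ∈ D.U, Commute x y := fun x hx y hy => by
      show x * y = y * x
      rw [eq_inv_of_mul_eq_one_left (D.sq _ (D.U.mul_mem hx hy)), mul_inv_rev,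
        inv_eq_of_mul_eq_one_left (D.sq x hx), inv_eq_of_mul_eq_one_left (D.sq y hy)]
    have hfw : s * w * s⁻¹ = w := by
      rw [hw, show s * (v * (s * v * s⁻¹)) * s⁻¹ = s * v * s⁻¹ * (s * s * v * (s * s)⁻¹) by group, hss, one_mul,
        inv_one, mul_one]
      exact (hcomm _ (hsU v hv) _ hv).eq
    by_cases hwz : w ∈ c.Z2
    · rcases c.mem_Z2.mp hwz with h2 | h2
      · refine ⟨v, hv, hvz, (mul_inv_eq_iff_eq_mul.mp ?_).symm⟩
        rw [← inv_eq_of_mul_eq_one_right h2]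
        exact inv_eq_of_mul_eq_one_left hvv
      · have hsv : s * v * s⁻¹ = c.z * v := by
          have h3 : s * v * s⁻¹ = v * w := by
            calc s * v * s⁻¹ = v⁻¹ * w := by rw [hw, inv_mul_cancel_left]
              _ = v * w := by rw [inv_eq_of_mul_eq_one_left hvv]
          rw [h3, h2, (c.comm_z (d.T_le (D.le hv))).eq]
        refine ⟨D.e * v, D.U.mul_mem D.e_mem hv, fun hm => D.e_notMem ?_, (mul_inv_eq_iff_eq_mul.mp ?_).symm⟩
        · refine Cfg.moved_mod d.T_le d.T_isTwo d.z_mem_T c.u_mem_C c.orderOf_u (D.le D.e_mem) ?_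
          rwa [inv_eq_of_mul_eq_one_left (D.sq _ D.e_mem)]
        · rw [show s * (D.e * v) * s⁻¹ = s * D.e * s⁻¹ * (s * v * s⁻¹) by group, hes, hsv,
            show c.z * D.e * (c.z * v) = c.z * (D.e * c.z) * v by group, (c.comm_z (d.T_le (D.le D.e_mem))).eq,
            ← mul_assoc c.z, c.z_sq, one_mul]
    · exact ⟨w, D.U.mul_mem hv (hsU v hv), hwz, (mul_inv_eq_iff_eq_mul.mp hfw).symm⟩
  obtain ⟨g, hg⟩ := c.exists_conj_invol hs2
  have haT := D.le haU
  have haa := D.sq a haU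
  -- pull back to `C`
  have pull : ∀ b, Commute b s → g⁻¹ * b * g ∈ c.C := fun b hb => by
    rw [← hg] at hb
    refine c.mem_C.mpr ?_
    calc g⁻¹ * b * g * c.z = g⁻¹ * (b * (g * c.z * g⁻¹)) * g := by group
      _ = c.z * (g⁻¹ * b * g) := by rw [hb.eq]; group
  have hzs : Commute c.z s := (c.comm_z hsC).symm
  have hφ2 : ∀ b (hb : Commute b s), b * b = 1 → d.φ ⟨_, pull b hb⟩ * d.φ ⟨_, pull b hb⟩ = 1 := by
    intro b hb hb2
    rw [← map_mul, show (⟨_, pull b hb⟩ : c.C) * ⟨_, pull b hb⟩ = 1 from Subtype.ext (by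
      show g⁻¹ * b * g * (g⁻¹ * b * g) = 1
      rw [show g⁻¹ * b * g * (g⁻¹ * b * g) = g⁻¹ * (b * b) * g by group, hb2, mul_one, inv_mul_cancel]), map_one]
  have hza2 : c.z * a * (c.z * a) = 1 := by
    rw [show c.z * a * (c.z * a) = c.z * (a * c.z) * a by group, (c.comm_z (d.T_le haT)).eq, ← mul_assoc c.z,
      c.z_sq, one_mul, haa]
  obtain ⟨b, hbs, hbT, hb1, hφb⟩ : ∃ b, ∃ hbs : Commute b s, b ∈ d.T ∧ orderOf b = 2 ∧ d.φ ⟨_, pull b hbs⟩ = 1 := by
    by_cases hz1 : d.φ ⟨_, pull c.z hzs⟩ = 1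
    · exact ⟨c.z, hzs, d.z_mem_T, c.orderOf_z, hz1⟩
    by_cases ha1 : d.φ ⟨_, pull a has⟩ = 1
    · exact ⟨a, has, haT, orderOf_eq_two haa fun e => haz (by rw [e]; exact one_mem _), ha1⟩
    refine ⟨c.z * a, hzs.mul_left has, d.T.mul_mem d.z_mem_T haT, orderOf_eq_two hza2 fun e => haz ?_, ?_⟩
    · rw [eq_inv_of_mul_eq_one_right e]; exact inv_mem c.z_mem_Z2
    have hp : (⟨_, pull (c.z * a) (hzs.mul_left has)⟩ : c.C) = ⟨_, pull c.z hzs⟩ * ⟨_, pull a has⟩ :=
      Subtype.ext (by simp [mul_assoc])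
    have he := perm3_unique _ _ (hφ2 _ hzs c.z_sq) hz1 (hφ2 _ has haa) ha1
      (by rw [← map_mul, ← hp]; exact hφ2 (c.z * a) (hzs.mul_left has) hza2)
    rw [hp, map_mul, he]
    exact hφ2 a has haa
  have hb2 := (sq_of_orderOf_two hb1).1
  have hbT' : g⁻¹ * b * g ∈ d.T := d.mem_T.mpr ⟨pull b hbs, hφb, by
    simpa using (isTwo_invol hb2).conj g⁻¹⟩
  have hord : orderOf (g⁻¹ * b * g) = 2 := by rw [← hb1]; simpa using orderOf_conj g⁻¹ b
  -- `s` centralises `K`
  have hsK : ∀ x ∈ d.K, Commute x s := by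
    intro x hx
    have h1 : x ∈ sixPrime b := by rw [d.sixPrime_of_mem_T hbT hb1, d.sixPrime_z]; exact hx
    rw [show b = g * (g⁻¹ * b * g) * g⁻¹ by group, sixPrime_conj, d.sixPrime_of_mem_T hbT' hord,
      ← sixPrime_conj g c.z x, hg] at h1
    exact h1.1
  -- the centraliser of `K` in `C` contains an element of order three
  refine hK (eq_bot_iff.mpr fun x hx => ?_)
  set m := s * c.u * s⁻¹ * c.u⁻¹ with hm
  have hmC : m ∈ c.C := c.C.mul_mem (c.C.mul_mem (c.C.mul_mem hsC c.u_mem_C) (c.C.inv_mem hsC)) (c.C.inv_mem c.u_mem_C)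
  have hmK : Commute x m := by
    have h1 : Commute x (c.u * s⁻¹ * c.u⁻¹) := by
      have hx' : c.u⁻¹ * x * c.u ∈ d.K := by
        have := (mem_normalizer_iff.mp (d.K_normal (inv_mem c.u_mem_C)) x).mp hx
        rwa [inv_inv] at this
      have h2 := ((hsK _ hx').inv_right).map (MulAut.conj c.u).toMonoidHom
      simp only [MulEquiv.toMonoidHom_eq_coe, MonoidHom.coe_coe, MulAut.conj_apply] at h2
      rwa [show c.u * (c.u⁻¹ * x * c.u) * c.u⁻¹ = x by group] at h2
    rw [hm, show s * c.u * s⁻¹ * c.u⁻¹ = s * (c.u * s⁻¹ * c.u⁻¹) by group]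
    exact (hsK x hx).mul_right h1
  obtain ⟨h1, h3, -⟩ := perm3_commutator _ _ (d.phi_invol_of_isTwo (x := ⟨s, hsC⟩) (isTwo_invol hss))
    (fun e => hsT (d.mem_T_of_phi hS hs e)) d.phi_u_three d.hu
  have hd : 3 ∣ orderOf m := by
    have h4 : orderOf (d.φ ⟨m, hmC⟩) = 3 := by
      rw [show (⟨m, hmC⟩ : c.C) = ⟨s, hsC⟩ * c.uC * (⟨s, hsC⟩ : c.C)⁻¹ * c.uC⁻¹ from Subtype.ext rfl,
        map_mul, map_mul, map_mul, map_inv, map_inv]
      exact orderOf_eq_three h3 h1
    rw [← h4, show orderOf m = orderOf (⟨m, hmC⟩ : c.C) by rw [← Subgroup.orderOf_coe]]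
    exact orderOf_map_dvd d.φ _
  have ha3 := orderOf_pow_orderOf_div (orderOf_pos m).ne' hd
  exact mem_bot.mpr (c.six_fixed (c.C.pow_mem hmC _) ha3 (d.K_le hx) (hmK.pow_right _) (d.mem_K.mp hx).2)

theorem K_eq_bot [IsSimpleGroup G] (hG : ¬ IsMulCommutative G) (hS : (S : Subgroup G) ≤ c.C) (D : d.UData S) :
    d.K = ⊥ := by
  classical
  haveI := Fact.mk Nat.prime_two
  by_contra hK
  set H := normalizer (d.K : Set G)
  have hCH : c.C ≤ H := d.K_normal
  -- every involution of `H` has `K` as its part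
  have hinv : ∀ a ∈ H, orderOf a = 2 → sixPrime a = (d.K : Set G) := by
    intro a ha ha2
    have hSH : (S : Subgroup G) ≤ H := hS.trans hCH
    obtain ⟨P, hP⟩ := (IsPGroup.of_card (p := 2) (n := 1) (G := zpowers (⟨a, ha⟩ : H))
      (by rw [Nat.card_zpowers, ← Subgroup.orderOf_coe, pow_one]; exact ha2)).exists_le_sylow
    obtain ⟨h, hh⟩ := MulAction.exists_smul_eq H P (S.subtype hSH)
    have h1 : h * ⟨a, ha⟩ * h⁻¹ ∈ (S.subtype hSH : Subgroup H) := by
      rw [← hh, Sylow.coe_subgroup_smul, mem_pointwise_smul_iff_inv_smul_mem, ← map_inv]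
      simpa [mul_assoc] using hP (mem_zpowers _)
    rw [Sylow.coe_subtype, mem_subgroupOf] at h1
    simp only [coe_mul, coe_inv] at h1
    have hord : orderOf ((h : G) * a * (h : G)⁻¹) = 2 := by rw [orderOf_conj, ha2]
    have h2 := d.sixPrime_of_mem_T (d.invol_mem_T hS D hK h1 hord) hord
    rw [d.sixPrime_z] at h2
    ext x
    have h4 : x ∈ sixPrime a ↔ (h : G) * x * (h : G)⁻¹ ∈ sixPrime ((h : G) * a * (h : G)⁻¹) := by
      rw [sixPrime_conj]; simp [mul_assoc]
    rw [h4, h2]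
    exact (mem_normalizer_iff.mp h.2 x).symm
  have htop : H ≠ ⊤ := fun e => by
    haveI : d.K.Normal := normalizer_eq_top_iff.mp e
    rcases (inferInstance : d.K.Normal).eq_bot_or_eq_top with e1 | e1
    · exact hK e1
    · exact c.z_ne (by
        have hz : c.z ∈ d.K := e1 ▸ mem_top _
        refine orderOf_eq_one_iff.mp (Nat.eq_one_of_dvd_coprimes (d.mem_K.mp hz).2 dvd_rfl ?_)
        rw [c.orderOf_z]; norm_num)
  have heven : Even (Nat.card H) := even_iff_two_dvd.mpr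
    (c.orderOf_z ▸ Subgroup.orderOf_dvd_natCard H (hCH c.z_mem_C))
  have hse : Cfsg.IsStronglyEmbedded H := by
    refine (isStronglyEmbedded_iff htop heven).mpr fun t ht ht2 g hg => ?_
    have ht2' : orderOf (g⁻¹ * t * g) = 2 := by rw [← ht2]; simpa using orderOf_conj g⁻¹ t
    have h1 := hinv _ hg ht2'
    have h2 := hinv t ht ht2
    rw [mem_normalizer_iff]
    intro x
    have h3 : g * x * g⁻¹ ∈ sixPrime (g * (g⁻¹ * t * g) * g⁻¹) ↔ x ∈ sixPrime (g⁻¹ * t * g) := by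
      rw [sixPrime_conj]; simp [mul_assoc]
    rw [show g * (g⁻¹ * t * g) * g⁻¹ = t by group, h1, h2] at h3
    exact h3.symm
  have h5 := S1221.result H hse
  have hKH : d.K ≤ H := le_normalizer
  have hodd : (Nat.card (d.K.subgroupOf H)).Coprime 2 := by
    rw [Nat.card_congr (subgroupOfEquivOfLe hKH).toEquiv, SolvShape.K,
      card_map_of_injective d.incl_injective]
    exact Grp.pPrimeCore_coprime
  have h6 : d.K ≤ Cfsg.oddCore G := fun x hx => h5 ⟨⟨x, hKH hx⟩,
    Grp.le_pPrimeCore (normal_subgroupOf_of_le_normalizer le_rfl) hodd (mem_subgroupOf.mpr hx), rfl⟩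
  have h7 : Cfsg.oddCore G = ⊥ := by
    rcases (Grp.pPrimeCore_isNormal (p := 2) (G := G)).eq_bot_or_eq_top with e | e
    · exact e
    · exfalso
      have h8 := Grp.pPrimeCore_coprime (p := 2) (G := G)
      rw [e, card_top] at h8
      exact absurd (Nat.eq_one_of_dvd_coprimes h8 (c.orderOf_z ▸ _root_.orderOf_dvd_natCard c.z) dvd_rfl) (by norm_num)
  exact hK (eq_bot_iff.mpr (h6.trans (le_of_eq h7)))

end SolvShape

end Cfg

end Cfsg.Agent.Invol.CentSix
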