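import Cfsg.Agent.Lib.Invol.CentSix.Solv

/-!
# The soluble shape: the elementary normal subgroup of order eight

Either `T` is `⟨z⟩`, or it is quaternion of order eight, or it contains such a subgroup.
-/

set_option autoImplicit false
set_option linter.style.haveILetI false

namespace Cfsg.Agent.Invol.CentSix

open Subgroup

theorem fin2_eq : ∀ a b : Fin 2, a + b = 0 → a = b := by decide

namespace Cfg

variable {G : Type*} [Group G] [Finite G] {c : Cfg G}

/-- `Y(T)`: the elements with square and commutators in `⟨z⟩`. -/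
def InY (c : Cfg G) (T : Subgroup G) (y : G) : Prop :=
  y ∈ T ∧ y * y ∈ c.Z2 ∧ ∀ t ∈ T, y * t * y⁻¹ * t⁻¹ ∈ c.Z2

/-- A normal subgroup not inside `⟨z⟩` meets `Y(T)` outside it. -/
theorem exists_inY {T D : Subgroup G} (hT : T ≤ c.C) (hT2 : IsPGroup 2 T) (hDT : D ≤ T)
    (hDn : T ≤ normalizer (D : Set G)) (hz : c.z ∈ D) (hne : ¬ D ≤ c.Z2) :
    ∃ y ∈ D, InY c T y ∧ y ∉ c.Z2 := by
  classical
  haveI := Fact.mk Nat.prime_two
  haveI hn : (c.Z2.subgroupOf T).Normal := normal_subgroupOf_of_le_normalizer fun m hm => c.Z2_normal (hT hm)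
  set π := QuotientGroup.mk' (c.Z2.subgroupOf T) with hπ
  have hker : ∀ x, π x = 1 ↔ (x : G) ∈ c.Z2 := fun x => by
    rw [hπ, QuotientGroup.mk'_apply, QuotientGroup.eq_one_iff, mem_subgroupOf]
  haveI : (D.subgroupOf T).Normal := normal_subgroupOf_of_le_normalizer hDn
  haveI : ((D.subgroupOf T).map π).Normal := Normal.map inferInstance π (QuotientGroup.mk'_surjective _)
  have hQ2 : IsPGroup 2 (T ⧸ c.Z2.subgroupOf T) := hT2.to_quotient _
  haveI : Group.IsNilpotent (T ⧸ c.Z2.subgroupOf T) := hQ2.isNilpotent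
  have hne' : (D.subgroupOf T).map π ≠ ⊥ := fun e => hne fun x hx => by
    have h1 := mem_map_of_mem π (show (⟨x, hDT hx⟩ : T) ∈ D.subgroupOf T from mem_subgroupOf.mpr hx)
    rw [e, mem_bot, hker] at h1
    exact h1
  have hmeet := Grp.inf_center_ne_bot _ hne'
  obtain ⟨n, hn0, hn'⟩ := ((hQ2.to_subgroup _).nontrivial_iff_card).mp ((nontrivial_iff_ne_bot _).mpr hmeet)
  obtain ⟨b, hb⟩ := exists_prime_orderOf_dvd_card'
    (G := ↥((D.subgroupOf T).map π ⊓ center (T ⧸ c.Z2.subgroupOf T))) 2 (by rw [hn']; exact dvd_pow_self 2 (by omega))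
  rw [← Subgroup.orderOf_coe] at hb
  obtain ⟨x, hx, hxb⟩ := (mem_inf.mp b.2).1
  have hcen := (mem_inf.mp b.2).2
  rw [← hxb] at hb hcen
  refine ⟨x, mem_subgroupOf.mp hx, ⟨x.2, ?_, fun t ht => ?_⟩, fun hm => ?_⟩
  · have := (sq_of_orderOf_two hb).1
    rw [← map_mul, hker] at this
    exact this
  · have h1 := mem_center_iff.mp hcen (π ⟨t, ht⟩)
    have h2 : π (x * ⟨t, ht⟩ * x⁻¹ * (⟨t, ht⟩ : T)⁻¹) = 1 := by
      rw [map_mul, map_mul, map_mul, map_inv, map_inv, ← h1, mul_inv_cancel_right, mul_inv_cancel]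
    have h3 := (hker _).mp h2
    simpa using h3
  · exact (sq_of_orderOf_two hb).2 ((hker x).mpr hm)

/-- Products stay in `Y(T)`. -/
theorem InY.mul {T : Subgroup G} (hT : T ≤ c.C) {a b : G} (ha : InY c T a) (hb : InY c T b) :
    InY c T (a * b) := by
  refine ⟨mul_mem ha.1 hb.1, ?_, fun t ht => ?_⟩
  · have hm : a⁻¹ * b * a * b⁻¹ ∈ c.Z2 := by
      have h1 := (mem_normalizer_iff.mp (c.Z2_normal (inv_mem (hT ha.1))) _).mp (ha.2.2 b hb.1)
      have h2 := inv_mem h1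
      rw [show (a⁻¹ * (a * b * a⁻¹ * b⁻¹) * a⁻¹⁻¹)⁻¹ = a⁻¹ * b * a * b⁻¹ by group] at h2
      exact h2
    rw [show a * b * (a * b) = a * a * (a⁻¹ * b * a * b⁻¹) * (b * b) by group]
    exact mul_mem (mul_mem ha.2.1 hm) hb.2.1
  · rw [show a * b * t * (a * b)⁻¹ * t⁻¹ = a * (b * t * b⁻¹ * t⁻¹) * a⁻¹ * (a * t * a⁻¹ * t⁻¹) by group]
    exact mul_mem ((mem_normalizer_iff.mp (c.Z2_normal (hT ha.1)) _).mp (hb.2.2 t ht)) (ha.2.2 t ht)

theorem InY.of_Z2 {T : Subgroup G} (hT : T ≤ c.C) (hz : c.z ∈ T) {a : G} (ha : a ∈ c.Z2) : InY c T a := by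
  rcases c.mem_Z2.mp ha with rfl | rfl
  · exact ⟨one_mem _, by simp, fun t _ => by simp⟩
  · exact ⟨hz, by rw [c.z_sq]; exact one_mem _, fun t ht => by
      rw [((c.comm_z (hT ht)).symm).eq, mul_inv_cancel_right, mul_inv_cancel]; exact one_mem _⟩

theorem InY.conj {T : Subgroup G} {g : G} (hg : g ∈ c.C) (hgT : g ∈ normalizer (T : Set G)) {a : G}
    (ha : InY c T a) : InY c T (g * a * g⁻¹) := by
  refine ⟨(mem_normalizer_iff.mp hgT a).mp ha.1, ?_, fun t ht => ?_⟩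
  · rw [conj_mul]; exact (mem_normalizer_iff.mp (c.Z2_normal hg) _).mp ha.2.1
  · have ht' : g⁻¹ * t * g ∈ T := by
      have := (mem_normalizer_iff.mp (inv_mem hgT) t).mp ht
      rwa [inv_inv] at this
    have h1 := (mem_normalizer_iff.mp (c.Z2_normal hg) _).mp (ha.2.2 _ ht')
    rwa [show g * (a * (g⁻¹ * t * g) * a⁻¹ * (g⁻¹ * t * g)⁻¹) * g⁻¹
      = g * a * g⁻¹ * t * (g * a * g⁻¹)⁻¹ * t⁻¹ by group] at h1

/-- `u` moves every element of `T` outside `⟨z⟩` modulo `z`. -/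
theorem moved_mod {T : Subgroup G} (hT : T ≤ c.C) (hT2 : IsPGroup 2 T) (hz : c.z ∈ T) {a x : G} (ha : a ∈ c.C)
    (ha3 : orderOf a = 3) (hx : x ∈ T) (h : x⁻¹ * (a * x * a⁻¹) ∈ c.Z2) : x ∈ c.Z2 := by
  obtain ⟨m, hm, hc⟩ := exists_fixed_lift c.Z2_isTwo ha3 (c.Z2_normal ha) h
  have hmT : m ∈ T := (zpowers_le.mpr hz : c.Z2 ≤ T) hm
  exact (Subgroup.mul_mem_cancel_right _ hm).mp
    (c.two_fixed ha ha3 (hT (mul_mem hx hmT)) hc (IsTwo.of_mem hT2 (mul_mem hx hmT)))

/-- The four-group over `⟨z⟩` spanned by an involution and its conjugate under `u`. -/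
theorem exists_quad {T : Subgroup G} (hT : T ≤ c.C) (hT2 : IsPGroup 2 T) (hz : c.z ∈ T)
    (hu : c.u ∈ normalizer (T : Set G)) {e : G} (he : e ∈ T) (he2 : e * e = 1) (hne : e ∉ c.Z2) :
    ∃ U : Subgroup G, Nat.card U = 8 ∧ (∀ x ∈ U, x * x = 1) ∧ U ≤ T ∧ c.z ∈ U ∧ e ∈ U ∧
      c.u ∈ normalizer (U : Set G) ∧ U = c.Z2 ⊔ zpowers e ⊔ zpowers (c.u * e * c.u⁻¹) := by
  classical
  set e' := c.u * e * c.u⁻¹ with he'
  have he'T : e' ∈ T := (mem_normalizer_iff.mp hu e).mp he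
  have he'2 : e' * e' = 1 := by rw [he', conj_mul, he2]; group
  have hee : Commute e e' := c.comm_orbit hT hT2 hz c.u_mem_C c.orderOf_u hu he he2
  have hez : Commute e c.z := c.comm_z (hT he)
  have he'z : Commute e' c.z := c.comm_z (hT he'T)
  set U := c.Z2 ⊔ zpowers e ⊔ zpowers e' with hU
  have hzU : c.z ∈ U := mem_sup_left (mem_sup_left c.z_mem_Z2)
  have heU : e ∈ U := mem_sup_left (mem_sup_right (mem_zpowers _))
  have he'U : e' ∈ U := mem_sup_right (mem_zpowers _)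
  have hUT : U ≤ T := sup_le (sup_le (zpowers_le.mpr hz) (zpowers_le.mpr he)) (zpowers_le.mpr he'T)
  -- elements of `U`
  let f : Fin 2 × Fin 2 × Fin 2 → G := fun p => c.z ^ (p.1 : ℕ) * e ^ (p.2.1 : ℕ) * e' ^ (p.2.2 : ℕ)
  have hfsq : ∀ p, f p * f p = 1 := by
    rintro ⟨i, j, k⟩
    have hz2 : (c.z ^ (i : ℕ)) * c.z ^ (i : ℕ) = 1 := by rw [← (Commute.refl c.z).mul_pow, c.z_sq, one_pow]
    have he3 : (e ^ (j : ℕ)) * e ^ (j : ℕ) = 1 := by rw [← (Commute.refl e).mul_pow, he2, one_pow]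
    have he4 : (e' ^ (k : ℕ)) * e' ^ (k : ℕ) = 1 := by rw [← (Commute.refl e').mul_pow, he'2, one_pow]
    have h1 : Commute (e' ^ (k : ℕ)) (c.z ^ (i : ℕ) * e ^ (j : ℕ)) :=
      (he'z.pow_pow _ _).mul_right (hee.symm.pow_pow _ _)
    calc c.z ^ (i : ℕ) * e ^ (j : ℕ) * e' ^ (k : ℕ) * (c.z ^ (i : ℕ) * e ^ (j : ℕ) * e' ^ (k : ℕ))
        = c.z ^ (i : ℕ) * e ^ (j : ℕ) * (e' ^ (k : ℕ) * (c.z ^ (i : ℕ) * e ^ (j : ℕ))) * e' ^ (k : ℕ) := by group
      _ = c.z ^ (i : ℕ) * (e ^ (j : ℕ) * c.z ^ (i : ℕ)) * e ^ (j : ℕ) * (e' ^ (k : ℕ) * e' ^ (k : ℕ)) := by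
        rw [h1.eq]; group
      _ = c.z ^ (i : ℕ) * c.z ^ (i : ℕ) * (e ^ (j : ℕ) * e ^ (j : ℕ)) := by
        rw [(hez.pow_pow (j : ℕ) (i : ℕ)).eq, he4]; group
      _ = 1 := by rw [hz2, he3, one_mul]
  let A : Subgroup G :=
    { carrier := Set.range f
      one_mem' := ⟨(0, 0, 0), by simp [f]⟩
      mul_mem' := by
        rintro _ _ ⟨⟨i, j, k⟩, rfl⟩ ⟨⟨i', j', k'⟩, rfl⟩
        refine ⟨(i + i', j + j', k + k'), ?_⟩
        have hp : ∀ (x : G) (a b : Fin 2), x * x = 1 → x ^ ((a + b : Fin 2) : ℕ) = x ^ (a : ℕ) * x ^ (b : ℕ) := by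
          intro x a b hx
          fin_cases a <;> fin_cases b <;> simp [hx]
        show c.z ^ _ * e ^ _ * e' ^ _ = _
        rw [hp _ _ _ c.z_sq, hp _ _ _ he2, hp _ _ _ he'2]
        have h1 : Commute (e ^ (j : ℕ) * e' ^ (k : ℕ)) (c.z ^ (i' : ℕ)) :=
          (hez.pow_pow _ _).mul_left (he'z.pow_pow _ _)
        have h2 : Commute (e' ^ (k : ℕ)) (e ^ (j' : ℕ)) := hee.symm.pow_pow _ _
        calc c.z ^ (i : ℕ) * c.z ^ (i' : ℕ) * (e ^ (j : ℕ) * e ^ (j' : ℕ)) * (e' ^ (k : ℕ) * e' ^ (k' : ℕ))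
            = c.z ^ (i : ℕ) * c.z ^ (i' : ℕ) * e ^ (j : ℕ) * (e ^ (j' : ℕ) * e' ^ (k : ℕ)) * e' ^ (k' : ℕ) := by group
          _ = c.z ^ (i : ℕ) * (c.z ^ (i' : ℕ) * (e ^ (j : ℕ) * e' ^ (k : ℕ))) * e ^ (j' : ℕ) * e' ^ (k' : ℕ) := by
            rw [← h2.eq]; group
          _ = _ := by rw [← h1.eq]; simp only [f]; group
      inv_mem' := by
        rintro _ ⟨p, rfl⟩
        exact ⟨p, (inv_eq_of_mul_eq_one_left (hfsq p)).symm⟩ }
  have hUA : U ≤ A := sup_le (sup_le (zpowers_le.mpr ⟨(1, 0, 0), by simp [f]⟩)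
    (zpowers_le.mpr ⟨(0, 1, 0), by simp [f]⟩)) (zpowers_le.mpr ⟨(0, 0, 1), by simp [f]⟩)
  have hAU : A ≤ U := by
    rintro _ ⟨p, rfl⟩
    exact mul_mem (mul_mem (pow_mem hzU _) (pow_mem heU _)) (pow_mem he'U _)
  have hUeq : U = A := le_antisymm hUA hAU
  have huU : c.u ∈ normalizer (U : Set G) := by
    have h2 : c.u * e' * c.u⁻¹ ∈ U := by
      have h3 := c.orbit_prod hT hT2 hz c.u_mem_C c.orderOf_u hu he
      have h4 : c.u * c.u * e * (c.u * c.u)⁻¹ = c.u * e' * c.u⁻¹ := by rw [he']; group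
      rw [h4, ← he'] at h3
      have h5 : (e * e')⁻¹ * (e * e' * (c.u * e' * c.u⁻¹)) ∈ U :=
        mul_mem (inv_mem (mul_mem heU he'U)) ((zpowers_le.mpr hzU : c.Z2 ≤ U) h3)
      rwa [inv_mul_cancel_left] at h5
    have hmap : U.map (MulAut.conj c.u).toMonoidHom ≤ U := by
      rw [hU, Subgroup.map_sup, Subgroup.map_sup, Cfg.Z2, MonoidHom.map_zpowers, MonoidHom.map_zpowers,
        MonoidHom.map_zpowers]
      refine sup_le (sup_le (zpowers_le.mpr ?_) (zpowers_le.mpr ?_)) (zpowers_le.mpr h2)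
      · show c.u * c.z * c.u⁻¹ ∈ _
        rw [c.conj_z c.u_mem_C]; exact hzU
      · exact he'U
    have heq := eq_of_le_of_card_ge hmap (by rw [card_map_of_injective (MulEquiv.injective _)])
    rw [mem_normalizer_iff]
    intro x
    constructor
    · intro hx; exact heq ▸ mem_map_of_mem _ hx
    · intro hx
      rw [← heq] at hx
      obtain ⟨y, hy, hy'⟩ := hx
      exact (MulAut.conj c.u).injective hy' ▸ hy
  refine ⟨U, ?_, fun x hx => ?_, hUT, hzU, heU, huU, rfl⟩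
  · -- eight distinct elements
    have hinj : Function.Injective f := by
      have key : ∀ p, f p = 1 → p = (0, 0, 0) := by
        rintro ⟨i, j, k⟩ h
        have hej : e' ∉ c.Z2 := fun hm => hne (by
          have := (mem_normalizer_iff.mp (c.Z2_normal c.u_mem_C) e).mpr hm
          exact this)
        have hcomb : ∀ a b, a ∈ c.Z2 → a * b = 1 → b ∈ c.Z2 := fun a b ha hab => by
          rw [eq_inv_of_mul_eq_one_right hab]; exact inv_mem ha
        fin_cases i <;> fin_cases j <;> fin_cases k <;> simp [f] at h <;>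
          first
          | rfl
          | exact absurd (show e ∈ c.Z2 by rw [h]; exact one_mem _) hne
          | exact absurd (show e' ∈ c.Z2 by rw [h]; exact one_mem _) hej
          | exact absurd h c.z_ne
          | exact absurd (hcomb _ _ c.z_mem_Z2 h) hne
          | exact absurd (hcomb _ _ c.z_mem_Z2 h) hej
          | (refine absurd (moved_mod hT hT2 hz c.u_mem_C c.orderOf_u he ?_) hne
             show e⁻¹ * e' ∈ c.Z2
             rw [inv_eq_of_mul_eq_one_left he2]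
             first
             | (rw [h]; exact one_mem _)
             | (rw [mul_assoc] at h; exact hcomb _ _ c.z_mem_Z2 h))
      intro p q hpq
      obtain ⟨r, hr⟩ := A.mul_mem ⟨p, rfl⟩ ⟨q, rfl⟩
      have h1 : f p * f q = 1 := by rw [hpq]; exact hfsq q
      rw [h1] at hr
      -- the product formula
      obtain ⟨i, j, k⟩ := p
      obtain ⟨i', j', k'⟩ := q
      have h2 : f (i + i', j + j', k + k') = 1 := by
        have hp : ∀ (x : G) (a b : Fin 2), x * x = 1 → x ^ ((a + b : Fin 2) : ℕ) = x ^ (a : ℕ) * x ^ (b : ℕ) := by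
          intro x a b hx
          fin_cases a <;> fin_cases b <;> simp [hx]
        have h3 : Commute (e ^ (j : ℕ) * e' ^ (k : ℕ)) (c.z ^ (i' : ℕ)) :=
          (hez.pow_pow _ _).mul_left (he'z.pow_pow _ _)
        have h4 : Commute (e' ^ (k : ℕ)) (e ^ (j' : ℕ)) := hee.symm.pow_pow _ _
        rw [← h1]
        show c.z ^ _ * e ^ _ * e' ^ _ = _
        rw [hp _ _ _ c.z_sq, hp _ _ _ he2, hp _ _ _ he'2]
        calc c.z ^ (i : ℕ) * c.z ^ (i' : ℕ) * (e ^ (j : ℕ) * e ^ (j' : ℕ)) * (e' ^ (k : ℕ) * e' ^ (k' : ℕ))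
            = c.z ^ (i : ℕ) * c.z ^ (i' : ℕ) * e ^ (j : ℕ) * (e ^ (j' : ℕ) * e' ^ (k : ℕ)) * e' ^ (k' : ℕ) := by group
          _ = c.z ^ (i : ℕ) * (c.z ^ (i' : ℕ) * (e ^ (j : ℕ) * e' ^ (k : ℕ))) * e ^ (j' : ℕ) * e' ^ (k' : ℕ) := by
            rw [← h4.eq]; group
          _ = _ := by rw [← h3.eq]; simp only [f]; group
      have h5 := key _ h2
      simp only [Prod.mk.injEq] at h5 ⊢
      obtain ⟨h6, h7, h8⟩ := h5
      refine ⟨?_, ?_, ?_⟩
      · exact fin2_eq _ _ h6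
      · exact fin2_eq _ _ h7
      · exact fin2_eq _ _ h8
    rw [hUeq]
    show Nat.card (Set.range f) = 8
    rw [Nat.card_range_of_injective hinj, Nat.card_eq_fintype_card]
    rfl
  · rw [hUeq] at hx
    obtain ⟨p, rfl⟩ := hx
    exact hfsq p

namespace SolvShape

variable (d : c.SolvShape) (S : Sylow 2 G)

/-- An elementary normal subgroup of order eight, with a vector fixed modulo `z` by the Sylow subgroup. -/
structure UData where
  /-- The subgroup. -/
  U : Subgroup G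
  /-- The vector. -/
  e : G
  le : U ≤ d.T
  normal : c.C ≤ normalizer (U : Set G)
  z_mem : c.z ∈ U
  card : Nat.card U = 8
  sq : ∀ x ∈ U, x * x = 1
  comm : ∀ x ∈ U, ∀ t ∈ d.T, x * t * x⁻¹ * t⁻¹ ∈ c.Z2
  e_mem : e ∈ U
  e_notMem : e ∉ c.Z2
  fixed : ∀ s ∈ (S : Subgroup G), s * e * s⁻¹ * e⁻¹ ∈ c.Z2

variable {S}

/-- An involution in `Y` fixed modulo `z` by the Sylow subgroup gives the data. -/
theorem uData_of_fixed (hS : (S : Subgroup G) ≤ c.C) {e : G} (heY : InY c d.T e) (he2 : e * e = 1) (hne : e ∉ c.Z2)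
    (hfix : ∀ s ∈ (S : Subgroup G), s * e * s⁻¹ * e⁻¹ ∈ c.Z2) : Nonempty (d.UData S) := by
  obtain ⟨U, hcard, hsq, hUT, hzU, heU, huU, hUeq⟩ :=
    exists_quad d.T_le d.T_isTwo d.z_mem_T d.u_normalizes heY.1 he2 hne
  have hUY : ∀ x ∈ U, InY c d.T x := by
    intro x hx
    let Y : Subgroup G :=
      { carrier := {x | InY c d.T x}
        one_mem' := InY.of_Z2 d.T_le d.z_mem_T (one_mem _)
        mul_mem' := fun ha hb => InY.mul d.T_le ha hb
        inv_mem' := fun {a} ha => by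
          have h1 : InY c d.T (a * (a * a)⁻¹) := InY.mul d.T_le ha (InY.of_Z2 d.T_le d.z_mem_T (inv_mem ha.2.1))
          have h2 : a * (a * a)⁻¹ = a⁻¹ := by group
          rw [h2] at h1
          exact h1 }
    have hle : U ≤ Y := by
      rw [hUeq]
      exact sup_le (sup_le (fun a ha => InY.of_Z2 d.T_le d.z_mem_T ha) (zpowers_le.mpr heY))
        (zpowers_le.mpr (InY.conj c.u_mem_C d.u_normalizes heY))
    exact hle hx
  have hcommT : ∀ x ∈ U, ∀ t ∈ d.T, x * t * x⁻¹ * t⁻¹ ∈ c.Z2 := fun x hx => (hUY x hx).2.2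
  set M := c.C ⊓ normalizer (U : Set G)
  have hZU : c.Z2 ≤ U := zpowers_le.mpr hzU
  have mk : ∀ g ∈ c.C, (∀ x ∈ U, g * x * g⁻¹ ∈ U) → g ∈ M := by
    refine fun g hg hconj => ⟨hg, ?_⟩
    have hmap : U.map (MulAut.conj g).toMonoidHom ≤ U := by
      rintro _ ⟨x, hx, rfl⟩; exact hconj x hx
    have heq := eq_of_le_of_card_ge hmap (by rw [card_map_of_injective (MulEquiv.injective _)])
    refine mem_normalizer_iff.mpr fun x => ⟨fun hx => heq ▸ mem_map_of_mem _ hx, fun hx => ?_⟩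
    rw [← heq] at hx
    obtain ⟨y, hy, hy'⟩ := hx
    exact (MulAut.conj g).injective hy' ▸ hy
  have hT : d.T ≤ M := fun t ht => mk t (d.T_le ht) fun x hx => by
    have h1 := hZU (inv_mem (hcommT x hx t ht))
    have h2 : t * x * t⁻¹ = (x * t * x⁻¹ * t⁻¹)⁻¹ * x := by group
    rw [h2]; exact mul_mem h1 hx
  have hK : d.K ≤ M := fun k hk => mk k (d.K_le hk) fun x hx => by
    rw [← (d.T_comm_K (hUT hx) hk).eq, mul_inv_cancel_right]; exact hx
  have hu : c.u ∈ M := ⟨c.u_mem_C, huU⟩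
  have hSM : (S : Subgroup G) ≤ M := by
    intro s hs
    refine mk s (hS hs) ?_
    have he : s * e * s⁻¹ ∈ U := by
      have h2 : s * e * s⁻¹ = (s * e * s⁻¹ * e⁻¹) * e := by group
      rw [h2]; exact mul_mem (hZU (hfix s hs)) heU
    by_cases hsT : s ∈ d.T
    · intro x hx; exact (mem_normalizer_iff.mp (hT hsT).2 x).mp hx
    -- `s` inverts `u` modulo the kernel
    obtain ⟨-, -, hinv⟩ := perm3_commutator _ _ (d.phi_invol_of_isTwo (x := ⟨s, hS hs⟩) (IsTwo.of_mem S.2 hs))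
      (fun h1 => hsT (d.mem_T_of_phi hS hs h1)) d.phi_u_three d.hu
    -- conjugates of `e` by kernel elements stay in its class modulo `z`
    have hker : ∀ n : c.C, d.φ n = 1 → ∀ x ∈ U, (n : G) * x * (n : G)⁻¹ ∈ U := by
      intro n hn x hx
      refine (mem_normalizer_iff.mp ((?_ : (n : G) ∈ M)).2 x).mp hx
      obtain ⟨k, m, hm, hk⟩ := exists_two_split (n : G)
      refine mem_of_pow_mem (a := 2 ^ k) (b := m) (Nat.Coprime.pow_left k (Nat.coprime_two_left.mpr hm)) (hK ?_)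
        (hT (d.mem_T.mpr ⟨pow_mem n.2 _, by
          show d.φ (n ^ m) = 1
          rw [map_pow, hn, one_pow], isTwo_pow_odd _ hk⟩))
      refine d.mem_K.mpr ⟨pow_mem n.2 _, ?_⟩
      have hd : orderOf ((n : G) ^ 2 ^ k) ∣ m := orderOf_dvd_of_pow_eq_one (by rw [← pow_mul, ← hk, pow_orderOf_eq_one])
      refine Nat.Coprime.coprime_dvd_left hd ?_
      rw [show 6 = 2 * 3 by rfl]
      refine Nat.Coprime.mul_right (Nat.coprime_two_right.mpr hm) (d.cop.coprime_dvd_left ?_)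
      refine (dvd_mul_left m (2 ^ k)).trans ?_
      rw [← hk, show orderOf (n : G) = orderOf (⟨n, hn⟩ : d.φ.ker) by rw [← Subgroup.orderOf_coe, ← Subgroup.orderOf_coe]]
      exact _root_.orderOf_dvd_natCard _
    let n : c.C := c.uC * ⟨s, hS hs⟩ * c.uC * (⟨s, hS hs⟩ : c.C)⁻¹
    have hn : d.φ n = 1 := by
      simp only [n, map_mul, map_inv]
      rw [mul_assoc (d.φ c.uC), mul_assoc, hinv, mul_inv_cancel]
    have he' : s * (c.u * e * c.u⁻¹) * s⁻¹ ∈ U := by
      have h1 : s * (c.u * e * c.u⁻¹) * s⁻¹ = c.u⁻¹ * ((n : G) * (s * e * s⁻¹) * (n : G)⁻¹) * c.u := by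
        simp only [n, coe_mul, coe_inv]
        show _ = c.u⁻¹ * (c.u * s * c.u * s⁻¹ * (s * e * s⁻¹) * (c.u * s * c.u * s⁻¹)⁻¹) * c.u
        group
      rw [h1]
      have h2 := (mem_normalizer_iff.mp (inv_mem huU) _).mp (hker n hn _ he)
      rwa [inv_inv] at h2
    have hle : U.map (MulAut.conj s).toMonoidHom ≤ U := by
      refine map_le_iff_le_comap.mpr ?_
      conv_lhs => rw [hUeq]
      refine sup_le (sup_le (zpowers_le.mpr ?_) (zpowers_le.mpr he)) (zpowers_le.mpr he')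
      show s * c.z * s⁻¹ ∈ U
      rw [c.conj_z (hS hs)]; exact hzU
    intro x hx
    exact hle ⟨x, hx, rfl⟩
  exact ⟨⟨U, e, hUT, fun g hg => (d.eq_of_gen hS hK hu hSM hg).2, hzU, hcard, hsq, hcommT, heU, hne, hfix⟩⟩

/-- The trichotomy. -/
theorem dichotomy (hS : (S : Subgroup G) ≤ c.C) :
    d.T = c.Z2 ∨ (Nat.card d.T = 8 ∧ ∀ x ∈ d.T, x ∉ c.Z2 → x * x = c.z) ∨ Nonempty (d.UData S) := by
  classical
  by_cases hT : d.T ≤ c.Z2
  · exact Or.inl (le_antisymm hT d.Z2_le_T)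
  right
  obtain ⟨a, -, haY, haz⟩ := exists_inY d.T_le d.T_isTwo le_rfl le_normalizer d.z_mem_T hT
  by_cases hinv : ∃ e, InY c d.T e ∧ e * e = 1 ∧ e ∉ c.Z2
  · -- find an involution fixed modulo `z`
    right
    obtain ⟨e, heY, he2, hez⟩ := hinv
    by_cases hw : ∀ s ∈ (S : Subgroup G), s ∈ d.T
    · exact d.uData_of_fixed hS heY he2 hez fun s hs => by
        have := inv_mem (heY.2.2 s (hw s hs))
        rwa [show (e * s * e⁻¹ * s⁻¹)⁻¹ = s * e * s⁻¹ * e⁻¹ by group] at this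
    push Not at hw
    obtain ⟨w, hw, hwT⟩ := hw
    have hwC := hS hw
    have hwn := d.T_normal hwC
    -- it suffices that `w` fixes the involution
    suffices hsuff : ∃ f, InY c d.T f ∧ f * f = 1 ∧ f ∉ c.Z2 ∧ w * f * w⁻¹ * f⁻¹ ∈ c.Z2 by
      obtain ⟨f, hfY, hf2, hfz, hfw⟩ := hsuff
      refine d.uData_of_fixed hS hfY hf2 hfz fun s hs => ?_
      have hT' : ∀ t ∈ d.T, t * f * t⁻¹ * f⁻¹ ∈ c.Z2 := fun t ht => by
        have := inv_mem (hfY.2.2 t ht)
        rwa [show (f * t * f⁻¹ * t⁻¹)⁻¹ = t * f * t⁻¹ * f⁻¹ by group] at this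
      by_cases hsT : s ∈ d.T
      · exact hT' s hsT
      have ht := d.diff_mem_T hS hs hw hsT hwT
      have h1 := (mem_normalizer_iff.mp (c.Z2_normal hwC) _).mp (hT' _ ht)
      rw [show s * f * s⁻¹ * f⁻¹ =
        w * (w⁻¹ * s * f * (w⁻¹ * s)⁻¹ * f⁻¹) * w⁻¹ * (w * f * w⁻¹ * f⁻¹) by group]
      exact mul_mem h1 hfw
    set e' := c.u * e * c.u⁻¹ with he'
    have he'Y : InY c d.T e' := heY.conj c.u_mem_C d.u_normalizes
    have he'2 : e' * e' = 1 := by rw [he', conj_mul, he2]; group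
    have hee : Commute e e' := c.comm_orbit d.T_le d.T_isTwo d.z_mem_T c.u_mem_C c.orderOf_u d.u_normalizes heY.1 he2
    have hee'z : e * e' ∉ c.Z2 := fun hm => hez (moved_mod d.T_le d.T_isTwo d.z_mem_T c.u_mem_C c.orderOf_u heY.1
      (by rwa [inv_eq_of_mul_eq_one_left he2, ← he']))
    have he'z : e' ∉ c.Z2 := fun hm => hez ((mem_normalizer_iff.mp (c.Z2_normal c.u_mem_C) e).mpr hm)
    have hee2 : e * e' * (e * e') = 1 := by
      rw [show e * e' * (e * e') = e * (e' * e) * e' by group, ← hee.eq,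
        show e * (e * e') * e' = e * e * (e' * e') by group, he2, he'2, one_mul]
    -- if `x` commutes with its image then their product is fixed, unless it is trivial modulo `z`
    have step : ∀ x, InY c d.T x → x * x = 1 → x ∉ c.Z2 → Commute x (w * x * w⁻¹) →
        ∃ f, InY c d.T f ∧ f * f = 1 ∧ f ∉ c.Z2 ∧ w * f * w⁻¹ * f⁻¹ ∈ c.Z2 := by
      intro x hxY hx2 hxz hc
      set x' := w * x * w⁻¹ with hx'
      have hx'2 : x' * x' = 1 := by rw [hx', conj_mul, hx2]; group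
      by_cases hxx : x * x' ∈ c.Z2
      · refine ⟨x, hxY, hx2, hxz, ?_⟩
        rw [← hx', inv_eq_of_mul_eq_one_left hx2, ← hc.eq]; exact hxx
      · refine ⟨x * x', hxY.mul d.T_le (hxY.conj hwC hwn), ?_, hxx, ?_⟩
        · rw [show x * x' * (x * x') = x * (x' * x) * x' by group, ← hc.eq,
            show x * (x * x') * x' = x * x * (x' * x') by group, hx2, hx'2, one_mul]
        -- `w²` lies in `T`
        have hw2 : w * w ∈ d.T := by
          have h1 := d.diff_mem_T hS hw (inv_mem hw) hwT (fun h => hwT (inv_mem_iff.mp h))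
          rwa [inv_inv] at h1
        have h1 : w * x' * w⁻¹ * x⁻¹ ∈ c.Z2 := by
          have h3 := inv_mem (hxY.2.2 _ hw2)
          rwa [show (x * (w * w) * x⁻¹ * (w * w)⁻¹)⁻¹ = w * x' * w⁻¹ * x⁻¹ by
            rw [hx']; simp only [mul_inv_rev, inv_inv, mul_assoc]] at h3
        rw [show w * (x * x') * w⁻¹ = x' * (w * x' * w⁻¹) by rw [hx']; group, mul_inv_rev]
        have h4 := (mem_normalizer_iff.mp (c.Z2_normal (d.T_le (hxY.conj hwC hwn).1)) _).mp h1
        rwa [show x' * (w * x' * w⁻¹ * x⁻¹) * x'⁻¹ = x' * (w * x' * w⁻¹) * (x'⁻¹ * x⁻¹) from by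
          rw [show x'⁻¹ * x⁻¹ = x⁻¹ * x'⁻¹ by rw [← mul_inv_rev, ← mul_inv_rev, hc.eq]]; group] at h4
    by_contra hno
    have hna : ¬ Commute e (w * e * w⁻¹) := fun hc => hno (step e heY he2 hez hc)
    have hnb : ¬ Commute e' (w * e' * w⁻¹) := fun hc => hno (step e' he'Y he'2 he'z hc)
    refine hno (step (e * e') (heY.mul d.T_le he'Y) hee2 hee'z ?_)
    -- the commutator is bilinear with values in `⟨z⟩`
    set a' := w * e * w⁻¹ with ha'
    set b' := w * e' * w⁻¹ with hb'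
    have haY' : InY c d.T a' := heY.conj hwC hwn
    have hbY' : InY c d.T b' := he'Y.conj hwC hwn
    rw [show w * (e * e') * w⁻¹ = a' * b' by rw [ha', hb']; group]
    let K : G → G → G := fun x y => x * y * x⁻¹ * y⁻¹
    have hcomm : ∀ {x y : G}, K x y = 1 → Commute x y := fun h => mul_inv_eq_iff_eq_mul.mp (mul_inv_eq_one.mp h)
    have hzc : ∀ {x y : G}, x ∈ c.Z2 → y ∈ c.C → Commute x y := fun hx hy => by
      rcases c.mem_Z2.mp hx with rfl | rfl
      · exact Commute.one_left _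
      · exact (c.comm_z hy).symm
    have kz : ∀ {x y : G}, InY c d.T x → y ∈ d.T → K x y ∈ c.Z2 := fun hx hy => hx.2.2 _ hy
    have kl : ∀ {x x' y : G}, InY c d.T x → InY c d.T x' → y ∈ d.T → K (x * x') y = K x' y * K x y := by
      intro x x' y hx hx' hy
      show x * x' * y * (x * x')⁻¹ * y⁻¹ = _
      rw [show x * x' * y * (x * x')⁻¹ * y⁻¹ = x * K x' y * x⁻¹ * K x y by simp only [K]; group,
        ← (hzc (kz hx' hy) (d.T_le hx.1)).eq, mul_inv_cancel_right]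
    have kr : ∀ {x y y' : G}, InY c d.T x → y ∈ d.T → y' ∈ d.T → K x (y * y') = K x y * K x y' := by
      intro x y y' hx hy hy'
      rw [show K x (y * y') = K x y * (y * K x y' * y⁻¹) by simp only [K]; group,
        ← (hzc (kz hx hy') (d.T_le hy)).eq, mul_inv_cancel_right]
    have kinv : ∀ {x y : G}, InY c d.T x → y ∈ d.T → K x y * K x y = 1 := by
      intro x y hx hy
      rcases c.mem_Z2.mp (kz hx hy) with e1 | e1 <;> rw [e1]
      · exact one_mul 1
      · exact c.z_sq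
    have ksymm : ∀ {x y : G}, InY c d.T x → InY c d.T y → K x y = K y x := by
      intro x y hx hy
      have h1 : K y x = (K x y)⁻¹ := by simp only [K]; group
      rw [h1, inv_eq_of_mul_eq_one_left (kinv hx hy.1)]
    have kone : ∀ {x y : G}, InY c d.T x → y ∈ d.T → ¬ Commute x y → K x y = c.z := fun hx hy hn =>
      (c.mem_Z2.mp (kz hx hy)).resolve_left fun h => hn (hcomm h)
    -- conjugating by `w`
    have hw2 : w * w ∈ d.T := by
      have h1 := d.diff_mem_T hS hw (inv_mem hw) hwT (fun h => hwT (inv_mem_iff.mp h))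
      rwa [inv_inv] at h1
    have hcross : K e b' = K e' a' := by
      obtain ⟨m, hm, hm'⟩ : ∃ m ∈ c.Z2, w * b' * w⁻¹ = m * e' := by
        refine ⟨_, inv_mem (he'Y.2.2 _ hw2), ?_⟩
        rw [hb']
        simp only [mul_inv_rev, inv_inv, mul_assoc, inv_mul_cancel, mul_one]
      have h1 : w * K e b' * w⁻¹ = K e b' := by
        rw [← (hzc (kz heY hbY'.1) hwC).eq, mul_inv_cancel_right]
      have h2 : K e b' = K a' (m * e') := by
        rw [← h1, ← hm']; simp only [K, ha']; group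
      have hmT : m ∈ d.T := d.Z2_le_T hm
      have h3 : K a' m = 1 := by
        show a' * m * a'⁻¹ * m⁻¹ = 1
        rw [← (hzc hm (d.T_le haY'.1)).eq, mul_inv_cancel_right, mul_inv_cancel]
      rw [h2, kr haY' hmT he'Y.1, h3, one_mul, ksymm haY' he'Y]
    apply hcomm
    rw [kl heY he'Y (mul_mem haY'.1 hbY'.1), kr he'Y haY'.1 hbY'.1, kr heY haY'.1 hbY'.1,
      kone he'Y hbY'.1 hnb, kone heY haY'.1 hna, hcross]
    rcases c.mem_Z2.mp (kz he'Y haY'.1) with e1 | e1 <;> rw [e1] <;> simp [c.z_sq]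
  -- no such involution
  left
  push Not at hinv
  have hsq : ∀ y, InY c d.T y → y ∉ c.Z2 → y * y = c.z := fun y hy hyz =>
    (c.mem_Z2.mp hy.2.1).resolve_left fun h => hyz (hinv y hy h)
  have hcm : ∀ x y, InY c d.T x → InY c d.T y → x ∉ c.Z2 → y ∉ c.Z2 → Commute x y → x * y ∈ c.Z2 := by
    intro x y hx hy hxz hyz hc
    refine hinv _ (hx.mul d.T_le hy) ?_
    rw [show x * y * (x * y) = x * (y * x) * y by group, ← hc.eq,
      show x * (x * y) * y = (x * x) * (y * y) by group, hsq x hx hxz, hsq y hy hyz, c.z_sq]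
  set b := c.u * a * c.u⁻¹ with hb
  have hbY : InY c d.T b := haY.conj c.u_mem_C d.u_normalizes
  have hbz : b ∉ c.Z2 := fun hm => haz ((mem_normalizer_iff.mp (c.Z2_normal c.u_mem_C) a).mpr hm)
  have hZT := d.Z2_le_T
  have hab : ¬ Commute a b := by
    intro hc
    have h1 := hcm a b haY hbY haz hbz hc
    refine haz (moved_mod d.T_le d.T_isTwo d.z_mem_T c.u_mem_C c.orderOf_u haY.1 ?_)
    have h2 : a⁻¹ * b = (a * a)⁻¹ * (a * b) := by group
    rw [← hb, h2]
    exact mul_mem (inv_mem haY.2.1) h1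
  have hab' : a * b * a⁻¹ * b⁻¹ = c.z :=
    (c.mem_Z2.mp (haY.2.2 b hbY.1)).resolve_left fun h =>
      hab (mul_inv_eq_iff_eq_mul.mp (mul_inv_eq_one.mp h))
  set D := d.T ⊓ centralizer ({a, b} : Set G) with hDdef
  have hmemD : ∀ {t : G}, t ∈ D ↔ t ∈ d.T ∧ Commute t a ∧ Commute t b := by
    intro t
    rw [hDdef, mem_inf, mem_centralizer_iff]
    constructor
    · rintro ⟨h1, h2⟩; exact ⟨h1, (h2 a (Or.inl rfl)).symm, (h2 b (Or.inr rfl)).symm⟩
    · rintro ⟨h1, h2, h3⟩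
      refine ⟨h1, ?_⟩
      rintro x (rfl | rfl)
      · exact h2.eq.symm
      · exact h3.eq.symm
  have hDz : c.z ∈ D := hmemD.mpr ⟨d.z_mem_T, (c.comm_z (d.T_le haY.1)).symm, (c.comm_z (d.T_le hbY.1)).symm⟩
  have hDn : d.T ≤ normalizer (D : Set G) := by
    have key : ∀ t ∈ d.T, ∀ x ∈ D, t * x * t⁻¹ ∈ D := by
      intro t ht x hx
      obtain ⟨hxT, hxa, hxb⟩ := hmemD.mp hx
      have h : ∀ y, InY c d.T y → Commute x y → Commute (t * x * t⁻¹) y := by
        intro y hy hxy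
        have h1 : Commute x (t⁻¹ * y * t) := by
          have h2 : t⁻¹ * y * t = (y * t⁻¹ * y⁻¹ * t⁻¹⁻¹)⁻¹ * y := by group
          rw [h2]
          refine Commute.mul_right ?_ hxy
          rcases c.mem_Z2.mp (inv_mem (hy.2.2 _ (inv_mem ht))) with e1 | e1 <;> rw [e1]
          · exact Commute.one_right _
          · exact c.comm_z (d.T_le hxT)
        have h3 := h1.map (MulAut.conj t).toMonoidHom
        simp only [MulEquiv.toMonoidHom_eq_coe, MonoidHom.coe_coe, MulAut.conj_apply] at h3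
        rwa [show t * (t⁻¹ * y * t) * t⁻¹ = y by group] at h3
      exact hmemD.mpr ⟨mul_mem (mul_mem ht hxT) (inv_mem ht), h a haY hxa, h b hbY hxb⟩
    intro t ht
    refine mem_normalizer_iff.mpr fun x => ⟨key t ht x, fun hx => ?_⟩
    have := key t⁻¹ (inv_mem ht) _ hx
    rwa [show t⁻¹ * (t * x * t⁻¹) * t⁻¹⁻¹ = x by group] at this
  have hD : D ≤ c.Z2 := by
    by_contra hne
    obtain ⟨y, hyD, hyY, hyz⟩ := exists_inY d.T_le d.T_isTwo inf_le_left hDn hDz hne
    obtain ⟨-, hya, hyb⟩ := hmemD.mp hyD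
    have h1 := hcm y a hyY haY hyz haz hya
    refine hab ?_
    have h3 : a = y⁻¹ * (y * a) := by group
    rw [h3]
    refine (hyb.inv_left).mul_left ?_
    rcases c.mem_Z2.mp h1 with e1 | e1 <;> rw [e1]
    · exact Commute.one_left _
    · exact (c.comm_z (d.T_le hbY.1)).symm
  -- the map to the pairs of commutators
  let g : G → Bool × Bool := fun t => (decide (Commute t a), decide (Commute t b))
  have hval : ∀ {t y : G}, t ∈ d.T → InY c d.T y → (Commute t y ↔ t * y * t⁻¹ = y) ∧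
      (¬ Commute t y ↔ t * y * t⁻¹ = c.z * y) := by
    intro t y ht hy
    have h1 : (Commute t y ↔ t * y * t⁻¹ = y) := mul_inv_eq_iff_eq_mul.symm
    refine ⟨h1, ⟨fun hn => ?_, fun h2 hc => ?_⟩⟩
    · rcases c.mem_Z2.mp (inv_mem (hy.2.2 t ht)) with e1 | e1
      · exact absurd (h1.mpr (by rw [show t * y * t⁻¹ = (y * t * y⁻¹ * t⁻¹)⁻¹ * y by group, e1, one_mul])) hn
      · rw [show t * y * t⁻¹ = (y * t * y⁻¹ * t⁻¹)⁻¹ * y by group, e1]
    · rw [h1.mp hc] at h2
      exact c.z_ne (mul_right_cancel (h2.symm.trans (one_mul y).symm))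
  have hfib : ∀ {s t : G}, s ∈ d.T → t ∈ d.T → g s = g t → t⁻¹ * s ∈ c.Z2 := by
    intro s t hs ht hg
    simp only [g, Prod.mk.injEq, decide_eq_decide] at hg
    have key : ∀ y, InY c d.T y → (Commute s y ↔ Commute t y) → Commute (t⁻¹ * s) y := by
      intro y hy hiff
      have heq : s * y * s⁻¹ = t * y * t⁻¹ := by
        by_cases hc : Commute s y
        · rw [(hval hs hy).1.mp hc, (hval ht hy).1.mp (hiff.mp hc)]
        · rw [(hval hs hy).2.mp hc, (hval ht hy).2.mp (fun h => hc (hiff.mpr h))]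
      refine mul_inv_eq_iff_eq_mul.mp ?_
      calc t⁻¹ * s * y * (t⁻¹ * s)⁻¹ = t⁻¹ * (s * y * s⁻¹) * t := by group
        _ = y := by rw [heq]; group
    exact hD (hmemD.mpr ⟨mul_mem (inv_mem ht) hs, key a haY hg.1, key b hbY hg.2⟩)
  -- representatives
  have hsurj : ∀ p, ∃ y, InY c d.T y ∧ g y = p := by
    rintro ⟨_ | _, _ | _⟩
    · refine ⟨a * b, haY.mul d.T_le hbY, ?_⟩
      simp only [g, Prod.mk.injEq, decide_eq_false_iff_not]
      refine ⟨fun hc => hab ?_, fun hc => hab ?_⟩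
      · have h1 := ((Commute.refl a).inv_left).mul_left hc
        rw [inv_mul_cancel_left] at h1
        exact h1.symm
      · have h1 := hc.mul_left (Commute.refl b).inv_left
        rwa [mul_inv_cancel_right] at h1
    · refine ⟨b, hbY, ?_⟩
      simp only [g, Prod.mk.injEq, decide_eq_false_iff_not, decide_eq_true_eq]
      exact ⟨fun hc => hab hc.symm, Commute.refl b⟩
    · refine ⟨a, haY, ?_⟩
      simp only [g, Prod.mk.injEq, decide_eq_false_iff_not, decide_eq_true_eq]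
      exact ⟨Commute.refl a, hab⟩
    · exact ⟨1, InY.of_Z2 d.T_le d.z_mem_T (one_mem _), by simp [g]⟩
  refine ⟨?_, fun x hx hxz => ?_⟩
  · choose r hrY hrg using hsurj
    let F : (Bool × Bool) × c.Z2 → d.T := fun p => ⟨r p.1 * p.2, mul_mem (hrY p.1).1 (hZT p.2.2)⟩
    have hF : Function.Bijective F := by
      refine ⟨fun p q h => ?_, fun t => ?_⟩
      · have h1 : r p.1 * (p.2 : G) = r q.1 * q.2 := congrArg Subtype.val h
        have hgz : ∀ (p : (Bool × Bool) × c.Z2), g (r p.1 * p.2) = p.1 := fun p => by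
          have hz : ∀ {y : G}, y ∈ d.T → Commute (p.2 : G) y := fun hy => by
            rcases c.mem_Z2.mp p.2.2 with e1 | e1 <;> rw [e1]
            · exact Commute.one_left _
            · exact (c.comm_z (d.T_le hy)).symm
          have hiff : ∀ {y : G}, y ∈ d.T → (Commute (r p.1 * p.2) y ↔ Commute (r p.1) y) := fun hy =>
            ⟨fun h2 => by simpa using h2.mul_left (hz hy).inv_left, fun h2 => h2.mul_left (hz hy)⟩
          conv_rhs => rw [← hrg p.1]
          simp only [g, hiff haY.1, hiff hbY.1]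
        have h2 : p.1 = q.1 := by rw [← hgz p, ← hgz q, h1]
        obtain ⟨p1, p2⟩ := p
        obtain ⟨q1, q2⟩ := q
        simp only at h2
        subst h2
        exact Prod.ext rfl (Subtype.ext (mul_left_cancel h1))
      · refine ⟨(g t, ⟨(r (g t))⁻¹ * t, hfib t.2 (hrY _).1 (hrg _).symm⟩), Subtype.ext ?_⟩
        exact mul_inv_cancel_left (r (g t)) (t : G)
    rw [← Nat.card_congr (Equiv.ofBijective F hF), Nat.card_prod, c.card_Z2, Nat.card_eq_fintype_card]
    rfl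
  · obtain ⟨y, hyY, hyg⟩ := hsurj (g x)
    have h1 := hfib hx hyY.1 hyg.symm
    refine hsq x ?_ hxz
    have h2 := InY.mul d.T_le hyY (InY.of_Z2 d.T_le d.z_mem_T h1)
    rwa [mul_inv_cancel_left] at h2

end SolvShape

end Cfg

end Cfsg.Agent.Invol.CentSix
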